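import Cfsg.Agent.Lib.Classical.OrthTorsionReal
import Cfsg.Agent.Lib.GLn.TorsionPow

/-!
# Building blocks for orthogonal elements of odd prime order
-/

set_option autoImplicit false

namespace Cfsg.Agent.Lib.Classical.OrthTorsion

open Polynomial QuadraticMap Cfsg.Agent.Lib.Classical.Quad Cfsg.Agent.Lib.Classical.QuadOmega
open Cfsg.Agent.Lib.Classical.QuadF2
open Cfsg.Agent.Lib.GLn.ReciprocalTorsion

universe u v w

variable {F : Type u} [Field F]

theorem charpoly_inv_eq_star {ι : Type} [Fintype ι] [DecidableEq ι] (M : GL ι F) :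
    (((M⁻¹ : GL ι F) : Matrix ι ι F)).charpoly =
      GLn.ReciprocalTorsion.star (M : Matrix ι ι F).charpoly := by
  have hu : IsUnit (M : Matrix ι ι F) := M.isUnit
  rw [Matrix.coe_units_inv, Matrix.charpoly_inv _ hu, GLn.ReciprocalTorsion.star, ← Matrix.reverse_charpoly]
  congr 1
  rw [Matrix.det_eq_sign_charpoly_coeff, Ring.inverse_eq_inv', mul_inv, C_mul, ← mul_assoc]
  have h : ((-1 : F[X])) ^ Fintype.card ι * C ((-1 : F) ^ Fintype.card ι)⁻¹ = 1 := by
    rw [show (-1 : F[X]) ^ Fintype.card ι = C ((-1 : F) ^ Fintype.card ι) by simp, ← C_mul,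
      mul_inv_cancel₀ (pow_ne_zero _ (neg_ne_zero.2 one_ne_zero)), C_1]
  rw [h, one_mul]

/-- The hyperbolic form on a pair of dual spaces. -/
noncomputable def hypQ (M : ℕ) : QuadraticForm F ((Fin M → F) × (Fin M → F)) :=
  ∑ i, QuadraticMap.linMulLin ((LinearMap.proj i).comp (LinearMap.fst F (Fin M → F) (Fin M → F)))
    ((LinearMap.proj i).comp (LinearMap.snd F (Fin M → F) (Fin M → F)))

theorem hypQ_apply (M : ℕ) (x : (Fin M → F) × (Fin M → F)) : hypQ M x = x.1 ⬝ᵥ x.2 := by
  simp [hypQ, dotProduct]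

/-- An element of the general linear group acts on both halves. -/
theorem real_split {V : Type v} [AddCommGroup V] [Module F V] [FiniteDimensional F V] (Q₀ : QuadraticForm F V)
    {M r : ℕ} (g : GL (Fin M) F) (hg : g ^ r = 1) :
    Real (splitQ M Q₀) r ((g : Matrix (Fin M) (Fin M) F).charpoly * star (g : Matrix (Fin M) (Fin M) F).charpoly *
      (X - 1) ^ Module.finrank F V) := by
  refine Real.prod (Q := hypQ M) ?_ (Real.one Q₀ r)
  set h : GL (Fin M) F := ⟨((g⁻¹ : GL (Fin M) F) : Matrix (Fin M) (Fin M) F).transpose,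
    (g : Matrix (Fin M) (Fin M) F).transpose, by rw [← Matrix.transpose_mul, Units.mul_inv, Matrix.transpose_one],
    by rw [← Matrix.transpose_mul, Units.inv_mul, Matrix.transpose_one]⟩ with hh
  let T := toAut (LinearEquiv.refl F (Fin M → F))
  have hhr : h ^ r = 1 := by
    apply Units.ext
    rw [Units.val_pow_eq_pow_val, Units.val_one, hh, ← Matrix.transpose_pow, ← Units.val_pow_eq_pow_val, inv_pow,
      hg, inv_one, Units.val_one, Matrix.transpose_one]
  have hc : ∀ x : GL (Fin M) F, (T x).toLinearMap.charpoly = (x : Matrix (Fin M) (Fin M) F).charpoly := fun x => by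
    rw [← Matrix.charpoly_toLin']
    rfl
  refine ⟨LinearEquiv.prodCongr (T g) (T h), fun x => ?_, ?_, ?_⟩
  · rw [hypQ_apply, hypQ_apply]
    show ((g : Matrix (Fin M) (Fin M) F).mulVec x.1) ⬝ᵥ
      (((g⁻¹ : GL (Fin M) F) : Matrix (Fin M) (Fin M) F).transpose.mulVec x.2) = _
    rw [Matrix.dotProduct_mulVec, Matrix.vecMul_transpose, Matrix.mulVec_mulVec, Units.inv_mul, Matrix.one_mulVec]
  · rw [prodCongr_pow, ← map_pow, ← map_pow, hg, hhr, map_one]; exact LinearEquiv.ext fun x => rfl
  · rw [show (LinearEquiv.prodCongr (T g) (T h)).toLinearMap = (T g).toLinearMap.prodMap (T h).toLinearMap from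
      LinearMap.ext fun x => rfl, LinearMap.charpoly_prodMap, hc, hc, ← charpoly_inv_eq_star]
    show _ * Matrix.charpoly (((g⁻¹ : GL (Fin M) F) : Matrix (Fin M) (Fin M) F).transpose) = _
    rw [Matrix.charpoly_transpose]

variable [Fintype F] {p q : ℕ} [Fact p.Prime] [CharP F p]

include p in
/-- Padded half. -/
theorem exists_half_gl {r : ℕ} (hr : r.Prime) (hrp : r ≠ p) {A : F[X]} (hA : A.Monic)
    (hf : ∀ h : F[X], Irreducible h → h.Monic → h ∣ A → h ∣ X ^ r - 1) {M : ℕ} (hM : A.natDegree ≤ M) :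
    ∃ g : GL (Fin M) F, g ^ r = 1 ∧ (g : Matrix (Fin M) (Fin M) F).charpoly = A * (X - 1) ^ (M - A.natDegree) := by
  classical
  set B := A * (X - 1 : F[X]) ^ (M - A.natDegree) with hB
  have hX : (X - 1 : F[X]).Monic := by simpa using monic_X_sub_C (1 : F)
  have hBm : B.Monic := hA.mul (hX.pow _)
  have hBd : B.natDegree = M := by
    rw [hB, hA.natDegree_mul (hX.pow _), hX.natDegree_pow,
      show (X - 1 : F[X]).natDegree = 1 by simpa using natDegree_X_sub_C (1 : F), mul_one]
    omega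
  have hBf : ∀ h : F[X], Irreducible h → h.Monic → h ∣ B → h ∣ X ^ r - 1 := fun h hh hhm hd =>
    (hh.prime.dvd_or_dvd hd).elim (hf h hh hhm) fun h' =>
      (hh.prime.dvd_of_dvd_pow h').trans (sub_one_dvd_pow_sub_one X r)
  have hdvd : B ∣ (X ^ r - 1 : F[X]) ^ (UniqueFactorizationMonoid.normalizedFactors B).card := by
    conv_lhs => rw [← factors_prod B hBm, ← Multiset.map_id (UniqueFactorizationMonoid.normalizedFactors B)]
    refine (Multiset.prod_dvd_prod_of_dvd id (fun _ => (X ^ r - 1 : F[X])) fun h hh => ?_).trans (by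
      rw [Multiset.map_const', Multiset.prod_replicate])
    exact hBf h (UniqueFactorizationMonoid.irreducible_of_normalized_factor h hh) (monic_of_mem_factors hh)
      (UniqueFactorizationMonoid.dvd_of_mem_normalizedFactors hh)
  obtain ⟨g, -, hgc, hgQ⟩ := GLn.TorsionClasses.exists_gl p B (X ^ r - 1) _ hBm hBd
    (coeff_zero_ne_of_factors hr.ne_zero hBf) hdvd
  exact ⟨g, (GLn.TorsionClasses.pow_eq_one_iff_aeval g r).2 hgQ, hgc⟩

/-- A non-degenerate block for one self-reciprocal factor. -/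
theorem exists_block {r : ℕ} (hr : r.Prime) (hr2 : r ≠ 2) {h : F[X]} (hh : Irreducible h) (hhm : h.Monic)
    (hd : h ∣ X ^ r - 1) (hs : star h = h) (h1 : h.eval 1 ≠ 0) :
    ∃ Q : QuadraticForm F (Fin h.natDegree → F), Nd Q ∧ Real Q r h := by
  classical
  haveI : Fact (Irreducible h) := ⟨hh⟩
  haveI : Module.Finite F (AdjoinRoot h) := (AdjoinRoot.powerBasis hh.ne_zero).finite
  set x := AdjoinRoot.root h with hx
  have hxr : x ^ r = 1 := by
    have := AdjoinRoot.mk_eq_zero.2 hd
    rwa [map_sub, map_pow, AdjoinRoot.mk_X, map_one, sub_eq_zero] at this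
  have hy : x * x ^ (r - 1) = 1 := by rw [← pow_succ', Nat.sub_add_cancel hr.one_le, hxr]
  have hx0 : aeval x h = 0 := by rw [AdjoinRoot.aeval_eq, AdjoinRoot.mk_self]
  have hy0 : aeval (x ^ (r - 1)) h = 0 := by
    have := aeval_star hy hx0
    rwa [hs] at this
  let σ : AdjoinRoot h →ₐ[F] AdjoinRoot h := AdjoinRoot.liftAlgHom h (Algebra.ofId F _) (x ^ (r - 1)) hy0
  have hσx : σ x = x ^ (r - 1) := AdjoinRoot.liftAlgHom_root _ _ _ _
  have hσσ : ∀ z, σ (σ z) = z := by
    have : σ.comp σ = AlgHom.id F _ := AdjoinRoot.algHom_ext (by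
      rw [AlgHom.comp_apply, ← hx, hσx, map_pow, hσx, ← pow_mul, AlgHom.id_apply]
      obtain ⟨s, rfl⟩ : ∃ s, r = s + 2 := ⟨r - 2, (Nat.sub_add_cancel hr.two_le).symm⟩
      rw [show (s + 2 - 1) * (s + 2 - 1) = (s + 2) * s + 1 by simp; ring, pow_succ, pow_mul, hxr, one_pow, one_mul])
    exact fun z => DFunLike.congr_fun this z
  obtain ⟨w₀, hw₀⟩ : ∃ w, w + σ w ≠ 0 := by
    by_contra! hc
    have h2 : (1 : AdjoinRoot h) + 1 = 0 := by simpa using hc 1
    have h3 : σ x = x := by linear_combination hc x - x * h2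
    have h4 : x * x = 1 := by
      conv_lhs => arg 2; rw [← h3, hσx]
      exact hy
    obtain ⟨k, hk⟩ := hr.odd_of_ne_two hr2
    rw [hk, pow_succ, pow_mul, pow_two, h4, one_pow, one_mul] at hxr
    rw [hxr] at hx0
    rw [← map_one (algebraMap F (AdjoinRoot h)), aeval_algebraMap_apply] at hx0
    exact h1 ((map_eq_zero_iff _ (algebraMap F (AdjoinRoot h)).injective).1 (by simpa using hx0))
  obtain ⟨ψ, hψ⟩ : ∃ ψ : Module.Dual F (AdjoinRoot h), ψ (w₀ + σ w₀) ≠ 0 := by
    by_contra! hc
    exact hw₀ ((Module.forall_dual_apply_eq_zero_iff F _).1 hc)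
  let β : AdjoinRoot h →ₗ[F] AdjoinRoot h →ₗ[F] F :=
    LinearMap.mk₂ F (fun u v => ψ (u * σ v)) (fun a b c => by simp [add_mul])
      (fun a b c => by simp) (fun a b c => by simp [mul_add]) (fun a b c => by simp)
  set Q : QuadraticForm F (AdjoinRoot h) := LinearMap.BilinMap.toQuadraticMap β with hQdef
  have hQ : ∀ u, Q u = ψ (u * σ u) := fun u => rfl
  have hpol : ∀ u v, polar Q u v = ψ (u * σ v + v * σ u) := fun u v => by
    simp only [polar, hQ, map_add, add_mul, mul_add]
    ring
  have hnd : Nd Q := by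
    intro u hu
    by_contra hu0
    have := hu (σ (w₀ * u⁻¹))
    rw [hpol, hσσ, mul_comm w₀, ← mul_assoc, mul_inv_cancel₀ hu0, one_mul, ← map_mul, mul_assoc,
      ] at this
    rw [show u⁻¹ * (w₀ * u) = w₀ by field_simp] at this
    exact hψ this
  let g : AdjoinRoot h ≃ₗ[F] AdjoinRoot h := LinearEquiv.ofLinear (LinearMap.mulLeft F x)
    (LinearMap.mulLeft F (x ^ (r - 1)))
    (LinearMap.ext fun z => by
      simp only [LinearMap.comp_apply, LinearMap.mulLeft_apply, LinearMap.id_apply]
      rw [← mul_assoc, hy, one_mul])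
    (LinearMap.ext fun z => by
      simp only [LinearMap.comp_apply, LinearMap.mulLeft_apply, LinearMap.id_apply]
      rw [← mul_assoc, mul_comm _ x, hy, one_mul])
  have hgk : ∀ (k : ℕ) z, (g ^ k) z = x ^ k * z := fun k => by
    induction k with
    | zero => intro z; simp
    | succ k ih => intro z; rw [pow_succ', LinearEquiv.mul_apply, ih, pow_succ', mul_assoc]; rfl
  have hreal : Real Q r h := by
    refine ⟨g, fun u => ?_, LinearEquiv.ext fun z => by rw [hgk, hxr, one_mul]; rfl, ?_⟩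
    · rw [hQ, hQ, show σ (g u) = x ^ (r - 1) * σ u by rw [show g u = x * u from rfl, map_mul, hσx],
        show g u = x * u from rfl,
        show x * u * (x ^ (r - 1) * σ u) = x * x ^ (r - 1) * (u * σ u) by ring, hy, one_mul]
    · rw [show g.toLinearMap = Algebra.lmul F (AdjoinRoot h) x from LinearMap.ext fun z => rfl,
        ← LinearMap.charpoly_toMatrix _ (AdjoinRoot.powerBasis hh.ne_zero).basis]
      have h' := charpoly_leftMulMatrix (AdjoinRoot.powerBasis hh.ne_zero)
      rw [AdjoinRoot.powerBasis_gen, Algebra.leftMulMatrix_apply] at h'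
      rw [h', AdjoinRoot.minpoly_root hh.ne_zero, hhm.leadingCoeff, inv_one, C_1, mul_one]
  let e : AdjoinRoot h ≃ₗ[F] (Fin h.natDegree → F) := (AdjoinRoot.powerBasis hh.ne_zero).basis.equivFun
  exact ⟨Q.comp e.symm.toLinearMap, nd_map e (fun v => by simp) hnd, hreal.map e (fun v => by simp)⟩

/-- A non-degenerate form for any product of self-reciprocal factors. -/
theorem exists_model {r : ℕ} (hr : r.Prime) (hr2 : r ≠ 2) (s : Multiset F[X])
    (hs : ∀ h ∈ s, Irreducible h ∧ h.Monic ∧ h ∣ X ^ r - 1 ∧ star h = h ∧ h.eval 1 ≠ 0) :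
    ∃ Q : QuadraticForm F (Fin s.prod.natDegree → F), Nd Q ∧ Real Q r s.prod := by
  induction s using Multiset.induction with
  | empty =>
    refine ⟨0, fun x _ => funext fun i => absurd i.2 (by simp), ?_⟩
    have := Real.one (0 : QuadraticForm F (Fin (Multiset.prod (0 : Multiset F[X])).natDegree → F)) r
    rw [Module.finrank_fin_fun] at this
    simpa using this
  | cons h s ih =>
    obtain ⟨hh, hhm, hd, hst, h1⟩ := hs h (Multiset.mem_cons_self h s)
    obtain ⟨Q, hQ, hQr⟩ := ih fun g hg => hs g (Multiset.mem_cons_of_mem hg)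
    obtain ⟨R, hR, hRr⟩ := exists_block hr hr2 hh hhm hd hst h1
    have hsm : s.prod.Monic := by
      simpa using monic_multiset_prod_of_monic s id fun g hg => (hs g (Multiset.mem_cons_of_mem hg)).2.1
    let e : ((Fin h.natDegree → F) × (Fin s.prod.natDegree → F)) ≃ₗ[F] (Fin (h ::ₘ s).prod.natDegree → F) :=
      (Module.finBasisOfFinrankEq F _ (by
        rw [Module.finrank_prod, Module.finrank_fin_fun, Module.finrank_fin_fun, Multiset.prod_cons,
          hhm.natDegree_mul hsm])).equivFun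
    refine ⟨(R.prod Q).comp e.symm.toLinearMap, nd_map e (fun v => by simp) (nd_prod hR hQ), ?_⟩
    have := (hRr.prod hQr).map (R := (R.prod Q).comp e.symm.toLinearMap) e (fun v => by simp)
    rwa [← Multiset.prod_cons h s] at this

/-! ### Coordinates -/

omit [Fintype F] in
theorem exists_plus_plus (a b : ℕ) :
    ∃ e : ((Fin a ⊕ Fin a → F) × (Fin b ⊕ Fin b → F)) ≃ₗ[F] (Fin (a + b) ⊕ Fin (a + b) → F),
      ∀ v, plusQ (a + b) F (e v) = (plusQ a F).prod (plusQ b F) v := by
  refine ⟨
    { toFun := fun v => Sum.elim (Fin.append (fun i => v.1 (.inl i)) fun i => v.2 (.inl i))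
        (Fin.append (fun i => v.1 (.inr i)) fun i => v.2 (.inr i))
      invFun := fun v => (fun s => v (s.map (Fin.castAdd b) (Fin.castAdd b)),
        fun s => v (s.map (Fin.natAdd a) (Fin.natAdd a)))
      left_inv := fun v => by ext (i | i) <;> simp
      right_inv := fun v => by ext (i | i) <;> refine Fin.addCases (fun j => ?_) (fun j => ?_) i <;> simp
      map_add' := fun v v' => by ext (i | i) <;> refine Fin.addCases (fun j => ?_) (fun j => ?_) i <;> simp
      map_smul' := fun c v => by ext (i | i) <;> refine Fin.addCases (fun j => ?_) (fun j => ?_) i <;> simp },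
    fun v => ?_⟩
  simp [plusQ_apply, Cfsg.quadFormPlus, Fin.sum_univ_add]

omit [Fintype F] in
theorem exists_plus_minus (a b : ℕ) (c d : F) :
    ∃ e : ((Fin a ⊕ Fin a → F) × ((Fin b ⊕ Fin b) ⊕ Fin 2 → F)) ≃ₗ[F]
        ((Fin (a + b) ⊕ Fin (a + b)) ⊕ Fin 2 → F),
      ∀ v, minusQ (a + b) c d (e v) = (plusQ a F).prod (minusQ b c d) v := by
  refine ⟨
    { toFun := fun v => Sum.elim (Sum.elim (Fin.append (fun i => v.1 (.inl i)) fun i => v.2 (.inl (.inl i)))
        (Fin.append (fun i => v.1 (.inr i)) fun i => v.2 (.inl (.inr i)))) fun u => v.2 (.inr u)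
      invFun := fun v => (fun s => v (.inl (s.map (Fin.castAdd b) (Fin.castAdd b))),
        fun s => v (s.map (Sum.map (Fin.natAdd a) (Fin.natAdd a)) id))
      left_inv := fun v => Prod.ext (by ext (i | i) <;> simp) (by ext ((i | i) | i) <;> simp)
      right_inv := fun v => by
        ext ((i | i) | u)
        · refine Fin.addCases (fun j => ?_) (fun j => ?_) i <;> simp
        · refine Fin.addCases (fun j => ?_) (fun j => ?_) i <;> simp
        · simp
      map_add' := fun v v' => by
        ext ((i | i) | u)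
        · refine Fin.addCases (fun j => ?_) (fun j => ?_) i <;> simp
        · refine Fin.addCases (fun j => ?_) (fun j => ?_) i <;> simp
        · simp
      map_smul' := fun k v => by
        ext ((i | i) | u)
        · refine Fin.addCases (fun j => ?_) (fun j => ?_) i <;> simp
        · refine Fin.addCases (fun j => ?_) (fun j => ?_) i <;> simp
        · simp },
    fun v => ?_⟩
  simp [plusQ_apply, minusQ_apply, Cfsg.quadFormPlus, Cfsg.quadFormMinus, Fin.sum_univ_add]
  ring

theorem exists_minus_minus (a b : ℕ) {c d : F} (hcd : Aniso c d) :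
    ∃ e : (((Fin a ⊕ Fin a) ⊕ Fin 2 → F) × ((Fin b ⊕ Fin b) ⊕ Fin 2 → F)) ≃ₗ[F]
        (Fin (a + b + 1 + 1) ⊕ Fin (a + b + 1 + 1) → F),
      ∀ v, plusQ (a + b + 1 + 1) F (e v) = (minusQ a c d).prod (minusQ b c d) v := by
  obtain ⟨w, hw⟩ := exists_binQ_eq hcd (-1)
  have hn := nd_prod (nd_minusQ hcd a) (nd_minusQ hcd b)
  have hV : Module.finrank F (((Fin a ⊕ Fin a) ⊕ Fin 2 → F) × ((Fin b ⊕ Fin b) ⊕ Fin 2 → F)) =
      2 * (a + b + 1) + 2 := by
    simp [Module.finrank_prod, Module.finrank_pi]; ring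
  rcases exists_normal_even (a + b + 1) hn hV with ⟨e, he⟩ | ⟨ζ, hζ, e, he⟩
  · exact ⟨e.symm, fun v => by rw [plusQ_apply, ← he, e.apply_symm_apply]⟩
  · exfalso
    let L : (Fin a → F) × (Fin b → F) × (Fin 2 → F) →ₗ[F]
        ((Fin a ⊕ Fin a) ⊕ Fin 2 → F) × ((Fin b ⊕ Fin b) ⊕ Fin 2 → F) :=
      { toFun := fun v => (Sum.elim (Sum.elim 0 v.1) v.2.2, Sum.elim (Sum.elim 0 v.2.1) (mulW c d w v.2.2))
        map_add' := fun v v' => Prod.ext (by ext ((i | i) | i) <;> simp) (by ext ((i | i) | i) <;> simp)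
        map_smul' := fun k v => Prod.ext (by ext ((i | i) | i) <;> simp) (by ext ((i | i) | i) <;> simp) }
    have hL : Function.Injective L := fun v v' h => by
      have h1 := congrArg Prod.fst h
      have h2 := congrArg Prod.snd h
      exact Prod.ext (funext fun i => congrFun h1 (.inl (.inr i)))
        (Prod.ext (funext fun i => congrFun h2 (.inl (.inr i))) (funext fun i => congrFun h1 (.inr i)))
    have hz : ∀ v, (minusQ a c d).prod (minusQ b c d) (L v) = 0 := fun v => by
      rw [QuadraticMap.prod_apply, minusQ_apply, minusQ_apply]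
      have h1 : binQ c d (mulW c d w v.2.2) = - binQ c d v.2.2 := by rw [binQ_mulW, hw, neg_one_mul]
      simp only [binQ_apply] at h1
      simp only [Cfsg.quadFormMinus, L, LinearMap.coe_mk, AddHom.coe_mk, Sum.elim_inl, Sum.elim_inr,
        Pi.zero_apply, zero_mul, Finset.sum_const_zero, zero_add]
      rw [h1, add_neg_cancel]
    have h := finrank_le_of_minus hζ (a + b + 1) ((LinearMap.range L).map e.symm.toLinearMap) (by
      rintro _ ⟨_, ⟨v, rfl⟩, rfl⟩
      rw [← he, LinearEquiv.coe_coe, e.apply_symm_apply, hz])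
    rw [LinearEquiv.finrank_map_eq, LinearMap.finrank_range_of_inj hL] at h
    simp [Module.finrank_prod] at h
    omega

end Cfsg.Agent.Lib.Classical.OrthTorsion
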