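import Cfsg.Agent.Lib.Classical.OrthTorsionExist
import Cfsg.Agent.Lib.Classical.QuadOmega.Std
import Cfsg.Agent.S2590

/-!
# Counting the classes of elements of odd prime order in orthogonal groups
-/

set_option autoImplicit false

namespace Cfsg.Agent.Lib.Classical.OrthTorsion

open Polynomial QuadraticMap Cfsg.Agent.Lib.Classical.Quad Cfsg.Agent.Lib.Classical.QuadOmega
open Cfsg.Agent.Lib.GLn.ReciprocalTorsion

universe u v w

variable {F : Type u} [Field F] [Fintype F] {V : Type u} [AddCommGroup V] [Module F V] [FiniteDimensional F V]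
variable {p : ℕ} [Fact p.Prime] [CharP F p]

theorem nondeg_of_nd {Q : QuadraticForm F V} (h : Nd Q) : (polarBilin Q).Nondegenerate :=
  ⟨fun x hx => h x fun y => by simpa using hx y,
    fun y hy => h y fun x => by rw [polar_comm]; simpa using hy x⟩

include p in
/-- Elements killed by `r` with the same characteristic polynomial are conjugate. -/
theorem isConj_of_charpoly {Q : QuadraticForm F V} (hQ : Nd Q) {r : ℕ} (hr : Odd r) (hrp : r.Coprime p)
    {A B : isoG Q} (hA : A ^ r = 1) (hB : B ^ r = 1)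
    (hc : A.1.toLinearMap.charpoly = B.1.toLinearMap.charpoly) : IsConj A B := by
  haveI : Finite V := Module.finite_of_finite F
  have hss : ∀ C : isoG Q, C ^ r = 1 → Module.End.IsSemisimple (C.1.toLinearMap : Module.End F V) := fun C hC => by
    refine GLn.SemisimpleCharpoly.isSemisimple_of_pow p _ hrp ?_
    have hk : ∀ k, (C.1.toLinearMap : Module.End F V) ^ k = (C.1 ^ k).toLinearMap := fun k => by
      induction k with
      | zero => rfl
      | succ k ih => rw [pow_succ, ih, pow_succ]; rfl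
    rw [hk, ← Subgroup.coe_pow, hC]; rfl
  obtain ⟨g, hg⟩ := GLn.SemisimpleCharpoly.exists_intertwine _ A.1.toLinearMap B.1.toLinearMap rfl
    (hss A hA) (hss B hB) hc
  obtain ⟨γ, hγ, hγc⟩ := S2590.iso_conj Q (nondeg_of_nd hQ) r hr
    (GLn.SemisimpleCharpoly.cast_ne_zero_of_coprime p hrp) A.1 B.1 g A.2 B.2
    (congrArg Subtype.val hA) hg (fun P hP φ hφ => Lib.QuadWitt.witt_quad Q (nondeg_of_nd hQ) P hP φ hφ)
  exact isConj_iff.2 ⟨⟨γ, hγ⟩, mul_inv_eq_iff_eq_mul.2 (Subtype.ext (LinearEquiv.ext hγc))⟩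

include p in
/-- Classes killed by `r` correspond to the realised polynomials. -/
theorem card_classes {H : Type*} [Group H] {Q : QuadraticForm F V} (φ : H ≃* isoG Q) (hQ : Nd Q) {r : ℕ}
    (hr : r.Prime) (hr2 : r ≠ 2) (hrp : r ≠ p) :
    Nat.card {C : ConjClasses H // ∃ g, ConjClasses.mk g = C ∧ orderOf g = r} =
      Nat.card {P : F[X] // Real Q r P} - 1 := by
  classical
  haveI : Fact r.Prime := ⟨hr⟩
  haveI : Finite V := Module.finite_of_finite F
  haveI : Finite (V ≃ₗ[F] V) := DFunLike.finite _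
  haveI : Finite H := Finite.of_equiv _ φ.symm.toEquiv
  have hcop : r.Coprime p := (Nat.coprime_primes hr Fact.out).2 hrp
  choose g hg hgr hgc using fun P : {P : F[X] // Real Q r P} => P.2
  have hgH : ∀ P, (φ.symm ⟨g P, hg P⟩) ^ r = 1 := fun P => by
    rw [← map_pow, show (⟨g P, hg P⟩ : isoG Q) ^ r = 1 from Subtype.ext (hgr P), map_one]
  have hch : ∀ x y : H, IsConj x y → (φ x).1.toLinearMap.charpoly = (φ y).1.toLinearMap.charpoly := by
    intro x y h
    obtain ⟨c, hc⟩ := isConj_iff.1 h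
    rw [← hc, map_mul, map_mul, map_inv]
    exact (charpoly_conjAut (φ c).1 (φ x).1).symm
  let S : Set (ConjClasses H) := {C | ∃ x, ConjClasses.mk x = C ∧ x ^ r = 1}
  have hS : Nat.card {P : F[X] // Real Q r P} = Nat.card S := by
    refine Nat.card_congr (Equiv.ofBijective (fun P => ⟨ConjClasses.mk _, _, rfl, hgH P⟩) ⟨fun P P' e => ?_, ?_⟩)
    · have := hch _ _ (ConjClasses.mk_eq_mk_iff_isConj.1 (congrArg Subtype.val e))
      rw [φ.apply_symm_apply, φ.apply_symm_apply, hgc, hgc] at this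
      exact Subtype.ext this
    · rintro ⟨_, x, rfl, hx⟩
      have hφx : φ x ^ r = 1 := by rw [← map_pow, hx, map_one]
      let P₀ : {P : F[X] // Real Q r P} :=
        ⟨(φ x).1.toLinearMap.charpoly, (φ x).1, (φ x).2, congrArg Subtype.val hφx, rfl⟩
      refine ⟨P₀, Subtype.ext ?_⟩
      refine ConjClasses.mk_eq_mk_iff_isConj.2 ?_
      have := φ.symm.toMonoidHom.map_isConj (isConj_of_charpoly (p := p) hQ (hr.odd_of_ne_two hr2) hcop
        (A := ⟨g P₀, hg P₀⟩) (B := φ x) (Subtype.ext (hgr P₀)) hφx (hgc P₀))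
      simpa using this
  let S' : Set (ConjClasses H) := {C | ∃ x, ConjClasses.mk x = C ∧ orderOf x = r}
  have h1 : ConjClasses.mk (1 : H) ∉ S' := fun ⟨x, hx, ho⟩ => by
    rw [isConj_one_left.1 (ConjClasses.mk_eq_mk_iff_isConj.1 hx), orderOf_one] at ho
    exact hr.ne_one ho.symm
  have hins : S = insert (ConjClasses.mk (1 : H)) S' := by
    ext C
    constructor
    · rintro ⟨x, rfl, hx⟩
      by_cases hx1 : x = 1
      · exact Or.inl (by rw [hx1])
      · exact Or.inr ⟨x, rfl, orderOf_eq_prime hx hx1⟩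
    · rintro (rfl | ⟨x, rfl, hx⟩)
      · exact ⟨1, rfl, one_pow _⟩
      · exact ⟨x, rfl, hx ▸ pow_orderOf_eq_one x⟩
  rw [hS, Nat.card_coe_set_eq S, hins, Set.ncard_insert_of_notMem h1 (Set.toFinite _), Nat.add_sub_cancel,
    ← Nat.card_coe_set_eq]
  rfl

variable {q : ℕ} (hF : Fintype.card F = q) {r i t : ℕ} (hr : r.Prime) (hr2 : r ≠ 2) (hrp : r ≠ p)
  (hi : i = orderOf (q : ZMod r)) (ht : t * i = r - 1)

/-- The value of the count. -/
def cnt (n i t : ℕ) : ℕ := if Odd i then Nat.choose (n / (2 * i) + t / 2) (t / 2) else Nat.choose (n / i + t) t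

/-- The number of those not vanishing at one. -/
def exc (m i t : ℕ) : ℕ :=
  if Odd i then (if i ∣ m then Nat.choose (m / i + t / 2 - 1) (t / 2 - 1) else 0)
  else if i ∣ 2 * m then Nat.choose (2 * m / i + t - 1) (t - 1) else 0

include hF hr hr2 hrp hi ht in
theorem card_exc {m : ℕ} (hm : 1 ≤ m) :
    Nat.card {P : F[X] // IsRecTorsion (2 * m) r P ∧ P.eval 1 ≠ 0} = exc m i t := by
  have hipos := i_pos (p := p) hF hr hrp hi
  have htpos : 1 ≤ t := by
    rcases Nat.eq_zero_or_pos t with rfl | h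
    · have := hr.two_le; omega
    · exact h
  obtain ⟨n, hn⟩ : ∃ n, 2 * m = n + 1 := ⟨2 * m - 1, by omega⟩
  have h := card_rec_eval_ne (F := F) n r hr.ne_zero
  rw [card_recTorsion (p := p) hF n r i t hr hr2 hrp hi ht,
    card_recTorsion (p := p) hF (n + 1) r i t hr hr2 hrp hi ht] at h
  rw [exc]
  by_cases hio : Odd i
  · rw [if_pos hio, if_pos hio] at h
    rw [if_pos hio]
    have ht2 : 1 ≤ t / 2 := by
      have he : Even (t * i) := ht ▸ Nat.Odd.sub_odd (hr.odd_of_ne_two hr2) odd_one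
      rcases Nat.even_mul.1 he with he | he
      · obtain ⟨c, rfl⟩ := he; omega
      · exact absurd he (Nat.not_even_iff_odd.2 hio)
    rw [Nat.succ_div, ← hn] at h
    simp only [Nat.mul_dvd_mul_iff_left two_pos] at h
    by_cases hd : i ∣ m
    · rw [if_pos hd] at h ⊢
      rw [show m / i = n / (2 * i) + 1 by
        rw [← Nat.mul_div_mul_left m i two_pos, hn, Nat.succ_div,
          if_pos (hn ▸ (Nat.mul_dvd_mul_iff_left two_pos).2 hd)]]
      obtain ⟨s, hs⟩ : ∃ s, t / 2 = s + 1 := ⟨t / 2 - 1, by omega⟩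
      rw [hs] at h ⊢
      generalize n / (2 * i) = N at h ⊢
      rw [show N + 1 + (s + 1) - 1 = N + (s + 1) by omega, Nat.add_sub_cancel]
      rw [show N + 1 + (s + 1) = N + (s + 1) + 1 by omega,
        Nat.choose_succ_succ] at h
      simp only [Nat.succ_eq_add_one] at h
      omega
    · rw [if_neg hd] at h ⊢
      simp at h ⊢
      omega
  · rw [if_neg hio, if_neg hio] at h
    rw [if_neg hio]
    rw [Nat.succ_div, ← hn] at h
    by_cases hd : i ∣ 2 * m
    · rw [if_pos hd] at h ⊢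
      rw [show 2 * m / i = n / i + 1 by rw [hn, Nat.succ_div, if_pos (hn ▸ hd)]]
      obtain ⟨s, rfl⟩ : ∃ s, t = s + 1 := ⟨t - 1, by omega⟩
      generalize n / i = N at h ⊢
      rw [show N + 1 + (s + 1) = N + (s + 1) + 1 by omega,
        Nat.choose_succ_succ] at h
      rw [show N + 1 + (s + 1) - 1 = N + (s + 1) by omega, Nat.add_sub_cancel]
      simp only [Nat.succ_eq_add_one] at h
      omega
    · rw [if_neg hd] at h ⊢
      simp at h ⊢
      omega

/-- Removing a part under a fixed condition. -/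
theorem card_filtered {α : Type*} {A B : α → Prop} [Finite {x // A x}] (C : Prop) [Decidable C] :
    Nat.card {x // A x ∧ (B x → ¬ C)} =
      Nat.card {x // A x} - if C then Nat.card {x // A x ∧ B x} else 0 := by
  classical
  by_cases hC : C
  · rw [if_pos hC]
    have h := Nat.card_congr (Equiv.sumCompl fun x : {x // A x} => B x.1)
    rw [Nat.card_sum, Nat.card_congr (Equiv.subtypeSubtypeEquivSubtypeInter A B),
      Nat.card_congr (Equiv.subtypeSubtypeEquivSubtypeInter A fun x => ¬ B x)] at h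
    rw [Nat.card_congr (Equiv.subtypeEquivRight (q := fun x => A x ∧ ¬ B x) fun x => by simp [hC])]
    omega
  · rw [if_neg hC, Nat.sub_zero]
    exact Nat.card_congr (Equiv.subtypeEquivRight fun x => by simp [hC])

include hr in
theorem finite_rec (n : ℕ) : Finite {P : F[X] // IsRecTorsion n r P} :=
  Finite.of_injective (fun P => fun j : Fin (n + 1) => P.1.coeff j) fun P Q e => Subtype.ext <| by
    ext j
    by_cases hj : j < n + 1
    · exact congrFun e ⟨j, hj⟩
    · rw [coeff_eq_zero_of_natDegree_lt (by rw [P.2.2.1]; omega),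
        coeff_eq_zero_of_natDegree_lt (by rw [Q.2.2.1]; omega)]

include hF hr hr2 hrp hi in
theorem qpow_cases (hie : Even i) {m : ℕ} (hd : i ∣ 2 * m) :
    (Even (2 * m / i) → (q : ZMod r) ^ m = 1) ∧ (Odd (2 * m / i) → (q : ZMod r) ^ m = -1) := by
  haveI : Fact r.Prime := ⟨hr⟩
  have hipos := i_pos (p := p) hF hr hrp hi
  obtain ⟨j, hj⟩ := hie
  obtain ⟨k, hk⟩ := hd
  rw [hk, Nat.mul_div_cancel_left _ hipos]
  have hm : m = j * k := by rw [hj] at hk; nlinarith [hk]
  have h1 : ((q : ZMod r) ^ j) ^ 2 = 1 := by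
    rw [← pow_mul, mul_two, ← hj, hi, pow_orderOf_eq_one]
  have hqj : (q : ZMod r) ^ j = -1 := by
    refine (sq_eq_one_iff.1 h1).resolve_left fun h2 => ?_
    have := orderOf_dvd_of_pow_eq_one h2
    rw [← hi] at this
    have := Nat.le_of_dvd (by omega) this
    omega
  exact ⟨fun he => by rw [hm, pow_mul, hqj, he.neg_one_pow], fun ho => by rw [hm, pow_mul, hqj, ho.neg_one_pow]⟩

include hF hr hr2 hrp hi ht in
theorem card_real_plus {m : ℕ} (hm : 1 ≤ m) :
    Nat.card {P : F[X] // Real (plusQ m F) r P} =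
      cnt (2 * m) i t - if ¬ Odd i ∧ i ∣ 2 * m ∧ Odd (2 * m / i) then exc m i t else 0 := by
  classical
  haveI := finite_rec (F := F) hr (2 * m)
  have hcop : r.Coprime p := (Nat.coprime_primes hr Fact.out).2 hrp
  rw [cnt, ← card_recTorsion (p := p) hF (2 * m) r i t hr hr2 hrp hi ht,
    ← card_exc (F := F) (p := p) hF hr hr2 hrp hi ht hm, ← card_filtered]
  refine Nat.card_congr (Equiv.subtypeEquivRight fun P => ⟨fun h => ?_, fun h => ?_⟩)
  · have hrec := h.rec_torsion (p := p) (nd_plusQ m) (hr.odd_of_ne_two hr2) hcop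
    rw [finrank_plus] at hrec
    refine ⟨hrec, fun h1 ⟨hio, hd, ho⟩ => ?_⟩
    have hie := Nat.not_odd_iff_even.1 hio
    exact neg_one_ne_one hr hr2 (((qpow_cases (p := p) hF hr hr2 hrp hi hie hd).2 ho).symm.trans
      (real_plus_cond (p := p) hF hr hr2 hrp hi hie h h1))
  · refine real_plus_exists (p := p) hF hr hr2 hrp hi h.1 fun h1 hie => ?_
    have hd : i ∣ 2 * m := h.1.2.1 ▸
      (natDegree_eq_card_mul (p := p) hF r i hr hr2 hrp hi h.1.1 h.1.2.2.2 h1).1
    refine (qpow_cases (p := p) hF hr hr2 hrp hi hie hd).1 (Nat.not_odd_iff_even.1 fun ho => ?_)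
    exact h.2 h1 ⟨Nat.not_odd_iff_even.2 hie, hd, ho⟩

include hF hr hr2 hrp hi ht in
theorem card_real_minus {M : ℕ} {a b : F} (hab : Aniso a b) :
    Nat.card {P : F[X] // Real (QuadF2.minusQ M a b) r P} =
      cnt (2 * (M + 1)) i t -
        if Odd i ∨ (i ∣ 2 * (M + 1) ∧ Even (2 * (M + 1) / i)) then exc (M + 1) i t else 0 := by
  classical
  haveI := finite_rec (F := F) hr (2 * (M + 1))
  have hcop : r.Coprime p := (Nat.coprime_primes hr Fact.out).2 hrp
  rw [cnt, ← card_recTorsion (p := p) hF (2 * (M + 1)) r i t hr hr2 hrp hi ht,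
    ← card_exc (F := F) (p := p) hF hr hr2 hrp hi ht (show 1 ≤ M + 1 by omega), ← card_filtered]
  refine Nat.card_congr (Equiv.subtypeEquivRight fun P => ⟨fun h => ?_, fun h => ?_⟩)
  · have hrec := h.rec_torsion (p := p) (QuadF2.nd_minusQ hab M) (hr.odd_of_ne_two hr2) hcop
    rw [show Module.finrank F ((Fin M ⊕ Fin M) ⊕ Fin 2 → F) = 2 * (M + 1) by
      simp [Module.finrank_pi]; ring] at hrec
    refine ⟨hrec, fun h1 hC => ?_⟩
    obtain ⟨hie, hq⟩ := real_minus_cond (p := p) hF hr hr2 hrp hi hab h h1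
    rcases hC with hio | ⟨hd, he⟩
    · exact Nat.not_even_iff_odd.2 hio hie
    · exact neg_one_ne_one hr hr2 (hq.symm.trans ((qpow_cases (p := p) hF hr hr2 hrp hi hie hd).1 he))
  · refine real_minus_exists (p := p) hF hr hr2 hrp hi hab h.1 fun h1 => ?_
    have hd : i ∣ 2 * (M + 1) := h.1.2.1 ▸
      (natDegree_eq_card_mul (p := p) hF r i hr hr2 hrp hi h.1.1 h.1.2.2.2 h1).1
    have hie : Even i := Nat.not_odd_iff_even.1 fun hio => h.2 h1 (Or.inl hio)
    refine ⟨hie, (qpow_cases (p := p) hF hr hr2 hrp hi hie hd).2 (Nat.not_even_iff_odd.1 fun he => ?_)⟩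
    exact h.2 h1 (Or.inr ⟨hd, he⟩)

include hF hr hr2 hrp hi ht in
theorem card_real_odd (h2 : (2 : F) ≠ 0) (m : ℕ) :
    Nat.card {P : F[X] // Real (oddQ m F) r P} = cnt (2 * m + 1) i t := by
  have hcop : r.Coprime p := (Nat.coprime_primes hr Fact.out).2 hrp
  rw [cnt, ← card_recTorsion (p := p) hF (2 * m + 1) r i t hr hr2 hrp hi ht]
  refine Nat.card_congr (Equiv.subtypeEquivRight fun P => ⟨fun h => ?_,
    real_odd_exists (p := p) hF hr hr2 hrp hi h2⟩)
  have hnd : Nd (oddQ m F) := nd_map (eOdd m) (fun v => by rw [oddQ_apply, odd_apply]) (nd_splitQ (nd_sqQ h2) m)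
  have hrec := h.rec_torsion (p := p) hnd (hr.odd_of_ne_two hr2) hcop
  rwa [show Module.finrank F (Unit ⊕ (Fin m ⊕ Fin m) → F) = 2 * m + 1 by
    simp [Module.finrank_pi]; ring] at hrec

end Cfsg.Agent.Lib.Classical.OrthTorsion
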