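import Cfsg.Agent.Lib.Classical.OrthTorsionBlocks

/-!
# Which self-reciprocal polynomials occur in the three orthogonal groups
-/

set_option autoImplicit false

namespace Cfsg.Agent.Lib.Classical.OrthTorsion

open Polynomial QuadraticMap Cfsg.Agent.Lib.Classical.Quad Cfsg.Agent.Lib.Classical.QuadOmega
open Cfsg.Agent.Lib.Classical.QuadF2 Cfsg.Agent.Lib.AutOmega
open Cfsg.Agent.Lib.GLn.ReciprocalTorsion

universe u v w

variable {F : Type u} [Field F]

/-- The odd form as a quadratic form. -/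
noncomputable def oddQ (m : ℕ) (F : Type u) [Field F] : QuadraticForm F (Unit ⊕ (Fin m ⊕ Fin m) → F) :=
  (splitQ m (sqQ F)).comp (eOdd m).symm.toLinearMap

theorem oddQ_apply (m : ℕ) (v : Unit ⊕ (Fin m ⊕ Fin m) → F) : oddQ m F v = Cfsg.quadFormOdd m F v := by
  obtain ⟨p, rfl⟩ := (eOdd m).surjective v
  rw [odd_apply]
  simp [oddQ]

variable [Fintype F] {p q : ℕ} [Fact p.Prime] [CharP F p]
variable (hF : Fintype.card F = q) {r i : ℕ} (hr : r.Prime) (hr2 : r ≠ 2) (hrp : r ≠ p)
  (hi : i = orderOf (q : ZMod r))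

include hF hr hrp hi in
theorem i_pos : 0 < i := by
  haveI : Fact r.Prime := ⟨hr⟩
  obtain ⟨k, hp, hk⟩ := FiniteField.card F p
  have hcop : p.Coprime r := (Nat.coprime_primes hp hr).2 hrp.symm
  rw [hi, show q = p ^ (k : ℕ) from hF.symm.trans hk,
    ← ZMod.coe_unitOfCoprime _ (hcop.pow_left (k : ℕ)), orderOf_units]
  exact orderOf_pos _

include hF hr hr2 hrp hi in
/-- For even `i` the part without fixed points lives on a form of dimension twice `w`. -/
theorem exists_even_part (hie : Even i) {P : F[X]} (hP : Good r P) (h1 : P.eval 1 ≠ 0)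
    (hne : P.natDegree ≠ 0) :
    ∃ w, P.natDegree = 2 * (w + 1) ∧ i ∣ P.natDegree ∧ (Real (plusQ (w + 1) F) r P ∨
      ∃ ζ : F, Aniso 1 ζ ∧ Real (minusQ w 1 ζ) r P) := by
  classical
  obtain ⟨hdvd, hdeg⟩ := natDegree_eq_card_mul (p := p) hF r i hr hr2 hrp hi hP.1 hP.2.2 h1
  obtain ⟨j, hj⟩ := hie
  obtain ⟨Q, hQ, hQr⟩ : ∃ Q : QuadraticForm F (Fin P.natDegree → F), Nd Q ∧ Real Q r P := by
    have hm := exists_model (F := F) hr hr2 (UniqueFactorizationMonoid.normalizedFactors P)
      fun h hh => by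
        have hi' := UniqueFactorizationMonoid.irreducible_of_normalized_factor h hh
        have hm := monic_of_mem_factors hh
        have hd := UniqueFactorizationMonoid.dvd_of_mem_normalizedFactors hh
        have hf := factor_facts (p := p) hF r i hr hr2 hrp hi hi' hm (hP.2.2 h hi' hm hd) (Good.factor_ne h1 hd)
        exact ⟨hi', hm, hP.2.2 h hi' hm hd, hf.2.2.2 ⟨j, hj⟩, hf.2.1⟩
    rwa [factors_prod P hP.1] at hm
  have hdim : Module.finrank F (Fin P.natDegree → F) = P.natDegree := Module.finrank_fin_fun F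
  set N := (UniqueFactorizationMonoid.normalizedFactors P).card
  have hdeg' : P.natDegree = 2 * (N * j) := by rw [hdeg, hj]; ring
  refine ⟨N * j - 1, by omega, hdvd, ?_⟩
  rcases exists_normal_even (N * j - 1) hQ (by rw [hdim]; omega) with ⟨e, he⟩ | ⟨ζ, hζ, e, he⟩
  · exact Or.inl (hQr.map e.symm fun v => by rw [plusQ_apply, ← he, e.apply_symm_apply])
  · exact Or.inr ⟨ζ, hζ, hQr.map e.symm fun v => by rw [minusQ_apply, ← he, e.apply_symm_apply]⟩

include hF hr hr2 hrp hi in
theorem qpow_two (m : ℕ) {P : F[X]} (hP : Good r P) (h1 : P.eval 1 ≠ 0) (hd : P.natDegree = 2 * m) :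
    ((q : ZMod r) ^ m) ^ 2 = 1 := by
  obtain ⟨hdvd, -⟩ := natDegree_eq_card_mul (p := p) hF r i hr hr2 hrp hi hP.1 hP.2.2 h1
  rw [← pow_mul, ← orderOf_dvd_iff_pow_eq_one, ← hi, mul_comm, ← hd]
  exact hdvd

include hF hr hr2 hrp hi in
/-- In the plus group. -/
theorem real_plus_cond (hie : Even i) {m : ℕ} {P : F[X]} (h : Real (plusQ m F) r P) (h1 : P.eval 1 ≠ 0) :
    (q : ZMod r) ^ m = 1 := by
  haveI : Fact r.Prime := ⟨hr⟩
  rcases Nat.eq_zero_or_pos m with rfl | hm
  · exact pow_zero _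
  have hcop : r.Coprime p := (Nat.coprime_primes hr Fact.out).2 hrp
  have hrec := h.rec_torsion (p := p) (nd_plusQ m) (hr.odd_of_ne_two hr2) hcop
  rw [finrank_plus] at hrec
  have hε := qpow_two (p := p) hF hr hr2 hrp hi m (good_of_rec hrec) h1 hrec.2.1
  have hmod := (ZMod.natCast_eq_natCast_iff _ _ _).2 (h.numSing_modEq h1)
  have hsing : numSing (plusQ m F) = q ^ (2 * m - 1) + q ^ m - q ^ (m - 1) := by
    rw [← hF, ← card_sing_plus m hm, numSing]
    exact Nat.card_congr (Equiv.subtypeEquivRight fun v => by rw [plusQ_apply])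
  have hq1 : 1 ≤ q := hF ▸ Fintype.card_pos
  rw [hsing, Nat.cast_sub ((Nat.pow_le_pow_right hq1 (Nat.sub_le m 1)).trans (Nat.le_add_left _ _))] at hmod
  push_cast at hmod
  set Q : ZMod r := (q : ZMod r)
  obtain ⟨k, rfl⟩ : ∃ k, m = k + 1 := ⟨m - 1, by omega⟩
  rw [show 2 * (k + 1) - 1 = 2 * k + 1 by omega, Nat.add_sub_cancel] at hmod
  have hz : (1 - Q ^ (k + 1)) * (1 - Q) = 0 := by linear_combination Q * hmod - hε
  rcases mul_eq_zero.1 hz with hz | hz
  · exact (sub_eq_zero.1 hz).symm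
  · exfalso
    have : orderOf Q = 1 := by rw [← sub_eq_zero.1 hz]; exact orderOf_one
    rw [← hi] at this
    obtain ⟨j, hj⟩ := hie
    omega

include hF hr hr2 hrp hi in
/-- In the minus group. -/
theorem real_minus_cond {M : ℕ} {a b : F} (hab : Aniso a b) {P : F[X]} (h : Real (minusQ M a b) r P)
    (h1 : P.eval 1 ≠ 0) : Even i ∧ (q : ZMod r) ^ (M + 1) = -1 := by
  haveI : Fact r.Prime := ⟨hr⟩
  have hcop : r.Coprime p := (Nat.coprime_primes hr Fact.out).2 hrp
  have hrec := h.rec_torsion (p := p) (nd_minusQ hab M) (hr.odd_of_ne_two hr2) hcop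
  have hn : Module.finrank F ((Fin M ⊕ Fin M) ⊕ Fin 2 → F) = 2 * (M + 1) := by
    simp [Module.finrank_pi]; ring
  rw [hn] at hrec
  rcases Nat.even_or_odd i with hie | hio
  swap
  · exfalso
    obtain ⟨A, hA, hAm, hA0, -, hA1, hA2, -⟩ :=
      (good_of_rec hrec).exists_half (p := p) hF r i hr hr2 hrp hi hio h1
    obtain ⟨g, hg, hgr, rfl⟩ := h
    obtain ⟨U, hU, hle⟩ := exists_half_singular hr.ne_zero hg hgr h1 hA hA1 hA2
      ((isRelPrime_iff_isCoprime).1 (WfDvdMonoid.isRelPrime_of_no_irreducible_factors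
        (fun h => hAm.ne_zero h.1) fun z hz hz1 hz2 => by
          classical
          obtain ⟨f, hf, hfz⟩ := UniqueFactorizationMonoid.exists_mem_normalizedFactors_of_dvd hAm.ne_zero hz hz1
          have hd := UniqueFactorizationMonoid.dvd_of_mem_normalizedFactors hf
          refine (hA1 f (UniqueFactorizationMonoid.irreducible_of_normalized_factor f hf)
            (monic_of_mem_factors hf) hd).2 ?_
          obtain ⟨c, hc⟩ := hfz.symm.dvd.trans hz2
          refine ⟨GLn.ReciprocalTorsion.star c, ?_⟩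
          have := congrArg GLn.ReciprocalTorsion.star hc
          rwa [GLn.ReciprocalTorsion.star_mul, star_star hAm hA0] at this))
    have := finrank_le_of_minus hab M U fun u hu => by rw [← minusQ_apply]; exact hU u hu
    rw [hn] at hle
    omega
  refine ⟨hie, ?_⟩
  have hε := qpow_two (p := p) hF hr hr2 hrp hi (M + 1) (good_of_rec hrec) h1 hrec.2.1
  have hmod := (ZMod.natCast_eq_natCast_iff _ _ _).2 (h.numSing_modEq h1)
  have hsing : numSing (minusQ M a b) = q ^ (2 * M + 1) + q ^ M - q ^ (M + 1) := by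
    rw [← hF, ← card_sing_minus hab M, numSing]
    exact Nat.card_congr (Equiv.subtypeEquivRight fun v => by rw [minusQ_apply])
  have hq1 : 1 ≤ q := hF ▸ Fintype.card_pos
  rw [hsing, Nat.cast_sub ((Nat.pow_le_pow_right hq1 (by omega)).trans (Nat.le_add_right _ _))] at hmod
  push_cast at hmod
  set Q : ZMod r := (q : ZMod r)
  have hz : (1 + Q ^ (M + 1)) * (1 - Q) = 0 := by linear_combination Q * hmod - hε
  rcases mul_eq_zero.1 hz with hz | hz
  · linear_combination hz
  · exfalso
    have : orderOf Q = 1 := by rw [← sub_eq_zero.1 hz]; exact orderOf_one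
    rw [← hi] at this
    obtain ⟨j, hj⟩ := hie
    omega

include hr in
theorem neg_one_ne_one (hr2 : r ≠ 2) : (-1 : ZMod r) ≠ 1 := by
  haveI : Fact r.Prime := ⟨hr⟩
  haveI : Fact (2 < r) := ⟨lt_of_le_of_ne hr.two_le (Ne.symm hr2)⟩
  exact ZMod.neg_one_ne_one

include hF hr hr2 hrp hi in
theorem real_plus_exists {m : ℕ} {P : F[X]} (hP : IsRecTorsion (2 * m) r P)
    (hc : P.eval 1 ≠ 0 → Even i → (q : ZMod r) ^ m = 1) : Real (plusQ m F) r P := by
  obtain ⟨a, P', hPP, hP', h1, hdeg⟩ := (good_of_rec hP).exists_split hr.ne_zero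
  rw [hP.2.1] at hdeg
  have hXd : (X - 1 : F[X]) ≠ 0 := by simpa using (monic_X_sub_C (1 : F)).ne_zero
  by_cases h0 : P'.natDegree = 0
  · rw [hPP, eq_one_of_monic_natDegree_zero hP'.1 h0, mul_one, show a = Module.finrank F (Fin m ⊕ Fin m → F) by
      rw [finrank_plus]; omega]
    exact Real.one _ r
  rcases Nat.even_or_odd i with hie | hio
  · obtain ⟨w, hw, -, hW⟩ := exists_even_part (p := p) hF hr hr2 hrp hi hie hP' h1 h0
    obtain ⟨d, rfl⟩ : ∃ d, m = w + 1 + d := ⟨m - (w + 1), by omega⟩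
    obtain rfl : a = 2 * d := by omega
    rw [hPP, mul_comm]
    rcases hW with hW | ⟨ζ, hζ, hW⟩
    · obtain ⟨e, he⟩ := exists_plus_plus (F := F) (w + 1) d
      have := (hW.prod (Real.one (plusQ d F) r)).map e he
      rwa [finrank_plus] at this
    · rcases d with _ | d
      · exfalso
        rw [mul_zero, pow_zero, one_mul] at hPP
        obtain rfl := hPP
        exact neg_one_ne_one hr hr2 ((real_minus_cond (p := p) hF hr hr2 hrp hi hζ hW h1).2.symm.trans (hc h1 hie))
      · obtain ⟨e, he⟩ := exists_minus_minus (F := F) w d hζ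
        have := (hW.prod (Real.one (minusQ d 1 ζ) r)).map e he
        rw [show Module.finrank F ((Fin d ⊕ Fin d) ⊕ Fin 2 → F) = 2 * (d + 1) by
          simp [Module.finrank_pi]; ring] at this
        rwa [show w + 1 + (d + 1) = w + d + 1 + 1 by omega]
  · obtain ⟨A, hA, hAm, -, hAd, hA1, -, -⟩ := hP'.exists_half (p := p) hF r i hr hr2 hrp hi hio h1
    obtain ⟨g, hg, hgc⟩ := exists_half_gl (p := p) hr hrp hAm (fun h a b c => (hA1 h a b c).1)
      (show A.natDegree ≤ m by omega)
    have := real_split (zeroQ F) g hg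
    rw [hgc, GLn.ReciprocalTorsion.star_mul, GLn.ReciprocalTorsion.star_pow, star_X_sub_one, Module.finrank_fin_fun, pow_zero, mul_one] at this
    have h2 := this.map (R := plusQ m F) (ePlus m) fun v => by rw [plusQ_apply, plus_apply]
    convert h2 using 1
    rw [hPP, hA, show a = (m - A.natDegree) + (m - A.natDegree) by omega]
    ring

include hF hr hr2 hrp hi in
theorem real_minus_exists {M : ℕ} {a₀ b₀ : F} (hab : Aniso a₀ b₀) {P : F[X]} (hP : IsRecTorsion (2 * (M + 1)) r P)
    (hc : P.eval 1 ≠ 0 → Even i ∧ (q : ZMod r) ^ (M + 1) = -1) : Real (minusQ M a₀ b₀) r P := by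
  have hn : Module.finrank F ((Fin M ⊕ Fin M) ⊕ Fin 2 → F) = 2 * (M + 1) := by
    simp [Module.finrank_pi]; ring
  obtain ⟨a, P', hPP, hP', h1, hdeg⟩ := (good_of_rec hP).exists_split hr.ne_zero
  rw [hP.2.1] at hdeg
  by_cases h0 : P'.natDegree = 0
  · rw [hPP, eq_one_of_monic_natDegree_zero hP'.1 h0, mul_one, show a = 2 * (M + 1) by omega, ← hn]
    exact Real.one _ r
  rcases Nat.even_or_odd i with hie | hio
  · obtain ⟨w, hw, -, hW⟩ := exists_even_part (p := p) hF hr hr2 hrp hi hie hP' h1 h0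
    rw [hPP]
    rcases hW with hW | ⟨ζ, hζ, hW⟩
    · rcases Nat.eq_or_lt_of_le (show w ≤ M by omega) with rfl | hlt
      · exfalso
        obtain rfl : a = 0 := by omega
        rw [pow_zero, one_mul] at hPP
        obtain rfl := hPP
        exact neg_one_ne_one hr hr2 ((hc h1).2.symm.trans (real_plus_cond (p := p) hF hr hr2 hrp hi hie hW h1))
      · obtain ⟨d, rfl⟩ : ∃ d, M = w + 1 + d := ⟨M - (w + 1), by omega⟩
        obtain ⟨e, he⟩ := exists_plus_minus (F := F) (w + 1) d a₀ b₀
        have := (hW.prod (Real.one (minusQ d a₀ b₀) r)).map e he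
        rwa [show Module.finrank F ((Fin d ⊕ Fin d) ⊕ Fin 2 → F) = a by simp [Module.finrank_pi]; omega,
          mul_comm] at this
    · obtain ⟨e', he'⟩ := exists_bin_equiv hab hζ w
      have hW' := hW.map (R := minusQ w a₀ b₀) e' he'
      obtain ⟨d, rfl⟩ : ∃ d, M = d + w := ⟨M - w, by omega⟩
      obtain ⟨e, he⟩ := exists_plus_minus (F := F) d w a₀ b₀
      have := ((Real.one (plusQ d F) r).prod hW').map e he
      rwa [show Module.finrank F (Fin d ⊕ Fin d → F) = a by rw [finrank_plus]; omega] at this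
  · obtain ⟨A, hA, hAm, -, hAd, hA1, -, -⟩ := hP'.exists_half (p := p) hF r i hr hr2 hrp hi hio h1
    have hle : A.natDegree ≤ M := by
      by_contra! hlt
      obtain rfl : a = 0 := by omega
      rw [pow_zero, one_mul] at hPP
      exact (Nat.not_even_iff_odd.2 hio) (hc (hPP ▸ h1)).1
    obtain ⟨g, hg, hgc⟩ := exists_half_gl (p := p) hr hrp hAm (fun h a b c => (hA1 h a b c).1) hle
    have := real_split (binQ a₀ b₀) g hg
    rw [hgc, GLn.ReciprocalTorsion.star_mul, GLn.ReciprocalTorsion.star_pow, star_X_sub_one, Module.finrank_fin_fun] at this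
    have h2 := this.map (R := minusQ M a₀ b₀) (eMinus M) fun v => by rw [minusQ_apply, minus_apply]
    convert h2 using 1
    rw [hPP, hA, show a = (M - A.natDegree) + (M - A.natDegree) + 2 by omega]
    ring

include hF hr hr2 hrp hi in
theorem real_odd_exists (h2 : (2 : F) ≠ 0) {m : ℕ} {P : F[X]} (hP : IsRecTorsion (2 * m + 1) r P) :
    Real (oddQ m F) r P := by
  obtain ⟨a, P', hPP, hP', h1, hdeg⟩ := (good_of_rec hP).exists_split hr.ne_zero
  rw [hP.2.1] at hdeg
  by_cases h0 : P'.natDegree = 0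
  · rw [hPP, eq_one_of_monic_natDegree_zero hP'.1 h0, mul_one,
      show a = Module.finrank F (Unit ⊕ (Fin m ⊕ Fin m) → F) by simp [Module.finrank_pi]; omega]
    exact Real.one _ r
  rcases Nat.even_or_odd i with hie | hio
  · obtain ⟨w, hw, -, hW⟩ := exists_even_part (p := p) hF hr hr2 hrp hi hie hP' h1 h0
    obtain ⟨d, rfl⟩ : ∃ d, m = w + 1 + d := ⟨m - (w + 1), by omega⟩
    have hS : Real (splitQ d (sqQ F)) r ((X - 1) ^ (2 * d + 1)) := by
      have := Real.one (splitQ d (sqQ F)) r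
      rwa [show Module.finrank F (((Fin d → F) × (Fin d → F)) × (Unit → F)) = 2 * d + 1 by
        simp [Module.finrank_prod]; ring] at this
    rw [hPP, mul_comm, show a = 2 * d + 1 by omega]
    suffices key : ∀ (V : Type u) [AddCommGroup V] [Module F V] [FiniteDimensional F V] (R : QuadraticForm F V),
        Nd R → Module.finrank F V = 2 * (w + 1) → Real R r P' →
          Real (oddQ (w + 1 + d) F) r (P' * (X - 1) ^ (2 * d + 1)) by
      rcases hW with hW | ⟨ζ, hζ, hW⟩
      · exact key _ _ (nd_plusQ (w + 1)) (finrank_plus _) hW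
      · exact key _ _ (nd_minusQ hζ w) (by simp [Module.finrank_pi]; ring) hW
    intro V _ _ _ R hR hdim hRr
    obtain ⟨c, hc0, e, he⟩ := exists_normal_odd (Q := R.prod (splitQ d (sqQ F))) (w + 1 + d)
      (nd_prod hR (nd_splitQ (nd_sqQ h2) d)) (by simp [Module.finrank_prod, hdim]; ring)
    let φ : (Unit ⊕ (Fin (w + 1 + d) ⊕ Fin (w + 1 + d)) → F) ≃ₗ[F] (Unit ⊕ (Fin (w + 1 + d) ⊕ Fin (w + 1 + d)) → F) :=
      { toFun := fun v => Sum.elim (fun u => v (.inl u)) (Sum.elim (fun j => c * v (.inr (.inl j))) fun j => v (.inr (.inr j)))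
        invFun := fun v => Sum.elim (fun u => v (.inl u)) (Sum.elim (fun j => c⁻¹ * v (.inr (.inl j))) fun j => v (.inr (.inr j)))
        left_inv := fun v => by ext (u | j | j) <;> simp [hc0]
        right_inv := fun v => by ext (u | j | j) <;> simp [hc0]
        map_add' := fun v v' => by ext (u | j | j) <;> simp [mul_add]
        map_smul' := fun k v => by ext (u | j | j) <;> simp [mul_left_comm] }
    refine Real.of_smul hc0 ((hRr.prod hS).map (φ.trans e).symm fun v => ?_)
    obtain ⟨v', rfl⟩ := (φ.trans e).surjective v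
    rw [LinearEquiv.symm_apply_apply, LinearEquiv.trans_apply, he]
    simp [oddQ_apply, Cfsg.quadFormOdd, φ, mul_add, Finset.mul_sum, mul_assoc]
  · obtain ⟨A, hA, hAm, -, hAd, hA1, -, -⟩ := hP'.exists_half (p := p) hF r i hr hr2 hrp hi hio h1
    obtain ⟨g, hg, hgc⟩ := exists_half_gl (p := p) hr hrp hAm (fun h a b c => (hA1 h a b c).1)
      (show A.natDegree ≤ m by omega)
    have := real_split (sqQ F) g hg
    rw [hgc, GLn.ReciprocalTorsion.star_mul, GLn.ReciprocalTorsion.star_pow, star_X_sub_one, Module.finrank_pi, Fintype.card_unit] at this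
    have h2 := this.map (R := oddQ m F) (eOdd m) fun v => by rw [oddQ_apply, odd_apply]
    convert h2 using 1
    rw [hPP, hA, show a = (m - A.natDegree) + (m - A.natDegree) + 1 by omega]
    ring

end Cfsg.Agent.Lib.Classical.OrthTorsion
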