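import Cfsg.Agent.Lib.Classical.OrthTorsionClasses
import Cfsg.Agent.Lib.Forms.OrthRoot

/-!
# Elements of odd order in the Omega groups as matrices
-/

set_option autoImplicit false

namespace Cfsg.Agent.Lib.Classical.OrthTorsion

open Polynomial QuadraticMap Matrix Cfsg.Agent.Lib.Classical.Quad Cfsg.Agent.Lib.Classical.QuadOmega
open Cfsg.Agent.Lib.Forms

universe u

variable {F : Type u} [Field F] [Fintype F] {ι : Type} [Fintype ι] [DecidableEq ι]

/-- An isometry of odd order lies in the commutator subgroup. -/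
theorem mem_commutator_of_pow {V : Type u} [AddCommGroup V] [Module F V] [Finite V] {Q : QuadraticForm F V}
    (hQ : Nd Q) (hreg : Reg F V) {r : ℕ} (hr : Odd r) {g : isoG Q} (hg : g ^ r = 1) :
    g ∈ commutator (isoG Q) := by
  have h1 : ∀ f : isoG Q →* ℤˣ, f g = 1 := fun f => by
    obtain ⟨k, hk⟩ := hr
    have := congrArg f hg
    rw [map_pow, map_one, hk, pow_succ, pow_mul, pow_two, Int.units_mul_self, one_pow, one_mul] at this
    exact this
  by_cases h2 : (2 : F) = 0
  · exact (mem_commutator_iff_two hQ hreg h2 g).2 (h1 _)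
  · exact (mem_commutator_iff hQ h2 g).2 ⟨h1 _, h1 _⟩

theorem isoMat_mem (Q : QuadraticForm F (ι → F)) (g : isoG Q) :
    isoMat Q g ∈ Cfsg.isometryGroup F ⇑Q :=
  ((isoEquiv (Q := Q) ⇑Q (LinearEquiv.refl F _) fun _ => rfl).symm g).2

theorem isoMat_pow (Q : QuadraticForm F (ι → F)) (g : isoG Q) (k : ℕ) : isoMat Q g ^ k = isoMat Q (g ^ k) := by
  simp only [isoMat, map_pow, Subgroup.coe_pow]

theorem isoMat_one (Q : QuadraticForm F (ι → F)) : isoMat Q 1 = 1 := by
  simp only [isoMat, map_one, Subgroup.coe_one]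

theorem isoMat_mem_omega {Q : QuadraticForm F (ι → F)} {g : isoG Q} (hg : g ∈ commutator (isoG Q)) :
    isoMat Q g ∈ Cfsg.Geo.omegaGL ⇑Q := by
  refine ⟨(isoEquiv (Q := Q) ⇑Q (LinearEquiv.refl F _) fun _ => rfl).symm g, ?_, rfl⟩
  rw [SetLike.mem_coe, mem_omega_iff ⇑Q (LinearEquiv.refl F _) fun _ => rfl, MulEquiv.apply_symm_apply]
  exact hg

/-- A realised polynomial gives a matrix in Omega. -/
theorem Real.exists_omega {Q : QuadraticForm F (ι → F)} (hQ : Nd Q) (hreg : Reg F (ι → F)) {r : ℕ}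
    (hr : Odd r) {P : F[X]} (h : Real Q r P) :
    ∃ x : GL ι F, x ∈ Cfsg.Geo.omegaGL ⇑Q ∧ x ^ r = 1 ∧ (x : Matrix ι ι F).charpoly = P := by
  obtain ⟨g, hg, hgr, hgc⟩ := h
  haveI : Finite (ι → F) := Pi.finite
  refine ⟨isoMat Q ⟨g, hg⟩, isoMat_mem_omega (mem_commutator_of_pow hQ hreg hr (Subtype.ext hgr)), ?_, ?_⟩
  · rw [isoMat_pow, show (⟨g, hg⟩ : isoG Q) ^ r = 1 from Subtype.ext hgr, isoMat_one]
  · rw [← Matrix.charpoly_toLin', ← hgc]
    congr 1
    exact LinearMap.ext fun v => by rw [Matrix.toLin'_apply, isoMat_mulVec]; rfl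

omit [Fintype F] in
theorem polar_matrix {Q : QuadraticForm F (ι → F)} {x : GL ι F}
    (hx : ∀ v, Q ((x : Matrix ι ι F) *ᵥ v) = Q v) (v w : ι → F) :
    polar Q ((x : Matrix ι ι F) *ᵥ v) ((x : Matrix ι ι F) *ᵥ w) = polar Q v w := by
  simp [polar, ← Matrix.mulVec_add, hx]

omit [Fintype F] in
/-- The eigenvalue on a fixed point with non-zero value squares to one. -/
theorem sq_eq_one_of_eigen {Q : QuadraticForm F (ι → F)} {x : GL ι F}
    (hx : ∀ v, Q ((x : Matrix ι ι F) *ᵥ v) = Q v) {v : ι → F} {c : F} (hv : Q v ≠ 0)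
    (h : (x : Matrix ι ι F) *ᵥ v = c • v) : c * c = 1 := by
  have := hx v
  rw [h, QuadraticMap.map_smul, smul_eq_mul] at this
  exact mul_right_cancel₀ hv (by rw [one_mul]; exact this)

omit [Fintype F] in
theorem pow_mulVec_eigen {x : GL ι F} {v : ι → F} {c : F} (h : (x : Matrix ι ι F) *ᵥ v = c • v) :
    ∀ k : ℕ, ((x ^ k : GL ι F) : Matrix ι ι F) *ᵥ v = c ^ k • v
  | 0 => by simp
  | k + 1 => by
    rw [pow_succ, Units.val_mul, ← Matrix.mulVec_mulVec, h, Matrix.mulVec_smul, pow_mulVec_eigen h k,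
      smul_smul, pow_succ']

/-- A fixed vector annihilates one in the characteristic polynomial. -/
theorem eval_one_of_fixed {x : GL ι F} {v : ι → F} (hv : v ≠ 0) (h : (x : Matrix ι ι F) *ᵥ v = v) :
    (x : Matrix ι ι F).charpoly.eval 1 = 0 := by
  rw [← Matrix.charpoly_toLin']
  refine (Module.End.hasEigenvalue_iff_isRoot_charpoly _ 1).1
    (Module.End.hasEigenvalue_of_hasEigenvector (x := v) ⟨Module.End.mem_eigenspace_iff.2 ?_, hv⟩)
  rw [one_smul, Matrix.toLin'_apply, h]

omit [DecidableEq ι] in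
/-- The non-singular lines, counted through their non-zero vectors. -/
theorem card_nonsing_lines {f : (ι → F) → F} (hf : ∀ (c : F) v, f (c • v) = c * c * f v) :
    Nat.card {W : Submodule F (ι → F) // Module.finrank F W = 1 ∧ ∃ v ∈ W, f v ≠ 0} * (Fintype.card F - 1) +
      Nat.card {v : ι → F // f v = 0} = Fintype.card F ^ Fintype.card ι := by
  classical
  set L := {W : Submodule F (ι → F) // Module.finrank F W = 1 ∧ ∃ v ∈ W, f v ≠ 0}
  have hf0 : f 0 = 0 := by simpa using hf 0 0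
  choose g hg hgv using fun W : L => W.2.2
  have hspan : ∀ W : L, W.1 = Submodule.span F {g W} := fun W => by
    refine (Submodule.eq_of_le_of_finrank_le ((Submodule.span_singleton_le_iff_mem _ _).2 (hg W)) ?_).symm
    rw [W.2.1, finrank_span_singleton (fun e : g W = 0 => hgv W (by rw [e, hf0]))]
  let e : L × Fˣ ≃ {v : ι → F // f v ≠ 0} := Equiv.ofBijective
    (fun z => ⟨(z.2 : F) • g z.1, by rw [hf]; exact mul_ne_zero (mul_ne_zero z.2.ne_zero z.2.ne_zero) (hgv z.1)⟩)
    ⟨fun z z' h => by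
      have h' : (z.2 : F) • g z.1 = (z'.2 : F) • g z'.1 := congrArg Subtype.val h
      have hW : z.1 = z'.1 := Subtype.ext (by
        rw [hspan z.1, hspan z'.1, ← Submodule.span_singleton_smul_eq z.2.isUnit,
          ← Submodule.span_singleton_smul_eq z'.2.isUnit (g z'.1), h'])
      rw [hW] at h'
      exact Prod.ext hW (Units.ext (smul_left_injective F (fun e => hgv z'.1 (by rw [e, hf0])) h')),
    fun v => by
      have hv0 : v.1 ≠ 0 := fun e => v.2 (by rw [e, hf0])
      let W : L := ⟨Submodule.span F {v.1}, finrank_span_singleton hv0, v.1,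
        Submodule.mem_span_singleton_self _, v.2⟩
      obtain ⟨c, hc⟩ := Submodule.mem_span_singleton.1 (hg W)
      have hc0 : c ≠ 0 := fun e => hgv W (by rw [← hc, e, zero_smul, hf0])
      refine ⟨(W, Units.mk0 c⁻¹ (inv_ne_zero hc0)), Subtype.ext ?_⟩
      show c⁻¹ • g W = v.1
      rw [← hc, smul_smul, inv_mul_cancel₀ hc0, one_smul]⟩
  have h := Nat.card_congr (Equiv.sumCompl fun v : ι → F => f v = 0)
  rw [Nat.card_sum, ← Nat.card_congr e, Nat.card_prod, Nat.card_units, Nat.card_fun,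
    Nat.card_eq_fintype_card (α := F), Nat.card_eq_fintype_card (α := ι)] at h
  omega

end Cfsg.Agent.Lib.Classical.OrthTorsion
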