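import Cfsg.Agent.Lib.GLn.ReciprocalFactor
import Cfsg.Agent.Lib.GLn.SemisimpleCharpoly
import Cfsg.Agent.Lib.AutOmega.Types
import Cfsg.Agent.Lib.Classical.QuadF2
import Cfsg.Agent.Lib.Classical.QuadOmega.Normal
import Cfsg.Agent.Lib.Classical.QuadOmega.Diag

/-!
# Characteristic polynomials realised by orthogonal elements of odd prime order
-/

set_option autoImplicit false

namespace Cfsg.Agent.Lib.Classical.OrthTorsion

open Polynomial QuadraticMap Cfsg.Agent.Lib.Classical.Quad Cfsg.Agent.Lib.Classical.QuadOmega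
open Cfsg.Agent.Lib.Classical.QuadF2
open Cfsg.Agent.Lib.GLn.ReciprocalTorsion

universe u v w

variable {F : Type u} [Field F]
variable {V : Type v} [AddCommGroup V] [Module F V]
variable {W : Type w} [AddCommGroup W] [Module F W]

/-- `P` is the characteristic polynomial of an isometry killed by `r`. -/
def Real (Q : QuadraticForm F V) [FiniteDimensional F V] (r : ℕ) (P : F[X]) : Prop :=
  ∃ g ∈ isoG Q, g ^ r = 1 ∧ g.toLinearMap.charpoly = P

theorem charpoly_conjAut [FiniteDimensional F V] [FiniteDimensional F W] (e : V ≃ₗ[F] W) (g : V ≃ₗ[F] V) :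
    (conjAut e g).toLinearMap.charpoly = g.toLinearMap.charpoly := by
  rw [show (conjAut e g).toLinearMap = e.conj g.toLinearMap from LinearMap.ext fun x => rfl,
    LinearEquiv.charpoly_conj]

theorem mem_conjAut {Q : QuadraticForm F V} {R : QuadraticForm F W} (e : V ≃ₗ[F] W)
    (he : ∀ v, R (e v) = Q v) {g : V ≃ₗ[F] V} (hg : g ∈ isoG Q) : conjAut e g ∈ isoG R := fun w => by
  show R (e (g (e.symm w))) = R w
  rw [he, hg, ← he, e.apply_symm_apply]

theorem Real.map [FiniteDimensional F V] [FiniteDimensional F W] {Q : QuadraticForm F V}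
    {R : QuadraticForm F W} {r : ℕ} {P : F[X]} (h : Real Q r P) (e : V ≃ₗ[F] W)
    (he : ∀ v, R (e v) = Q v) : Real R r P := by
  obtain ⟨g, hg, hgr, hgc⟩ := h
  exact ⟨conjAut e g, mem_conjAut e he hg, by rw [← map_pow, hgr, map_one], (charpoly_conjAut e g).trans hgc⟩

theorem prodCongr_pow (g : V ≃ₗ[F] V) (h : W ≃ₗ[F] W) (k : ℕ) :
    LinearEquiv.prodCongr g h ^ k = LinearEquiv.prodCongr (g ^ k) (h ^ k) := by
  induction k with
  | zero => exact LinearEquiv.ext fun x => rfl
  | succ k ih => rw [pow_succ, ih, pow_succ, pow_succ]; exact LinearEquiv.ext fun x => rfl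

theorem Real.prod [FiniteDimensional F V] [FiniteDimensional F W] {Q : QuadraticForm F V}
    {R : QuadraticForm F W} {r : ℕ} {P P' : F[X]} (h : Real Q r P) (h' : Real R r P') :
    Real (Q.prod R) r (P * P') := by
  obtain ⟨g, hg, hgr, hgc⟩ := h
  obtain ⟨g', hg', hgr', hgc'⟩ := h'
  refine ⟨LinearEquiv.prodCongr g g', fun v => ?_, ?_, ?_⟩
  · simp [hg v.1, hg' v.2]
  · rw [prodCongr_pow, hgr, hgr']; exact LinearEquiv.ext fun x => rfl
  · rw [show (LinearEquiv.prodCongr g g').toLinearMap = g.toLinearMap.prodMap g'.toLinearMap from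
      LinearMap.ext fun x => rfl, LinearMap.charpoly_prodMap, hgc, hgc']

theorem Real.one [FiniteDimensional F V] (Q : QuadraticForm F V) (r : ℕ) :
    Real Q r ((X - 1) ^ Module.finrank F V) := by
  refine ⟨1, one_mem _, one_pow _, ?_⟩
  rw [show (1 : V ≃ₗ[F] V).toLinearMap = 1 from rfl, LinearMap.charpoly_one]

theorem Real.of_smul [FiniteDimensional F V] {Q : QuadraticForm F V} {c : F} (hc : c ≠ 0) {r : ℕ} {P : F[X]}
    (h : Real (c • Q) r P) : Real Q r P := by
  obtain ⟨g, hg, hgr⟩ := h
  exact ⟨g, fun v => mul_left_cancel₀ hc (by simpa using hg v), hgr⟩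

theorem nd_map {Q : QuadraticForm F V} {R : QuadraticForm F W} (e : V ≃ₗ[F] W)
    (he : ∀ v, R (e v) = Q v) (h : Nd Q) : Nd R := fun x hx => by
  have := h (e.symm x) fun y => by
    have := hx (e y)
    rw [← e.apply_symm_apply x] at this
    rwa [polar, ← map_add, he, he, he] at this
  simpa using congrArg e this

theorem nd_smul {Q : QuadraticForm F V} {c : F} (hc : c ≠ 0) (h : Nd Q) : Nd (c • Q) := fun x hx =>
  h x fun y => by
    have := hx y
    simp only [polar, QuadraticMap.smul_apply, smul_eq_mul, ← mul_sub] at this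
    exact (mul_eq_zero.1 this).resolve_left hc

/-! ### Necessary conditions -/

theorem polar_iso {Q : QuadraticForm F V} {g : V ≃ₗ[F] V} (hg : g ∈ isoG Q) (x y : V) :
    polar Q (g x) (g y) = polar Q x y := by
  simp [polar, ← map_add, hg _]

theorem Real.rec_torsion [Fintype F] {p : ℕ} [Fact p.Prime] [CharP F p] [FiniteDimensional F V]
    {Q : QuadraticForm F V} (hQ : Nd Q) {r : ℕ} (hr : Odd r) (hrp : r.Coprime p) {P : F[X]} (h : Real Q r P) :
    IsRecTorsion (Module.finrank F V) r P := by
  classical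
  obtain ⟨g, hg, hgr, hgc⟩ := h
  set n := Module.finrank F V
  let b := Module.finBasis F V
  set M := LinearMap.toMatrix b b g.toLinearMap with hM
  set J := LinearMap.toMatrix₂ b b (polarBilin Q) with hJ
  have hPM : M.charpoly = P := by rw [hM, LinearMap.charpoly_toMatrix, hgc]
  have hJd : J.det ≠ 0 := by
    refine (LinearMap.separatingLeft_iff_det_ne_zero (B := polarBilin Q) b).1 fun x hx => hQ x fun y => ?_
    simpa using hx y
  have hMJ : M.transpose * J * M = J := by
    rw [hM, hJ, ← LinearMap.toMatrix₂_compl₁₂ b b]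
    congr 1
    exact LinearMap.ext fun x => LinearMap.ext fun y => polar_iso hg x y
  have hMr : M ^ r = 1 := by
    rw [hM]
    have : ∀ k, LinearMap.toMatrix b b g.toLinearMap ^ k = LinearMap.toMatrix b b (g ^ k).toLinearMap := fun k => by
      induction k with
      | zero => rw [pow_zero, pow_zero]; exact (LinearMap.toMatrix_one b).symm
      | succ k ih => rw [pow_succ, ih, ← LinearMap.toMatrix_mul]; rfl
    rw [this, hgr]
    exact LinearMap.toMatrix_one b
  have hd2 : M.det * M.det = 1 := by
    have := congrArg Matrix.det hMJ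
    rw [Matrix.det_mul, Matrix.det_mul, Matrix.det_transpose] at this
    exact mul_right_cancel₀ hJd (by rw [one_mul]; linear_combination this)
  have hd : M.det = 1 := by
    obtain ⟨k, hk⟩ := hr
    have h1 := congrArg Matrix.det hMr
    rw [Matrix.det_pow, Matrix.det_one, hk, pow_succ, pow_mul, pow_two, hd2, one_pow, one_mul] at h1
    exact h1
  have hu : IsUnit M := (Matrix.isUnit_iff_isUnit_det M).2 (by rw [hd]; exact isUnit_one)
  have hJu : IsUnit J := (Matrix.isUnit_iff_isUnit_det J).2 (isUnit_iff_ne_zero.2 hJd)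
  have hinv : M⁻¹ = J⁻¹ * M.transpose * J := by
    refine Matrix.inv_eq_left_inv ?_
    rw [mul_assoc, mul_assoc, ← mul_assoc M.transpose, hMJ, Matrix.nonsing_inv_mul _ (isUnit_iff_ne_zero.2 hJd)]
  have hic : M⁻¹.charpoly = M.charpoly := by
    obtain ⟨j, hj⟩ := hJu
    rw [hinv, ← hj, Matrix.charpoly_units_conj', Matrix.charpoly_transpose]
  rw [Matrix.charpoly_inv _ hu, hd, Ring.inverse_one, map_one, mul_one, ← Matrix.reverse_charpoly,
    Fintype.card_fin, hPM] at hic
  refine ⟨hPM ▸ Matrix.charpoly_monic M, by rw [← hgc, LinearMap.charpoly_natDegree], ?_, fun f hf hfm hfd => ?_⟩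
  · rw [C_pow, C_neg, C_1]
    calc P.reverse = (-1) ^ n * ((-1) ^ n * P.reverse) := by
          rw [← mul_assoc, ← mul_pow]; simp
      _ = _ := by rw [hic]
  · have hT : (g.toLinearMap : Module.End F V) ^ r = 1 := by
      have : ∀ k, (g.toLinearMap : Module.End F V) ^ k = (g ^ k).toLinearMap := fun k => by
        induction k with
        | zero => rfl
        | succ k ih => rw [pow_succ, ih, pow_succ]; rfl
      rw [this, hgr]; rfl
    obtain ⟨v, hv0, hv⟩ := GLn.SemisimpleCharpoly.exists_vec hfm hf _ g.toLinearMap rfl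
      (GLn.SemisimpleCharpoly.isSemisimple_of_pow p _ hrp hT) (hgc.symm ▸ hfd)
    by_contra hnd
    obtain ⟨a, c, hac⟩ := hf.coprime_iff_not_dvd.2 hnd
    have := congrArg (fun t => aeval g.toLinearMap t v) hac
    simp [map_add, map_mul, Module.End.mul_apply, hv, hT] at this
    exact hv0 this.symm

theorem eq_zero_of_fixed [FiniteDimensional F V] {g : V ≃ₗ[F] V} (h1 : g.toLinearMap.charpoly.eval 1 ≠ 0)
    {v : V} (hv : g v = v) : v = 0 := by
  by_contra hv0
  refine h1 ((Module.End.hasEigenvalue_iff_isRoot_charpoly g.toLinearMap 1).1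
    (Module.End.hasEigenvalue_of_hasEigenvector (x := v) ⟨Module.End.mem_eigenspace_iff.2 ?_, hv0⟩))
  rw [one_smul]; exact hv

/-- An element of order `r` without fixed points permutes the non-zero singular vectors freely. -/
theorem Real.numSing_modEq [Fintype F] [FiniteDimensional F V] {Q : QuadraticForm F V} {r : ℕ} [Fact r.Prime]
    {P : F[X]} (h : Real Q r P) (h1 : P.eval 1 ≠ 0) : numSing Q ≡ 1 [MOD r] := by
  obtain ⟨g, hg, hgr, rfl⟩ := h
  haveI : Finite V := Module.finite_of_finite F
  let σ : Equiv.Perm {v : V // Q v = 0} := g.toEquiv.subtypeEquiv fun v => by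
    show Q v = 0 ↔ Q (g v) = 0
    rw [hg v]
  have hσ : ∀ (k : ℕ) x, ((σ ^ k) x).1 = (g ^ k) x.1 := fun k x => by
    induction k with
    | zero => rfl
    | succ k ih =>
      rw [pow_succ', pow_succ', Equiv.Perm.mul_apply, LinearEquiv.mul_apply, ← ih]
      rfl
  classical
  haveI := Fintype.ofFinite {v : V // Q v = 0}
  have hm := Equiv.Perm.card_compl_support_modEq (p := r) (n := 1) (σ := σ)
    (Equiv.ext fun x => Subtype.ext (by rw [pow_one, hσ, hgr]; rfl))
  have hs : σ.supportᶜ = {⟨0, map_zero Q⟩} := by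
    ext x
    simp only [Finset.mem_compl, Equiv.Perm.mem_support, not_not, Finset.mem_singleton, Subtype.ext_iff]
    exact ⟨fun hx => eq_zero_of_fixed h1 hx, fun hx => by show g x.1 = x.1; rw [hx, map_zero]⟩
  rw [hs, Finset.card_singleton] at hm
  rw [numSing, Nat.card_eq_fintype_card]
  exact hm.symm

/-- No fixed points and odd `i`: two totally singular subspaces span the space. -/
theorem exists_half_singular [FiniteDimensional F V] {Q : QuadraticForm F V}
    {r : ℕ} (hr : r ≠ 0) {g : V ≃ₗ[F] V} (hg : g ∈ isoG Q) (hgr : g ^ r = 1)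
    (h1 : g.toLinearMap.charpoly.eval 1 ≠ 0) {A B : F[X]} (hAB : g.toLinearMap.charpoly = A * B)
    (hA : ∀ h : F[X], Irreducible h → h.Monic → h ∣ A → h ∣ X ^ r - 1 ∧ ¬ star h ∣ A)
    (hB : ∀ h : F[X], Irreducible h → h.Monic → h ∣ B → h ∣ X ^ r - 1 ∧ ¬ star h ∣ B) (hcop : IsCoprime A B) :
    ∃ U : Submodule F V, (∀ u ∈ U, Q u = 0) ∧ Module.finrank F V ≤ 2 * Module.finrank F U := by
  classical
  set T : Module.End F V := g.toLinearMap with hT
  have hTk : ∀ k, T ^ k = (g ^ k).toLinearMap := fun k => by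
    induction k with
    | zero => rfl
    | succ k ih => rw [pow_succ, ih, pow_succ]; rfl
  have hpT : ∀ x y, polar Q (T x) (T y) = polar Q x y := polar_iso hg
  have hTS : T ^ r = 1 := by rw [hTk, hgr]; rfl
  have hadj1 : ∀ x y, polar Q (T x) y = polar Q x ((T ^ (r - 1)) y) := fun x y => by
    conv_lhs => rw [show y = T ((T ^ (r - 1)) y) by
      rw [← Module.End.mul_apply, ← pow_succ', Nat.sub_add_cancel (Nat.one_le_iff_ne_zero.2 hr), hTS,
        Module.End.one_apply]]
    rw [hpT]
  have hadj : ∀ (f : F[X]) x y, polar Q (aeval T f x) y = polar Q x (aeval T (f.comp (X ^ (r - 1))) y) := by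
    intro f
    induction f using Polynomial.induction_on' with
    | add f f' hf hf' =>
      intro x y
      rw [map_add, LinearMap.add_apply, add_comp, map_add, LinearMap.add_apply, polar_add_left, polar_add_right,
        hf, hf']
    | monomial k c =>
      intro x y
      have hk : ∀ k x y, polar Q ((T ^ k) x) y = polar Q x (((T ^ (r - 1)) ^ k) y) := fun k => by
        induction k with
        | zero => simp
        | succ k ih =>
          intro x y
          rw [pow_succ, Module.End.mul_apply, ih, hadj1, pow_succ', Module.End.mul_apply]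
      rw [aeval_monomial, monomial_comp, map_mul, aeval_C, map_pow, map_pow, aeval_X, Module.End.mul_apply,
        Module.End.mul_apply, Module.algebraMap_end_apply, Module.algebraMap_end_apply, polar_smul_left,
        polar_smul_right, hk]
  have hts : ∀ C : F[X], (∀ h : F[X], Irreducible h → h.Monic → h ∣ C → h ∣ X ^ r - 1 ∧ ¬ star h ∣ C) →
      C ≠ 0 → ∀ u ∈ LinearMap.ker (aeval T C), Q u = 0 := by
    intro C hC hC0
    set U := LinearMap.ker (aeval T C) with hU
    have hcomm : ∀ f : F[X], ∀ x ∈ U, aeval T f x ∈ U := fun f x hx => by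
      rw [hU, LinearMap.mem_ker] at hx ⊢
      rw [← Module.End.mul_apply, ← map_mul, mul_comm, map_mul, Module.End.mul_apply, hx, map_zero]
    have hc' : IsCoprime (C.comp (X ^ (r - 1))) C := by
      refine (isRelPrime_iff_isCoprime).1 (WfDvdMonoid.isRelPrime_of_no_irreducible_factors
        (fun h => hC0 h.2) fun z hz hz1 hz2 => ?_)
      obtain ⟨f, hf, hfz⟩ := UniqueFactorizationMonoid.exists_mem_normalizedFactors_of_dvd hC0 hz hz2
      have hfi := UniqueFactorizationMonoid.irreducible_of_normalized_factor f hf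
      have hfm := monic_of_mem_factors hf
      have hfd := UniqueFactorizationMonoid.dvd_of_mem_normalizedFactors hf
      obtain ⟨hfx, hns⟩ := hC f hfi hfm hfd
      exact hns (star_dvd_of_dvd_comp hr hfi hfm hfx (hfz.symm.dvd.trans hz1))
    obtain ⟨a, c, hac⟩ := hc'
    have hb : ∀ u ∈ U, ∀ v ∈ U, polar Q u v = 0 := by
      intro u hu v hv
      have hv' : v = aeval T (C.comp (X ^ (r - 1))) (aeval T a v) := by
        have h2 := congrArg (fun t => aeval T t v) hac
        simp only [map_add, map_mul, map_one, LinearMap.add_apply, Module.End.mul_apply, Module.End.one_apply,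
          LinearMap.mem_ker.1 hv, map_zero, add_zero] at h2
        rw [← Module.End.mul_apply, ← map_mul, mul_comm, map_mul, Module.End.mul_apply, h2]
      rw [hv', ← hadj, LinearMap.mem_ker.1 hu, polar_zero_left]
    have hTU : ∀ x ∈ U, T x ∈ U := fun x hx => by simpa using hcomm X x hx
    let D : U →ₗ[F] U := LinearMap.restrict (T - 1) fun x hx => by
      rw [LinearMap.sub_apply, Module.End.one_apply]
      exact U.sub_mem (hTU x hx) hx
    have hD : Function.Injective D := by
      rw [← LinearMap.ker_eq_bot, LinearMap.ker_eq_bot']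
      intro x hx
      refine Subtype.ext (eq_zero_of_fixed (g := g) h1 (sub_eq_zero.1 ?_))
      exact congrArg Subtype.val hx
    intro w hw
    obtain ⟨⟨x, hx⟩, hxw⟩ := LinearMap.surjective_of_injective hD ⟨w, hw⟩
    have hxw' : T x - x = w := congrArg Subtype.val hxw
    have h2 : Q x + Q x = 0 := by
      have := hb x hx x hx
      rwa [polar_self, two_nsmul] at this
    rw [← hxw', sub_eq_add_neg, QuadraticMap.map_add ⇑Q, QuadraticMap.map_neg, polar_neg_right,
      hb _ (hTU x hx) x hx, neg_zero, add_zero, show Q (T x) = Q x from hg x, h2]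
  have hne : A * B ≠ 0 := hAB ▸ (LinearMap.charpoly_monic _).ne_zero
  obtain ⟨a, c, hac⟩ := hcop
  have htop : LinearMap.ker (aeval T A) ⊔ LinearMap.ker (aeval T B) = ⊤ := by
    rw [eq_top_iff]
    intro v _
    have h2 := congrArg (fun t => aeval T t v) hac
    simp only [map_add, map_one, LinearMap.add_apply, Module.End.one_apply] at h2
    have h0 : ∀ f : F[X], aeval T (f * (A * B)) v = 0 := fun f => by
      rw [map_mul, ← hAB, LinearMap.aeval_self_charpoly, mul_zero, LinearMap.zero_apply]
    rw [← h2, add_comm]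
    refine Submodule.add_mem_sup ?_ ?_ <;> rw [LinearMap.mem_ker, ← Module.End.mul_apply, ← map_mul]
    · rw [show A * (c * B) = c * (A * B) by ring]; exact h0 c
    · rw [show B * (a * A) = a * (A * B) by ring]; exact h0 a
  have hle := Submodule.finrank_add_le_finrank_add_finrank (LinearMap.ker (aeval T A)) (LinearMap.ker (aeval T B))
  rw [htop, finrank_top] at hle
  rcases le_total (Module.finrank F (LinearMap.ker (aeval T A))) (Module.finrank F (LinearMap.ker (aeval T B))) with h | h
  · exact ⟨_, hts B hB (mul_ne_zero_iff.1 hne).2, by omega⟩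
  · exact ⟨_, hts A hA (mul_ne_zero_iff.1 hne).1, by omega⟩

end Cfsg.Agent.Lib.Classical.OrthTorsion
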