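import Cfsg.Agent.Lib.Classical.Order

/-!
The action of `PGL₂` and `SL₂` on triples of points of the projective line.
-/

set_option autoImplicit false

namespace Cfsg.Agent.Lib.Classical

open Matrix
open scoped LinearAlgebra.Projectivization MatrixGroups

variable {F : Type*} [Field F]

/-- The matrix with columns `x`, `y`. -/
def colMat (x y : Fin 2 → F) : Matrix (Fin 2) (Fin 2) F := !![x 0, y 0; x 1, y 1]

lemma colMat_mulVec (x y w : Fin 2 → F) : colMat x y *ᵥ w = w 0 • x + w 1 • y := by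
  ext i
  fin_cases i <;> simp [colMat, mulVec, dotProduct, Fin.sum_univ_two] <;> ring

lemma proj_mk_eq {x y : Fin 2 → F} (hx : x ≠ 0) (hy : y ≠ 0) (a : F) (h : a • y = x) :
    Projectivization.mk F x hx = Projectivization.mk F y hy :=
  (Projectivization.mk_eq_mk_iff' _ _ _ _ _).2 ⟨a, h⟩

/-- A projective frame is the image of the standard one. -/
lemma exists_frame (a b c : ℙ F (Fin 2 → F)) (hab : a ≠ b) (hac : a ≠ c) (hbc : b ≠ c) :
    ∃ x y : Fin 2 → F, (colMat x y).det ≠ 0 ∧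
      (∃ hx : x ≠ 0, Projectivization.mk F x hx = a) ∧
      (∃ hy : y ≠ 0, Projectivization.mk F y hy = b) ∧
      (∃ hxy : x + y ≠ 0, Projectivization.mk F (x + y) hxy = c) := by
  induction a using Projectivization.ind with | _ u hu =>
  induction b using Projectivization.ind with | _ v hv =>
  induction c using Projectivization.ind with | _ w hw =>
  have hdet : (colMat u v).det ≠ 0 := by
    intro h
    obtain ⟨z, hz, hz'⟩ := Matrix.exists_mulVec_eq_zero_iff.2 h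
    rw [colMat_mulVec] at hz'
    rcases eq_or_ne (z 0) 0 with h0 | h0
    · rw [h0, zero_smul, zero_add] at hz'
      have h1 : z 1 ≠ 0 := fun h1 => hz (by ext i; fin_cases i <;> simp [h0, h1])
      exact hv (by simpa [h1] using hz')
    · refine hab (proj_mk_eq hu hv (-(z 0)⁻¹ * z 1) ?_)
      have h2 := congrArg ((z 0)⁻¹ • ·) hz'
      simp only [smul_add, smul_smul, inv_mul_cancel₀ h0, one_smul, smul_zero] at h2
      rw [neg_mul, neg_smul]
      exact (eq_neg_of_add_eq_zero_left h2).symm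
  set z := (colMat u v)⁻¹ *ᵥ w with hzdef
  have hwz : z 0 • u + z 1 • v = w := by
    rw [← colMat_mulVec, hzdef, mulVec_mulVec,
      Matrix.mul_nonsing_inv _ (Ne.isUnit hdet), one_mulVec]
  have h0 : z 0 ≠ 0 := fun h => hbc (proj_mk_eq hw hv (z 1) (by simpa [h] using hwz)).symm
  have h1 : z 1 ≠ 0 := fun h => hac (proj_mk_eq hw hu (z 0) (by simpa [h] using hwz)).symm
  refine ⟨z 0 • u, z 1 • v, ?_, ⟨smul_ne_zero h0 hu, proj_mk_eq _ hu (z 0) rfl⟩,
    ⟨smul_ne_zero h1 hv, proj_mk_eq _ hv (z 1) rfl⟩, ⟨hwz ▸ hw, ?_⟩⟩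
  · have : (colMat (z 0 • u) (z 1 • v)).det = z 0 * z 1 * (colMat u v).det := by
      simp [colMat, det_fin_two]; ring
    rw [this]
    exact mul_ne_zero (mul_ne_zero h0 h1) hdet
  · exact proj_mk_eq _ hw 1 (by rw [one_smul, hwz])

lemma e_ne (i : Fin 2) : (Pi.single i 1 : Fin 2 → F) ≠ 0 := Pi.single_ne_zero_iff.2 one_ne_zero

lemma one_one_ne : (![1, 1] : Fin 2 → F) ≠ 0 := fun h => by simpa using congrFun h 0

/-- Standard frame. -/
def p₀ : ℙ F (Fin 2 → F) := Projectivization.mk F (Pi.single 0 1) (e_ne 0)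
/-- Standard frame. -/
def p₁ : ℙ F (Fin 2 → F) := Projectivization.mk F (Pi.single 1 1) (e_ne 1)
/-- Standard frame. -/
def p₂ : ℙ F (Fin 2 → F) := Projectivization.mk F ![1, 1] one_one_ne

lemma exists_gl_frame (a b c : ℙ F (Fin 2 → F)) (hab : a ≠ b) (hac : a ≠ c) (hbc : b ≠ c) :
    ∃ g : GL (Fin 2) F, g • (p₀ : ℙ F (Fin 2 → F)) = a ∧ g • (p₁ : ℙ F (Fin 2 → F)) = b ∧
      g • (p₂ : ℙ F (Fin 2 → F)) = c := by
  obtain ⟨x, y, hd, ⟨hx, rfl⟩, ⟨hy, rfl⟩, ⟨hxy, rfl⟩⟩ := exists_frame a b c hab hac hbc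
  refine ⟨GeneralLinearGroup.mkOfDetNeZero _ hd, ?_, ?_, ?_⟩ <;>
    simp only [p₀, p₁, p₂, Projectivization.smul_mk] <;>
    refine proj_mk_eq _ _ 1 ?_ <;>
    rw [one_smul] <;>
    refine Eq.trans ?_ (colMat_mulVec x y _).symm <;> simp

lemma frame_ne : (p₀ : ℙ F (Fin 2 → F)) ≠ p₁ ∧ (p₀ : ℙ F (Fin 2 → F)) ≠ p₂ ∧
    (p₁ : ℙ F (Fin 2 → F)) ≠ p₂ := by
  simp only [p₀, p₁, p₂, ne_eq, Projectivization.mk_eq_mk_iff']
  refine ⟨?_, ?_, ?_⟩ <;> rintro ⟨a, ha⟩ <;>
    have h0 := congrFun ha 0 <;> have h1 := congrFun ha 1 <;> simp_all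

/-- The standard frame as an embedding. -/
def frame : Fin 3 ↪ ℙ F (Fin 2 → F) :=
  ⟨![p₀, p₁, p₂], by
    intro i j h
    obtain ⟨h1, h2, h3⟩ := frame_ne (F := F)
    fin_cases i <;> fin_cases j <;> simp_all [eq_comm]⟩

lemma isThreeTransitive_of {G : Type*} [Group G] [MulAction G (ℙ F (Fin 2 → F))]
    (h : ∀ a b c : ℙ F (Fin 2 → F), a ≠ b → a ≠ c → b ≠ c →
      ∃ g : G, g • (p₀ : ℙ F (Fin 2 → F)) = a ∧ g • (p₁ : ℙ F (Fin 2 → F)) = b ∧
        g • (p₂ : ℙ F (Fin 2 → F)) = c) :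
    MulAction.IsMultiplyPretransitive G (ℙ F (Fin 2 → F)) 3 := by
  have key : ∀ x : Fin 3 ↪ ℙ F (Fin 2 → F), ∃ g : G, g • frame = x := by
    intro x
    obtain ⟨g, h0, h1, h2⟩ := h (x 0) (x 1) (x 2) (x.injective.ne (by decide))
      (x.injective.ne (by decide)) (x.injective.ne (by decide))
    refine ⟨g, ?_⟩
    ext i
    fin_cases i <;> simpa [frame]
  refine ⟨fun x y => ?_⟩
  obtain ⟨g, hg⟩ := key x
  obtain ⟨k, hk⟩ := key y
  exact ⟨k * g⁻¹, by rw [← hg, ← hk, mul_smul, inv_smul_smul]⟩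

theorem PGL_two_three_transitive :
    MulAction.IsMultiplyPretransitive (PGL(Fin 2, F)) (ℙ F (Fin 2 → F)) 3 :=
  isThreeTransitive_of fun a b c hab hac hbc => by
    obtain ⟨g, h⟩ := exists_gl_frame a b c hab hac hbc
    exact ⟨.mk g, h⟩

theorem PGL_two_eq_one_of_three_fixed (g : PGL(Fin 2, F)) (a b c : ℙ F (Fin 2 → F))
    (hab : a ≠ b) (hac : a ≠ c) (hbc : b ≠ c) (ha : g • a = a) (hb : g • b = b) (hc : g • c = c) :
    g = 1 := by
  obtain ⟨x, y, hd, ⟨hx, rfl⟩, ⟨hy, rfl⟩, ⟨hxy, rfl⟩⟩ := exists_frame a b c hab hac hbc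
  induction g using Matrix.ProjGenLinGroup.induction_on with | _ M =>
  simp only [Projectivization.PGL.mk_smul_mk, Projectivization.mk_eq_mk_iff'] at ha hb hc
  obtain ⟨p, hp⟩ := ha
  obtain ⟨q, hq⟩ := hb
  obtain ⟨r, hr⟩ := hc
  rw [smul_add r, smul_add M, ← hp, ← hq] at hr
  have hinj : ∀ z : Fin 2 → F, z 0 • x + z 1 • y = 0 → z = 0 := fun z hz => by
    by_contra h
    exact hd (Matrix.exists_mulVec_eq_zero_iff.1 ⟨z, h, by rw [colMat_mulVec, hz]⟩)
  have hpq := hinj ![p - r, q - r] (by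
    simp only [Matrix.cons_val_zero, Matrix.cons_val_one]
    linear_combination (norm := module) -hr)
  have h1 : p = r := sub_eq_zero.1 (by simpa using congrFun hpq 0)
  have h2 : q = r := sub_eq_zero.1 (by simpa using congrFun hpq 1)
  have hM : ∀ w, (M : Matrix (Fin 2) (Fin 2) F) *ᵥ w = r • w := by
    intro w
    set z := (colMat x y)⁻¹ *ᵥ w
    have hw : z 0 • x + z 1 • y = w := by
      rw [← colMat_mulVec, mulVec_mulVec, Matrix.mul_nonsing_inv _ (Ne.isUnit hd), one_mulVec]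
    have hp' : (M : Matrix (Fin 2) (Fin 2) F) *ᵥ x = p • x := hp.symm
    have hq' : (M : Matrix (Fin 2) (Fin 2) F) *ᵥ y = q • y := hq.symm
    rw [← hw, mulVec_add, mulVec_smul, mulVec_smul, hp', hq', h1, h2]
    module
  rw [Matrix.ProjGenLinGroup.mk_eq_one, Matrix.GeneralLinearGroup.mem_center_iff_val_mem_range_scalar]
  refine ⟨r, ?_⟩
  apply Matrix.ext_iff_mulVec.2
  intro w
  rw [hM]
  simp [Matrix.scalar_apply, ← Matrix.smul_one_eq_diagonal, smul_mulVec]

theorem SL_two_three_transitive_iff [Fintype F] :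
    MulAction.IsMultiplyPretransitive (SpecialLinearGroup (Fin 2) F) (ℙ F (Fin 2 → F)) 3 ↔
      ringChar F = 2 := by
  constructor
  · intro h
    by_contra h2
    obtain ⟨d, hd⟩ := FiniteField.exists_nonsquare h2
    have hd0 : d ≠ 0 := fun h0 => hd (h0 ▸ IsSquare.zero)
    have hne : (![1, d] : Fin 2 → F) ≠ 0 := fun h0 => by simpa using congrFun h0 0
    let p₃ := Projectivization.mk F ![1, d] hne
    have h13 : (p₀ : ℙ F (Fin 2 → F)) ≠ p₃ := by
      simp only [p₀, p₃, ne_eq, Projectivization.mk_eq_mk_iff']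
      rintro ⟨a, ha⟩
      have h0 := congrFun ha 0
      have h1 := congrFun ha 1
      simp_all
    have h23 : (p₁ : ℙ F (Fin 2 → F)) ≠ p₃ := by
      simp only [p₁, p₃, ne_eq, Projectivization.mk_eq_mk_iff']
      rintro ⟨a, ha⟩
      have h0 := congrFun ha 0
      have h1 := congrFun ha 1
      simp_all
    obtain ⟨g, hg⟩ := h.exists_smul_eq (frame (F := F))
      ⟨![p₀, p₁, p₃], by
        intro i j hij
        obtain ⟨h1, -, -⟩ := frame_ne (F := F)
        fin_cases i <;> fin_cases j <;> simp_all [eq_comm]⟩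
    have g0 : g • (p₀ : ℙ F (Fin 2 → F)) = p₀ := congrArg (fun f => f 0) hg
    have g1 : g • (p₁ : ℙ F (Fin 2 → F)) = p₁ := congrArg (fun f => f 1) hg
    have g2 : g • (p₂ : ℙ F (Fin 2 → F)) = p₃ := congrArg (fun f => f 2) hg
    simp only [p₀, p₁, p₂, p₃, Projectivization.smul_mk, Projectivization.mk_eq_mk_iff',
      SpecialLinearGroup.smul_def] at g0 g1 g2
    obtain ⟨x, hx⟩ := g0
    obtain ⟨y, hy⟩ := g1
    obtain ⟨z, hz⟩ := g2
    replace hx : x • _ = (g : Matrix (Fin 2) (Fin 2) F) *ᵥ _ := hx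
    replace hy : y • _ = (g : Matrix (Fin 2) (Fin 2) F) *ᵥ _ := hy
    replace hz : z • _ = (g : Matrix (Fin 2) (Fin 2) F) *ᵥ _ := hz
    have e10 := congrFun hx 1
    have e01 := congrFun hy 0
    have f0 := congrFun hz 0
    have f1 := congrFun hz 1
    have hdet := g.2
    rw [det_fin_two] at hdet
    simp [mulVec, dotProduct, Fin.sum_univ_two] at e10 e01 f0 f1
    apply hd
    rw [← e10, ← e01, mul_zero, sub_zero] at hdet
    rw [← e10, zero_add] at f1
    rw [← e01, add_zero] at f0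
    refine ⟨(g : Matrix (Fin 2) (Fin 2) F) 1 1, ?_⟩
    rw [← f1, ← f0] at hdet
    rw [← f1]
    linear_combination -d * hdet
  · intro h2
    refine isThreeTransitive_of fun a b c hab hac hbc => ?_
    obtain ⟨x, y, hd, ⟨hx, rfl⟩, ⟨hy, rfl⟩, ⟨hxy, rfl⟩⟩ := exists_frame a b c hab hac hbc
    obtain ⟨s, hs⟩ := FiniteField.isSquare_of_char_two h2 (colMat x y).det⁻¹
    have hs0 : s ≠ 0 := fun h0 => hd (by simpa [h0] using hs)
    refine ⟨⟨s • colMat x y, ?_⟩, ?_, ?_, ?_⟩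
    · rw [det_smul, Fintype.card_fin, sq, ← hs, inv_mul_cancel₀ hd]
    all_goals
      simp only [p₀, p₁, p₂, Projectivization.smul_mk]
      refine proj_mk_eq _ _ s ?_
      change _ = (s • colMat x y) *ᵥ _
      rw [smul_mulVec, colMat_mulVec]
      simp

end Cfsg.Agent.Lib.Classical
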