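import Cfsg.Agent.Lib.Two.Mat

/-!
Centralisers of semisimple non-central elements of `SL₂` are cyclic.
-/

set_option autoImplicit false

namespace Cfsg.Agent.Lib.Classical

open Matrix Cfsg.Agent.Lib.Two
open scoped MatrixGroups

variable {F : Type*} [Field F]

lemma isScalar2_center {z : SL(2, F)} (h : IsScalar2 (z : Matrix (Fin 2) (Fin 2) F)) (g : SL(2, F)) :
    g * z = z * g := by
  obtain ⟨c, hc⟩ := (isScalar2_iff _).1 h
  apply Subtype.ext
  simp [Matrix.SpecialLinearGroup.coe_mul, hc]

lemma sl_two_mul_self (z : SL(2, F)) :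
    (z : Matrix (Fin 2) (Fin 2) F) * z =
      (-1 : F) • (1 : Matrix (Fin 2) (Fin 2) F) +
        (z : Matrix (Fin 2) (Fin 2) F).trace • (z : Matrix (Fin 2) (Fin 2) F) := by
  have hd := z.2
  rw [det_fin_two] at hd
  ext i j
  fin_cases i <;> fin_cases j <;>
    simp [Matrix.mul_apply, Fin.sum_univ_two, trace_fin_two] <;>
    first | linear_combination -hd | ring

theorem sl_two_centralizer_cyclic [Finite F] (z : SL(2, F))
    (hz : ¬IsScalar2 (z : Matrix (Fin 2) (Fin 2) F))
    (ht : (z : Matrix (Fin 2) (Fin 2) F).trace ^ 2 ≠ 4) :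
    IsCyclic (Subgroup.centralizer {z} : Subgroup (SL(2, F))) := by
  classical
  set t := (z : Matrix (Fin 2) (Fin 2) F).trace with ht'
  obtain ⟨μ, hμ⟩ := IsAlgClosed.exists_root
    (Polynomial.X ^ 2 - Polynomial.C (algebraMap F (AlgebraicClosure F) t) * Polynomial.X + 1)
    (by
      have : (Polynomial.X ^ 2 - Polynomial.C (algebraMap F (AlgebraicClosure F) t) * Polynomial.X + 1 :
        Polynomial (AlgebraicClosure F)).degree = 2 := by compute_degree!
      rw [this]; norm_num)
  simp only [Polynomial.IsRoot, Polynomial.eval_add, Polynomial.eval_sub, Polynomial.eval_pow,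
    Polynomial.eval_X, Polynomial.eval_mul, Polynomial.eval_C, Polynomial.eval_one] at hμ
  set φ := algebraMap F (AlgebraicClosure F) with hφ
  have hcomb : ∀ x : (Subgroup.centralizer {z} : Subgroup (SL(2, F))), ∃ a b : F,
      ((x : SL(2, F)) : Matrix (Fin 2) (Fin 2) F) = a • 1 + b • (z : Matrix (Fin 2) (Fin 2) F) := by
    intro x
    refine (commute_iff _ hz _).1 ?_
    have h := congrArg (fun g : SL(2, F) => (g : Matrix (Fin 2) (Fin 2) F))
      (Subgroup.mem_centralizer_singleton_iff.1 x.2)
    simp only [Matrix.SpecialLinearGroup.coe_mul] at h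
    first | exact h | exact h.symm
  choose a b hab using hcomb
  let f : (Subgroup.centralizer {z} : Subgroup (SL(2, F))) →* AlgebraicClosure F :=
    { toFun := fun x => φ (a x) + φ (b x) * μ
      map_one' := by
        have h := hab 1
        obtain ⟨h1, h2⟩ := combo_inj _ hz (a 1) (b 1) 1 0 (by
          rw [← h, one_smul, zero_smul, add_zero]; rfl)
        simp [h1, h2]
      map_mul' := fun x y => by
        obtain ⟨h1, h2⟩ := combo_inj _ hz (a (x * y)) (b (x * y)) (a x * a y - b x * b y)
          (a x * b y + b x * a y + b x * b y * t) (by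
            rw [← hab (x * y), Subgroup.coe_mul, Matrix.SpecialLinearGroup.coe_mul, hab x, hab y,
              Matrix.add_mul, Matrix.mul_add, Matrix.mul_add]
            simp only [Matrix.smul_mul, Matrix.mul_smul, Matrix.one_mul, Matrix.mul_one,
              sl_two_mul_self, ← ht']
            module)
        simp only [h1, h2, map_sub, map_add, map_mul]
        linear_combination -(φ (b x) * φ (b y)) * hμ }
  refine isCyclic_of_subgroup_isDomain f ((injective_iff_map_eq_one f).2 fun x hx => ?_)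
  change φ (a x) + φ (b x) * μ = 1 at hx
  have hdet : a x ^ 2 + a x * b x * t + b x ^ 2 = 1 := by
    have h := det_combo (z : Matrix (Fin 2) (Fin 2) F) (a x) (b x)
    rw [← hab x, z.2, (x : SL(2, F)).2, mul_one] at h
    exact h.symm
  have hdet' := congrArg φ hdet
  simp only [map_add, map_mul, map_pow, map_one] at hdet'
  have hb : φ (b x) * (φ t - 2 * μ) = 0 := by
    linear_combination (-1 - φ (a x) - φ (b x) * μ - φ (b x) * (φ t - 2 * μ)) * hx + hdet' +
      -φ (b x) ^ 2 * hμ
  have hne : φ t - 2 * μ ≠ 0 := by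
    intro h
    refine ht (φ.injective ?_)
    rw [map_pow, map_ofNat]
    linear_combination (φ t - 2 * μ) * h - 4 * hμ
  have hb0 : b x = 0 := φ.injective (by rw [(mul_eq_zero.1 hb).resolve_right hne, map_zero])
  rw [hb0, map_zero, zero_mul, add_zero, ← φ.map_one] at hx
  exact Subtype.ext (Subtype.ext (by
    rw [hab x, φ.injective hx, hb0, one_smul, zero_smul, add_zero]; rfl))

theorem sl_two_odd_sylow_cyclic [Fintype F] (p : ℕ) [Fact p.Prime] [CharP F p] (r : ℕ)
    [Fact r.Prime] (hr : r ≠ 2) (hrp : r ≠ p) (R : Sylow r (SL(2, F))) :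
    IsCyclic (R : Subgroup (SL(2, F))) := by
  rcases subsingleton_or_nontrivial (R : Subgroup (SL(2, F))) with h | h
  · infer_instance
  obtain ⟨k, hk, hk'⟩ := (R.isPGroup'.to_subgroup (Subgroup.center _)).nontrivial_iff_card.1
    (R.isPGroup'.center_nontrivial)
  obtain ⟨z, hz⟩ := exists_prime_orderOf_dvd_card' (G := Subgroup.center (R : Subgroup (SL(2, F)))) r
    (hk'.symm ▸ dvd_pow_self r hk.ne')
  set y : SL(2, F) := ((z : (R : Subgroup (SL(2, F)))) : SL(2, F)) with hy
  have hyo : orderOf y = r := by rw [hy, Subgroup.orderOf_coe, Subgroup.orderOf_coe, hz]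
  have hr' : r.Prime := Fact.out
  have hp' : p.Prime := Fact.out
  have hnp : ¬r ∣ 2 * p := fun h => (hr'.dvd_mul.1 h).elim
    (fun h => hr ((Nat.prime_dvd_prime_iff_eq hr' Nat.prime_two).1 h))
    (fun h => hrp ((Nat.prime_dvd_prime_iff_eq hr' hp').1 h))
  have hscal : ¬IsScalar2 (y : Matrix (Fin 2) (Fin 2) F) := by
    intro h
    obtain ⟨c, hc⟩ := (isScalar2_iff _).1 h
    have hd := y.2
    rw [hc, det_smul, Fintype.card_fin, det_one, mul_one] at hd
    refine hnp (hyo ▸ (orderOf_dvd_of_pow_eq_one ?_).trans (dvd_mul_right 2 p))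
    apply Subtype.ext
    rw [pow_two, Matrix.SpecialLinearGroup.coe_mul, hc, smul_mul, one_mul, smul_smul, ← pow_two, hd,
      one_smul]
    rfl
  have htr : (y : Matrix (Fin 2) (Fin 2) F).trace ^ 2 ≠ 4 := by
    intro h4
    set t := (y : Matrix (Fin 2) (Fin 2) F).trace with ht
    have h2 : t = 2 ∨ t = -2 := sq_eq_sq_iff_eq_or_eq_neg.1 (by rw [h4]; norm_num)
    obtain ⟨e, he, hte⟩ : ∃ e : F, e * e = 1 ∧ t = 2 * e := by
      rcases h2 with h | h
      · exact ⟨1, one_mul 1, by rw [h, mul_one]⟩
      · exact ⟨-1, by norm_num, by rw [h]; ring⟩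
    set N := (y : Matrix (Fin 2) (Fin 2) F) - e • (1 : Matrix (Fin 2) (Fin 2) F) with hN
    have hN2 : N * N = 0 := by
      rw [hN, Matrix.sub_mul, Matrix.mul_sub, Matrix.mul_sub, Matrix.smul_mul, Matrix.smul_mul,
        Matrix.one_mul, Matrix.mul_smul, Matrix.mul_one, sl_two_mul_self, ← ht, hte, Matrix.one_mul,
        smul_smul, he]
      module
    have hpow : ∀ n : ℕ, (y : Matrix (Fin 2) (Fin 2) F) ^ (n + 1) =
        e ^ (n + 1) • (1 : Matrix (Fin 2) (Fin 2) F) + ((n + 1 : ℕ) : F) • (e ^ n • N) := by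
      intro n
      induction n with
      | zero => simp [hN]
      | succ n ih =>
        rw [pow_succ, ih, show (y : Matrix (Fin 2) (Fin 2) F) = e • 1 + N by rw [hN]; abel]
        simp only [Matrix.add_mul, Matrix.mul_add, Matrix.smul_mul, Matrix.mul_smul, Matrix.one_mul,
          Matrix.mul_one, hN2, smul_zero, add_zero]
        push_cast
        module
    refine hnp (hyo ▸ orderOf_dvd_of_pow_eq_one ?_)
    apply Subtype.ext
    obtain ⟨n, hn⟩ : ∃ n, 2 * p = n + 1 := ⟨2 * p - 1, by have := hp'.pos; omega⟩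
    rw [Matrix.SpecialLinearGroup.coe_pow, hn, hpow, ← hn, Nat.cast_mul, CharP.cast_eq_zero F p,
      mul_zero, zero_smul, add_zero, pow_mul, pow_two, he, one_pow, one_smul]
    rfl
  have hle : (R : Subgroup (SL(2, F))) ≤ Subgroup.centralizer {y} := fun x hx =>
    Subgroup.mem_centralizer_singleton_iff.2
      (congrArg Subtype.val (Subgroup.mem_center_iff.1 z.2 ⟨x, hx⟩))
  have := sl_two_centralizer_cyclic y hscal htr
  exact isCyclic_of_injective (Subgroup.inclusion hle) (Subgroup.inclusion_injective hle)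

end Cfsg.Agent.Lib.Classical
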