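import Cfsg.Agent.Lib.Classical.Unitary
import Mathlib.LinearAlgebra.CrossProduct
import Mathlib.LinearAlgebra.Matrix.SchurComplement

/-!
Involutions of three-dimensional special unitary groups in odd characteristic.
-/

set_option autoImplicit false

namespace Cfsg.Agent.Lib.Classical.SUThree

open Matrix Cfsg.Agent.Lib.Classical.Herm

variable {F : Type*} [Field F] [Fintype F] {q : ℕ} (hF : Fintype.card F = q ^ 2) (hq : Odd q)

local notation "H" => Cfsg.hermForm 3 F q
set_option quotPrecheck false in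
local notation "S" => ↥(Cfsg.SU 3 F q)

/-- The matrix of an element. -/
abbrev mat (g : S) : Matrix (Fin 3) (Fin 3) F := ((g : SpecialLinearGroup (Fin 3) F) : Matrix (Fin 3) (Fin 3) F)

include hF hq in
theorem two_ne_zero' : (2 : F) ≠ 0 := by
  refine Ring.two_ne_zero fun h => ?_
  have := FiniteField.even_card_of_char_two h
  rw [hF] at this
  exact Nat.not_even_iff_odd.2 (hq.pow) (Nat.even_iff.2 this)

include hF in
theorem conj_two : (2 : F) ^ q = 2 := map_ofNat (UnitaryConj.qHom hF) 2

omit [Fintype F] in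
theorem ext_mulVec {g h : S} (e : ∀ x, mat g *ᵥ x = mat h *ᵥ x) : g = h :=
  Subtype.ext (Subtype.ext (Matrix.ext_iff_mulVec.2 e))

omit [Fintype F] in
theorem mat_mul_mulVec (g h : S) (x : Fin 3 → F) : mat (g * h) *ᵥ x = mat g *ᵥ (mat h *ᵥ x) :=
  (mulVec_mulVec x (mat g) (mat h)).symm

theorem herm_act (g : S) (x y : Fin 3 → F) : H (mat g *ᵥ x) (mat g *ᵥ y) = H x y :=
  mem_SU.1 g.2 x y

omit [Fintype F] in
theorem mulVec_act_injective (g : S) : Function.Injective (mat g *ᵥ ·) := fun x y h => by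
  have := congrArg (mat g⁻¹ *ᵥ ·) h
  simp only [← mat_mul_mulVec, inv_mul_cancel] at this
  simpa [show mat (1 : S) = 1 from rfl] using this

include hF in
theorem norm_smul (z : F) (v : Fin 3 → F) : H (z • v) (z • v) = z ^ (q + 1) * H v v := by
  rw [herm_smul_left, herm_smul_right, pow_succ']; ring

theorem det_refl (c : F) (u : Fin 3 → F) : (reflMat 3 q c u).det = 1 + c * H u u := by
  rw [reflMat, vecMulVec_eq Unit, det_one_add_replicateCol_mul_replicateRow]
  simp [dotProduct, Cfsg.hermForm, Finset.mul_sum, mul_comm, mul_left_comm, mul_assoc]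

/-- Vectors of norm one. -/
abbrev U (F : Type*) [Field F] (q : ℕ) : Type _ := {v : Fin 3 → F // Cfsg.hermForm 3 F q v v = 1}

theorem invM_mulVec (u x : Fin 3 → F) :
    (-reflMat 3 q (-2) u) *ᵥ x = (2 * H x u) • u - x := by
  rw [neg_mulVec, reflMat_mulVec]
  module

/-- The involution fixing a vector of norm one and negating its orthogonal. -/
def involu (hF : Fintype.card F = q ^ 2) (u : U F q) : S :=
  ⟨⟨-reflMat 3 q (-2) u, by rw [det_neg, det_refl, u.2]; norm_num⟩, by
    intro x y
    change H ((-reflMat 3 q (-2) u) *ᵥ x) ((-reflMat 3 q (-2) u) *ᵥ y) = _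
    simp only [invM_mulVec, herm_sub_left, herm_sub_right hF, herm_smul_left, herm_smul_right, u.2,
      mul_pow, conj_two hF, hermForm_conj hF]
    ring⟩

theorem inv_apply (u : U F q) (x : Fin 3 → F) : mat (involu hF u) *ᵥ x = (2 * H x u) • (u : Fin 3 → F) - x :=
  invM_mulVec _ _

theorem inv_self (u : U F q) : mat (involu hF u) *ᵥ (u : Fin 3 → F) = u := by
  rw [inv_apply, u.2]
  module

theorem inv_sq (u : U F q) : involu hF u * involu hF u = 1 := by
  refine ext_mulVec fun x => ?_
  rw [mat_mul_mulVec, inv_apply, inv_apply, herm_sub_left, herm_smul_left, u.2,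
    show mat (1 : S) = 1 from rfl, one_mulVec]
  module

/-- The action on vectors of norm one. -/
def act (g : S) (u : U F q) : U F q := ⟨mat g *ᵥ u, (herm_act g _ _).trans u.2⟩

theorem conj_inv (g : S) (u : U F q) : g * involu hF u * g⁻¹ = involu hF (act g u) := by
  rw [mul_inv_eq_iff_eq_mul]
  refine ext_mulVec fun x => ?_
  rw [mat_mul_mulVec, mat_mul_mulVec, inv_apply, inv_apply, mulVec_sub, mulVec_smul]
  show _ = (2 * H (mat g *ᵥ x) (mat g *ᵥ (u : Fin 3 → F))) • (mat g *ᵥ (u : Fin 3 → F)) - _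
  rw [herm_act]

include hq in
theorem inv_eq_iff (u v : U F q) :
    involu hF u = involu hF v ↔ ∃ z : F, z ^ (q + 1) = 1 ∧ (v : Fin 3 → F) = z • (u : Fin 3 → F) := by
  constructor
  · intro h
    have h1 := inv_self hF v
    rw [← h, inv_apply] at h1
    have h2 : (v : Fin 3 → F) = H v u • (u : Fin 3 → F) := by
      have h3 : (2 : F) • ((v : Fin 3 → F) - H v u • (u : Fin 3 → F)) = 0 := by
        rw [sub_eq_iff_eq_add] at h1
        rw [smul_sub, smul_smul, h1]
        module
      exact sub_eq_zero.1 ((smul_eq_zero.1 h3).resolve_left (two_ne_zero' hF hq))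
    refine ⟨_, ?_, h2⟩
    have h3 := v.2
    rwa [h2, norm_smul hF, u.2, mul_one] at h3
  · rintro ⟨z, hz, hv⟩
    refine ext_mulVec fun x => ?_
    rw [inv_apply, inv_apply, hv, herm_smul_right, smul_smul,
      show 2 * (z ^ q * H x u) * z = 2 * H x u * z ^ (q + 1) by ring, hz, mul_one]

include hq in
theorem inv_ne_one (u : U F q) : involu hF u ≠ 1 := by
  intro h
  obtain ⟨g, hg, hgu⟩ : ∃ g ∈ Cfsg.GU 3 F q, (g : Matrix (Fin 3) (Fin 3) F) *ᵥ Pi.single 0 1 = (u : Fin 3 → F) :=
    exists_GU_map hF (by rw [herm_single_right hF]; simp) u.2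
  set w := (g : Matrix (Fin 3) (Fin 3) F) *ᵥ Pi.single (1 : Fin 3) (1 : F) with hw
  have h0 : H w u = 0 := by rw [hw, ← hgu, mem_GU.1 hg, herm_single_right hF]; simp
  have h1 : H w w = 1 := by rw [hw, mem_GU.1 hg, herm_single_right hF]; simp
  have h2 : mat (involu hF u) *ᵥ w = w := by rw [h, show mat (1 : S) = 1 from rfl, one_mulVec]
  rw [inv_apply, h0, mul_zero, zero_smul, zero_sub] at h2
  have h4 : (2 : F) • w = 0 := by
    rw [two_smul]; nth_rewrite 1 [← h2]; exact neg_add_cancel w
  rw [(smul_eq_zero.1 h4).resolve_left (two_ne_zero' hF hq)] at h1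
  simp [Cfsg.hermForm] at h1

include hq in
theorem commute_iff (u v : U F q) :
    Commute (involu hF u) (involu hF v) ↔ H v u = 0 ∨ involu hF u = involu hF v := by
  have hiff : Commute (involu hF u) (involu hF v) ↔ involu hF v = involu hF (act (involu hF u) v) := by
    rw [← conj_inv, eq_mul_inv_iff_mul_eq]
    exact eq_comm
  rw [hiff]
  constructor
  · intro h
    obtain ⟨z, -, hz⟩ := (inv_eq_iff hF hq _ _).1 h
    change mat (involu hF u) *ᵥ (v : Fin 3 → F) = _ at hz
    rw [inv_apply, sub_eq_iff_eq_add] at hz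
    by_cases h0 : H v u = 0
    · exact Or.inl h0
    right
    have h2 : (2 : F) * H v u ≠ 0 := mul_ne_zero (two_ne_zero' hF hq) h0
    have hu : (u : Fin 3 → F) = ((2 * H v u)⁻¹ * (z + 1)) • (v : Fin 3 → F) := by
      rw [mul_smul, add_smul, one_smul, ← hz, inv_smul_smul₀ h2]
    refine ((inv_eq_iff hF hq _ _).2 ⟨_, ?_, hu⟩).symm
    have h3 := u.2
    rwa [hu, norm_smul hF, v.2, mul_one] at h3
  · rintro (h | h)
    · refine (inv_eq_iff hF hq _ _).2 ⟨-1, by rw [hq.add_one.neg_one_pow], ?_⟩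
      show mat (involu hF u) *ᵥ (v : Fin 3 → F) = _
      rw [inv_apply, h, mul_zero, zero_smul, zero_sub, neg_one_smul]
    · rw [h, show act (involu hF v) v = v from Subtype.ext (inv_self hF v)]

include hq in
theorem exists_inv {x : S} (hx : x ≠ 1) (hx2 : x * x = 1) : ∃ u, involu hF u = x := by
  have h2 := two_ne_zero' hF hq
  have hinv : ∀ v, mat x *ᵥ (mat x *ᵥ v) = v := fun v => by
    rw [← mat_mul_mulVec, hx2, show mat (1 : S) = 1 from rfl, one_mulVec]
  -- an anisotropic fixed vector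
  obtain ⟨v, hv⟩ : ∃ v, H (v + mat x *ᵥ v) (v + mat x *ᵥ v) ≠ 0 := by
    by_contra hall
    push Not at hall
    obtain ⟨P, hP⟩ : ∃ P : (Fin 3 → F) → (Fin 3 → F), P = fun v => v + mat x *ᵥ v := ⟨_, rfl⟩
    have hall' : ∀ v, H (P v) (P v) = 0 := fun v => by rw [hP]; exact hall v
    have hPadd : ∀ v w, P (v + w) = P v + P w := fun v w => by
      simp only [hP, mulVec_add]; abel
    have hPs : ∀ (c : F) v, P (c • v) = c • P v := fun c v => by
      simp only [hP, mulVec_smul, smul_add]
    have hsym : ∀ v w, H (P v) (P w) + H (P w) (P v) = 0 := fun v w => by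
      have h : H (P (v + w)) (P (v + w)) = 0 := hall' (v + w)
      rw [hPadd, herm_add_left, herm_add_right hF, herm_add_right hF, hall' v, hall' w, add_zero, zero_add] at h
      exact h
    have hzero : ∀ v w, H (P v) (P w) = 0 := fun v w => by
      obtain ⟨θ, hθ⟩ := UnitaryConj.exists_moved hF
      change θ ^ q ≠ θ at hθ
      have h := hsym (θ • v) w
      rw [hPs, herm_smul_left, herm_smul_right] at h
      have h' : (θ - θ ^ q) * H (P v) (P w) = 0 := by linear_combination h - θ ^ q * hsym v w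
      exact (mul_eq_zero.1 h').resolve_left (sub_ne_zero.2 (Ne.symm hθ))
    have hhalf : ∀ v w, H (P v) (P w) = 2 * H (P v) w := fun v w => by
      have e : mat x *ᵥ P v = P v := by
        simp only [hP, mulVec_add, hinv]; abel
      have e2 : H (P v) (mat x *ᵥ w) = H (P v) w := by
        conv_lhs => rw [← e, herm_act]
      rw [show P w = w + mat x *ᵥ w by rw [hP], herm_add_right hF, e2, two_mul]
    have hneg : mat x = -1 := Matrix.ext_iff_mulVec.2 fun v => by
      rw [neg_mulVec, one_mulVec, eq_neg_iff_add_eq_zero, add_comm]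
      funext i
      have h := hzero v (Pi.single i 1)
      rw [hhalf, mul_eq_zero, herm_single_right hF] at h
      simpa [hP, add_comm] using h.resolve_left h2
    have hd := (x : SpecialLinearGroup (Fin 3) F).2
    change (mat x).det = 1 at hd
    rw [hneg, det_neg, det_one] at hd
    norm_num at hd
    exact h2 (by linear_combination -hd)
  set w := v + mat x *ᵥ v with hw
  have hxw : mat x *ᵥ w = w := by rw [hw, mulVec_add, hinv, add_comm]
  obtain ⟨z, hz0, hz⟩ := exists_norm hF hv (hermForm_conj hF 3 w w)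
  have hu : H (z⁻¹ • w) (z⁻¹ • w) = 1 := by
    rw [norm_smul hF, inv_pow, hz, inv_mul_cancel₀ hv]
  set u : U F q := ⟨z⁻¹ • w, hu⟩ with hudef
  have hxu : mat x *ᵥ (u : Fin 3 → F) = u := by rw [hudef]; simp only [mulVec_smul, hxw]
  -- the product fixes u and has determinant one and square one
  obtain ⟨g, hg, hgu⟩ := exists_GU_map hF (u := Pi.single (0 : Fin 3) 1)
    (by rw [herm_single_right hF]; simp) hu
  set G := (g : Matrix (Fin 3) (Fin 3) F) with hG
  set G' := ((g⁻¹ : GL (Fin 3) F) : Matrix (Fin 3) (Fin 3) F) with hG'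
  have hGG : G * G' = 1 := by rw [hG, hG', ← Units.val_mul, mul_inv_cancel, Units.val_one]
  have hGG' : G' * G = 1 := by rw [hG, hG', ← Units.val_mul, inv_mul_cancel, Units.val_one]
  set M := G' * mat x * G with hM
  have hMM : M * M = 1 := by
    rw [hM, show G' * mat x * G * (G' * mat x * G) = G' * mat x * (G * G') * mat x * G by
      simp only [Matrix.mul_assoc], hGG, mul_one, Matrix.mul_assoc G',
      show mat x * mat x = mat (x * x) from rfl, hx2, show mat (1 : S) = 1 from rfl, mul_one, hGG']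
  have hMe : M *ᵥ Pi.single 0 1 = Pi.single 0 1 := by
    rw [hM, ← mulVec_mulVec, hgu, ← mulVec_mulVec, hxu]
    rw [show (u : Fin 3 → F) = G *ᵥ Pi.single 0 1 from hgu.symm, mulVec_mulVec, hGG', one_mulVec]
  have hMh : ∀ a b, H (M *ᵥ a) (M *ᵥ b) = H a b := fun a b => by
    rw [hM]
    simp only [← mulVec_mulVec]
    rw [hG', mem_GU.1 (Subgroup.inv_mem _ hg), herm_act, hG, mem_GU.1 hg]
  have h00 : ∀ i : Fin 3, M i 0 = Pi.single (M := fun _ => F) 0 1 i := fun i => by
    rw [← hMe, mulVec_single_one]; rfl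
  have h0j : ∀ j : Fin 3, M 0 j = Pi.single (M := fun _ => F) 0 1 j := fun j => by
    have h := hMh (Pi.single j 1) (Pi.single 0 1)
    rw [hMe, herm_single_right hF, herm_single_right hF, mulVec_single_one, Matrix.col_apply] at h
    rw [h, Pi.single_apply, Pi.single_apply]
    exact if_congr eq_comm rfl rfl
  have hdet : M.det = 1 := by
    have : mat x ∈ {A : Matrix (Fin 3) (Fin 3) F | A.det = 1} := (x : SpecialLinearGroup (Fin 3) F).2
    rw [hM, det_mul, det_mul, this, mul_one, mul_comm, ← det_mul, hGG, det_one]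
  rw [det_fin_three] at hdet
  have e11 := congrFun (congrFun hMM 1) 1
  have e12 := congrFun (congrFun hMM 1) 2
  have e21 := congrFun (congrFun hMM 2) 1
  have e22 := congrFun (congrFun hMM 2) 2
  simp only [mul_apply, Fin.sum_univ_three, h00, h0j, Matrix.one_apply] at e11 e12 e21 e22
  simp only [h00, h0j] at hdet
  simp at e11 e12 e21 e22 hdet
  have hb : (2 : F) * M 1 2 = 0 := by
    have : M 1 2 * (M 1 1 + M 2 2) = 0 := by linear_combination e12
    rcases mul_eq_zero.1 this with h | h
    · rw [h, mul_zero]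
    · exfalso
      exact h2 (by linear_combination -hdet - e11 + M 1 1 * h)
  have hc : (2 : F) * M 2 1 = 0 := by
    have : M 2 1 * (M 1 1 + M 2 2) = 0 := by linear_combination e21
    rcases mul_eq_zero.1 this with h | h
    · rw [h, mul_zero]
    · exfalso
      exact h2 (by linear_combination -hdet - e11 + M 1 1 * h)
  have hb0 := (mul_eq_zero.1 hb).resolve_left h2
  have hc0 := (mul_eq_zero.1 hc).resolve_left h2
  rw [hb0, zero_mul, add_zero] at e11
  rw [hb0, hc0, mul_zero, sub_zero] at hdet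
  have had : M 2 2 = M 1 1 := by linear_combination M 1 1 * hdet - M 2 2 * e11
  have hback : mat x = G * M * G' := by
    rw [hM, show G * (G' * mat x * G) * G' = G * G' * mat x * (G * G') by simp only [Matrix.mul_assoc],
      hGG, one_mul, mul_one]
  rcases mul_self_eq_one_iff.1 e11 with ha | ha
  · exfalso
    apply hx
    refine ext_mulVec fun v => ?_
    have : M = 1 := by
      ext i j
      fin_cases i <;> fin_cases j <;> simp [h00, h0j, hb0, hc0, ha, had]
    rw [hback, this, mul_one, hGG, show mat (1 : S) = 1 from rfl]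
  · refine ⟨u, ext_mulVec fun v => ?_⟩
    rw [inv_apply, hback, ← mulVec_mulVec, ← mulVec_mulVec]
    have e : ∀ y, M *ᵥ y = (2 * y 0) • Pi.single (0 : Fin 3) (1 : F) - y := fun y => by
      funext i
      fin_cases i <;> simp [mulVec, dotProduct, Fin.sum_univ_three, h00, h0j, hb0, hc0, ha, had]
      ring
    rw [e, mulVec_sub, mulVec_smul, mulVec_mulVec, hGG, one_mulVec, hgu]
    congr 2
    have h := mem_GU.1 hg (G' *ᵥ v) (Pi.single 0 1)
    rw [hgu, mulVec_mulVec, hGG, one_mulVec, herm_single_right hF] at h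
    rw [show H v (u : Fin 3 → F) = _ from h]

include hF in
theorem exists_act (u : U F q) : ∃ g : S, (act g u : Fin 3 → F) = Pi.single 0 1 := by
  obtain ⟨g, hg, hgu⟩ := exists_GU_map hF u.2 (v := Pi.single 0 1) (by rw [herm_single_right hF]; simp)
  set d := (g : Matrix (Fin 3) (Fin 3) F).det with hd
  have hdn : d ^ (q + 1) = 1 := det_norm hF hg
  have hd0 : d ≠ 0 := by intro h; simp [h] at hdn
  obtain ⟨D, hD, hDm⟩ := exists_diag hF ![1, d⁻¹, 1] fun i => by
    fin_cases i <;> simp [inv_pow, hdn]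
  set A := D * g
  have hA : (A : Matrix (Fin 3) (Fin 3) F).det = 1 := by
    rw [show A = D * g from rfl, Units.val_mul, det_mul, hDm, det_diagonal, Fin.prod_univ_three]
    simp [← hd, hd0]
  refine ⟨⟨⟨(A : Matrix (Fin 3) (Fin 3) F), hA⟩, mem_GU.1 (Subgroup.mul_mem _ hD hg)⟩, ?_⟩
  show (A : Matrix (Fin 3) (Fin 3) F) *ᵥ (u : Fin 3 → F) = _
  rw [show A = D * g from rfl, Units.val_mul, ← mulVec_mulVec, hgu, hDm]
  funext i
  fin_cases i <;> simp [mulVec_diagonal]

/-- The conjugated cross product. -/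
def cross (q : ℕ) (u v : Fin 3 → F) : Fin 3 → F := fun i => crossProduct u v i ^ q

include hF in
theorem cross_left (u v : Fin 3 → F) : H u (cross q u v) = 0 := by
  simp only [Cfsg.hermForm, cross, conj_conj hF, Fin.sum_univ_three, cross_apply]
  simp
  ring

include hF in
theorem cross_right (u v : Fin 3 → F) : H v (cross q u v) = 0 := by
  simp only [Cfsg.hermForm, cross, conj_conj hF, Fin.sum_univ_three, cross_apply]
  simp
  ring

include hF in
theorem cross_norm (u v : Fin 3 → F) :
    H (cross q u v) (cross q u v) = H u u * H v v - H u v * H v u := by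
  simp only [Cfsg.hermForm, cross, conj_conj hF, Fin.sum_univ_three, cross_apply]
  simp [conj_sub hF, mul_pow]
  ring

include hF in
theorem exists_third (u v : U F q) (h : H v u ^ (q + 1) ≠ 1) :
    ∃ w : U F q, H w u = 0 ∧ H w v = 0 := by
  set c := cross q (u : Fin 3 → F) v
  have hcc : H c c ≠ 0 := by
    rw [cross_norm hF, u.2, v.2, one_mul, sub_ne_zero, ← hermForm_conj hF 3 (v : Fin 3 → F) u, ← pow_succ]
    exact Ne.symm h
  obtain ⟨z, hz0, hz⟩ := exists_norm hF hcc (hermForm_conj hF 3 c c)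
  refine ⟨⟨z⁻¹ • c, by rw [norm_smul hF, inv_pow, hz, inv_mul_cancel₀ hcc]⟩, ?_, ?_⟩
  · rw [herm_smul_left, ← hermForm_conj hF 3 (u : Fin 3 → F) c, cross_left hF, conj_zero hF, mul_zero]
  · rw [herm_smul_left, ← hermForm_conj hF 3 (v : Fin 3 → F) c, cross_right hF, conj_zero hF, mul_zero]

include hF in
/-- An orthonormal triple spans. -/
theorem expand (a b c : U F q) (hab : H a b = 0) (hac : H a c = 0) (hbc : H b c = 0) (x : Fin 3 → F) :
    x = H x a • (a : Fin 3 → F) + H x b • (b : Fin 3 → F) + H x c • (c : Fin 3 → F) := by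
  have hba : H b a = 0 := by rw [← hermForm_conj hF, hab, conj_zero hF]
  have hca : H c a = 0 := by rw [← hermForm_conj hF, hac, conj_zero hF]
  have hcb : H c b = 0 := by rw [← hermForm_conj hF, hbc, conj_zero hF]
  have hind : LinearIndependent F ![(a : Fin 3 → F), b, c] := by
    rw [Fintype.linearIndependent_iff]
    intro f hf
    simp only [Fin.sum_univ_three] at hf
    simp at hf
    have k : ∀ y : Fin 3 → F, H (f 0 • (a : Fin 3 → F) + f 1 • (b : Fin 3 → F) + f 2 • (c : Fin 3 → F)) y = 0 :=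
      fun y => by rw [hf]; simp [Cfsg.hermForm]
    simp only [herm_add_left, herm_smul_left] at k
    intro i
    fin_cases i
    · simpa [a.2, hba, hca] using k a
    · simpa [b.2, hab, hcb] using k b
    · simpa [c.2, hac, hbc] using k c
  have hsp := hind.span_eq_top_of_card_eq_finrank (by simp)
  have hx : x ∈ Submodule.span F (Set.range ![(a : Fin 3 → F), b, c]) := hsp ▸ Submodule.mem_top
  obtain ⟨f, hf⟩ := (Submodule.mem_span_range_iff_exists_fun F).1 hx
  simp only [Fin.sum_univ_three] at hf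
  simp at hf
  conv_lhs => rw [← hf]
  rw [← hf]
  simp [herm_add_left, herm_smul_left, a.2, b.2, c.2, hab, hac, hbc, hba, hca, hcb]

include hq in
theorem no_third (u v w : U F q) (hN : H v u ^ (q + 1) = 1) (hwu : H w u = 0) (hwv : H w v = 0) :
    involu hF u = involu hF v := by
  obtain ⟨e, heu, hew⟩ := exists_third hF u w (by rw [hwu, zero_pow (Nat.succ_ne_zero q)]; exact zero_ne_one)
  have huw : H u w = 0 := by rw [← hermForm_conj hF, hwu, conj_zero hF]
  have hue : H u e = 0 := by rw [← hermForm_conj hF, heu, conj_zero hF]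
  have hwe : H w e = 0 := by rw [← hermForm_conj hF, hew, conj_zero hF]
  have hvw : H v w = 0 := by rw [← hermForm_conj hF, hwv, conj_zero hF]
  have hv := expand hF u w e huw hue hwe v
  rw [hvw, zero_smul, add_zero] at hv
  have hnorm := v.2
  rw [hv] at hnorm
  simp only [herm_add_left, herm_add_right hF, herm_smul_left, herm_smul_right, u.2, e.2, hue, heu,
    mul_zero, mul_one, add_zero, zero_add] at hnorm
  rw [← pow_succ, ← pow_succ, hN, add_eq_left] at hnorm
  rw [(pow_eq_zero_iff (Nat.succ_ne_zero q)).1 hnorm, zero_smul, add_zero] at hv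
  exact (inv_eq_iff hF hq _ _).2 ⟨_, hN, hv⟩

include hF in
theorem card_norm_one_field : Nat.card {z : F // z ^ (q + 1) = 1} = q + 1 := by
  refine Eq.trans ?_ (card_norm_one hF)
  refine Nat.card_eq_of_bijective (fun z => ⟨Units.mk0 z.1 (fun h => by simpa [h] using z.2),
    Units.ext (by simpa using z.2)⟩) ⟨fun a b h => ?_, fun u => ?_⟩
  · exact Subtype.ext (congrArg (fun x : (powMonoidHom (q + 1) : Fˣ →* Fˣ).ker => ((x : Fˣ) : F)) h)
  · exact ⟨⟨((u : Fˣ) : F), by rw [← Units.val_pow_eq_pow_val, show (u : Fˣ) ^ (q + 1) = 1 from u.2,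
      Units.val_one]⟩, Subtype.ext (Units.ext rfl)⟩

include hq in
/-- Vectors of norm one lie over their involutions in classes of `q + 1`. -/
theorem card_vectors (P : U F q → Prop) (hP : ∀ u v, involu hF u = involu hF v → P u → P v) :
    Nat.card {u : U F q // P u} = (q + 1) * Nat.card {x : S // ∃ u, involu hF u = x ∧ P u} := by
  rw [mul_comm, ← card_norm_one_field hF, ← Nat.card_prod]
  choose rep hrep hrepP using fun x : {x : S // ∃ u, involu hF u = x ∧ P u} => x.2
  have hn : ∀ (z : {z : F // z ^ (q + 1) = 1}) (u : U F q), H ((z : F) • (u : Fin 3 → F)) ((z : F) • (u : Fin 3 → F)) = 1 :=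
    fun z u => by rw [norm_smul hF, z.2, u.2, one_mul]
  refine (Nat.card_eq_of_bijective (fun p => ⟨⟨(p.2 : F) • (rep p.1 : Fin 3 → F), hn p.2 (rep p.1)⟩,
    hP (rep p.1) _ ((inv_eq_iff hF hq _ _).2 ⟨p.2, p.2.2, rfl⟩) (hrepP p.1)⟩) ⟨?_, ?_⟩).symm
  · rintro ⟨x, z⟩ ⟨x', z'⟩ h
    have h1 : (z : F) • (rep x : Fin 3 → F) = (z' : F) • (rep x' : Fin 3 → F) :=
      congrArg (fun y : {u : U F q // P u} => ((y : U F q) : Fin 3 → F)) h
    have hx : x = x' := by
      refine Subtype.ext ?_
      rw [← hrep x, ← hrep x', (inv_eq_iff hF hq (rep x) ⟨_, hn z (rep x)⟩).2 ⟨z, z.2, rfl⟩]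
      exact ((inv_eq_iff hF hq (rep x') _).2 ⟨z', z'.2, h1⟩).symm
    subst hx
    refine Prod.ext rfl (Subtype.ext ?_)
    have hne : (rep x : Fin 3 → F) ≠ 0 := fun h0 => by
      have := (rep x).2
      rw [h0] at this
      simp [Cfsg.hermForm] at this
    exact smul_left_injective F hne h1
  · rintro ⟨u, hu⟩
    set x : {x : S // ∃ u, involu hF u = x ∧ P u} := ⟨involu hF u, u, rfl, hu⟩
    obtain ⟨z, hz, hzu⟩ := (inv_eq_iff hF hq (rep x) u).1 (hrep x)
    exact ⟨(x, ⟨z, hz⟩), Subtype.ext (Subtype.ext hzu.symm)⟩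

include hF hq in
theorem card_involutions :
    Nat.card {x : S // x ≠ 1 ∧ x * x = 1} * (q + 1) = q ^ 2 * (q ^ 3 + 1) := by
  have h := card_vectors hF hq (fun _ => True) fun _ _ _ _ => trivial
  rw [Nat.card_congr (Equiv.subtypeUnivEquiv fun _ => trivial)] at h
  have e : {x : S // ∃ u, involu hF u = x ∧ True} ≃ {x : S // x ≠ 1 ∧ x * x = 1} :=
    Equiv.subtypeEquivRight fun x => ⟨by
      rintro ⟨u, rfl, -⟩; exact ⟨inv_ne_one hF hq u, inv_sq hF u⟩,
      fun ⟨h1, h2⟩ => (exists_inv hF hq h1 h2).imp fun u hu => ⟨hu, trivial⟩⟩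
  rw [Nat.card_congr e, mul_comm] at h
  rw [← h]
  exact (cnt_one_eq hF 3).trans (if_neg (by decide))

include hF in
/-- Counting by coordinates. -/
theorem card_transport (u : U F q) (Q : F → Prop) (R : U F q → Prop) (R' : (Fin 3 → F) → Prop)
    (hR : ∀ g : S, (act g u : Fin 3 → F) = Pi.single 0 1 → ∀ v, R v ↔ R' (act g v : Fin 3 → F)) :
    Nat.card {v : U F q // Q (H v u) ∧ R v} = Nat.card {v : U F q // Q (v.1 0) ∧ R' v.1} := by
  obtain ⟨g, hg⟩ := exists_act hF u
  have hb : Function.Bijective (act g : U F q → U F q) := Finite.injective_iff_bijective.1 fun a b h =>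
    Subtype.ext (mulVec_act_injective g (congrArg Subtype.val h))
  refine Nat.card_congr (Equiv.subtypeEquiv (Equiv.ofBijective _ hb) fun v => ?_)
  rw [hR g hg v]
  have e : H v u = (act g v : Fin 3 → F) 0 := by
    rw [← herm_act g, show mat g *ᵥ (u : Fin 3 → F) = _ from hg, herm_single_right hF]
    rfl
  rw [e]
  rfl

include hq in
theorem card_commuting (u : U F q) :
    Nat.card {x : S // ∃ v, involu hF v = x ∧ H v u = 0} * (q + 1) = q * (q ^ 2 - 1) := by
  have hinvar : ∀ a b : U F q, involu hF a = involu hF b → H a u = 0 → H b u = 0 := fun a b h h0 => by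
    obtain ⟨z, -, hz⟩ := (inv_eq_iff hF hq a b).1 h
    rw [hz, herm_smul_left, h0, mul_zero]
  rw [mul_comm, ← card_vectors hF hq _ hinvar]
  have h := card_transport hF u (fun a => a = 0) (fun _ => True) (fun _ => True) fun _ _ _ => Iff.rfl
  simp only [and_true] at h
  rw [h]
  have e : Nat.card {v : U F q // v.1 0 = 0} = cnt 2 F q 1 := by
    refine Nat.card_eq_of_bijective (fun v => ⟨Fin.tail v.1.1, ?_⟩) ⟨fun a b h => ?_, fun w => ?_⟩
    · have := v.1.2
      rwa [← Fin.cons_self_tail v.1.1, hermForm_cons, v.2, zero_mul, zero_add] at this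
    · refine Subtype.ext (Subtype.ext ?_)
      rw [← Fin.cons_self_tail a.1.1, ← Fin.cons_self_tail b.1.1, a.2, b.2,
        show Fin.tail a.1.1 = Fin.tail b.1.1 from congrArg Subtype.val h]
    · exact ⟨⟨⟨Fin.cons 0 w.1, by rw [hermForm_cons, zero_mul, zero_add, w.2]⟩, by simp⟩,
        Subtype.ext (by funext i; simp [Fin.tail])⟩
  rw [e, cnt_one_eq hF, if_pos even_two, show 2 - 1 = 1 from rfl, pow_one]

include hq in
theorem card_far (u : U F q) :
    Nat.card {x : S // ∃ v, involu hF v = x ∧ (H v u ^ (q + 1) = 1 ∧ involu hF u ≠ involu hF v)} =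
      (q + 1) * (q ^ 2 - 1) := by
  have hinvar : ∀ a b : U F q, involu hF a = involu hF b → (H a u ^ (q + 1) = 1 ∧ involu hF u ≠ involu hF a) →
      (H b u ^ (q + 1) = 1 ∧ involu hF u ≠ involu hF b) := fun a b h ⟨h0, h1⟩ => by
    obtain ⟨z, hz1, hz⟩ := (inv_eq_iff hF hq a b).1 h
    exact ⟨by rw [hz, herm_smul_left, mul_pow, hz1, h0, one_mul], h ▸ h1⟩
  have hk := card_vectors hF hq _ hinvar
  have h := card_transport hF u (fun a => a ^ (q + 1) = 1) (fun v => involu hF u ≠ involu hF v)
    (fun v => Fin.tail v ≠ 0) fun g hg v => not_congr ⟨fun h => ?_, fun h => ?_⟩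
  · rw [h] at hk
    have e : Nat.card {v : U F q // v.1 0 ^ (q + 1) = 1 ∧ Fin.tail v.1 ≠ 0} =
        Nat.card ({z : F // z ^ (q + 1) = 1} × {w : Fin 2 → F // Cfsg.hermForm 2 F q w w = 0 ∧ w ≠ 0}) := by
      refine Nat.card_eq_of_bijective (fun v => (⟨v.1.1 0, v.2.1⟩, ⟨Fin.tail v.1.1, ?_, v.2.2⟩))
        ⟨fun a b h => ?_, fun p => ?_⟩
      · have := v.1.2
        rwa [← Fin.cons_self_tail v.1.1, hermForm_cons, ← pow_succ', v.2.1, add_eq_left] at this
      · refine Subtype.ext (Subtype.ext ?_)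
        rw [← Fin.cons_self_tail a.1.1, ← Fin.cons_self_tail b.1.1,
          show a.1.1 0 = b.1.1 0 from congrArg (fun p => p.1.1) h,
          show Fin.tail a.1.1 = Fin.tail b.1.1 from congrArg (fun p => p.2.1) h]
      · exact ⟨⟨⟨Fin.cons p.1.1 p.2.1, by rw [hermForm_cons, ← pow_succ', p.1.2, p.2.2.1, add_zero]⟩,
          ⟨by simpa using p.1.2, by simpa using p.2.2.2⟩⟩, Prod.ext (Subtype.ext (by simp))
            (Subtype.ext (by funext i; simp [Fin.tail]))⟩
    rw [e, Nat.card_prod, card_norm_one_field hF] at hk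
    rw [← Nat.eq_of_mul_eq_mul_left (Nat.succ_pos q) hk]
    classical
    have hs : cnt 2 F q (0 : F) = Nat.card {w : Fin 2 → F // Cfsg.hermForm 2 F q w w = 0 ∧ w ≠ 0} + 1 := by
      rw [cnt, Nat.card_eq_fintype_card, Nat.card_eq_fintype_card, Fintype.card_subtype, Fintype.card_subtype,
        ← Finset.card_insert_of_notMem (a := (0 : Fin 2 → F)) (by simp)]
      congr 1
      ext w
      by_cases hw : w = 0 <;> simp [hw, Cfsg.hermForm]
    rw [cnt_zero_eq hF, if_pos even_two, show 2 - 1 = 1 from rfl, pow_one] at hs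
    rw [← Nat.add_right_cancel hs, mul_comm]
  · have h' : involu hF (act g u) = involu hF (act g v) := by rw [← conj_inv, ← conj_inv, h]
    obtain ⟨z, -, hz⟩ := (inv_eq_iff hF hq _ _).1 h'
    rw [hz, hg]
    funext i
    simp [Fin.tail]
  · have hv : (act g v : Fin 3 → F) = ((act g v : Fin 3 → F) 0) • (act g u : Fin 3 → F) := by
      rw [hg]
      conv_lhs => rw [← Fin.cons_self_tail (act g v : Fin 3 → F), h]
      funext i
      refine Fin.cases ?_ (fun i => ?_) i <;> simp
    have hz : ((act g v : Fin 3 → F) 0) ^ (q + 1) = 1 := by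
      have h1 := (act g v).2
      rwa [hv, norm_smul hF, (act g u).2, mul_one] at h1
    have h' := (inv_eq_iff hF hq (act g u) (act g v)).2 ⟨_, hz, hv⟩
    rw [← conj_inv, ← conj_inv] at h'
    exact mul_left_cancel (mul_right_cancel h')

include hF hq in
/-- A step away from a vector at distance three. -/
theorem exists_step (u v : U F q) (hN : H v u ^ (q + 1) = 1) : ∃ z : U F q, H z v = 0 ∧ H z u ^ (q + 1) ≠ 1 := by
  obtain ⟨g, hg⟩ := exists_act hF v
  have hb : Function.Bijective (act g : U F q → U F q) := Finite.injective_iff_bijective.1 fun a b h =>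
    Subtype.ext (mulVec_act_injective g (congrArg Subtype.val h))
  set a := (act g u : Fin 3 → F) with ha
  obtain ⟨i, hi0, hi⟩ : ∃ i : Fin 3, i ≠ 0 ∧ (a i ^ q) ^ (q + 1) ≠ 1 := by
    by_contra hall
    push Not at hall
    have hc : ∀ i : Fin 3, i ≠ 0 → a i ^ (q + 1) = 1 := fun i hi => by
      rw [← norm_fixed hF (a i), ← pow_mul, mul_comm, pow_mul, hall i hi]
    have h0 : a 0 ^ (q + 1) = 1 := by
      have e : a 0 = H u v := by
        rw [← herm_act g, show mat g *ᵥ (v : Fin 3 → F) = _ from hg, herm_single_right hF]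
        rfl
      rw [e, ← hermForm_conj hF, ← pow_mul, mul_comm, pow_mul, hN, one_pow]
    have hn := (act g u).2
    rw [hermForm_self, Fin.sum_univ_three, ← ha, h0, hc 1 (by decide), hc 2 (by decide)] at hn
    exact two_ne_zero' hF hq (by linear_combination hn)
  obtain ⟨z, hz⟩ := hb.2 ⟨Pi.single i 1, by rw [herm_single_right hF]; simp⟩
  have hz' : mat g *ᵥ (z : Fin 3 → F) = Pi.single i 1 := congrArg Subtype.val hz
  refine ⟨z, ?_, ?_⟩
  · rw [← herm_act g, hz', show mat g *ᵥ (v : Fin 3 → F) = _ from hg, herm_single_right hF]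
    simp [hi0.symm]
  · rwa [← herm_act g, hz', show mat g *ᵥ (u : Fin 3 → F) = a from rfl, ← hermForm_conj hF,
      herm_single_right hF]

end Cfsg.Agent.Lib.Classical.SUThree
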