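import Cfsg.Agent.Lib.Classical.ExcIso.Common
import Cfsg.Agent.Lib.Classical.QuadOmega.BaseChange

/-!
Permutation modules as quadratic spaces.
-/

set_option autoImplicit false

namespace Cfsg.Agent.Lib.Classical.SmallPerm

open QuadraticMap Cfsg.Agent.Lib.Classical.ExcIso

variable {Z : Type*} [Field Z] {n : ℕ} {ι : Type} [Fintype ι] [DecidableEq ι]

/-- A piece of the permutation module with coordinates. -/
structure Piece (Z : Type*) [Field Z] (n : ℕ) (ι : Type) (Q : (ι → Z) → Z) where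
  emb : (ι → Z) →ₗ[Z] (Fin n → Z)
  D : (Fin n → Z) →ₗ[Z] (ι → Z)
  s : Equiv.Perm (Fin n) →* Zˣ
  hs : ∀ σ (v : ι → Z), Q ((s σ : Z) • v) = Q v
  left : ∀ v, D (emb v) = v
  sum : ∀ v, ∑ i, emb v i = 0
  compat : ∀ w : Fin n → Z, ∑ i, w i = 0 → ∀ σ : Equiv.Perm (Fin n),
    D (fun i => emb (D w) (σ i)) = D (fun i => w (σ i))
  val : ∀ w : Fin n → Z, ∑ i, w i = 0 → ∀ σ : Equiv.Perm (Fin n), Q (D fun i => w (σ i)) = Q (D w)

variable {Q : (ι → Z) → Z} (P : Piece Z n ι Q)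

/-- A permutation acting on coordinates. -/
noncomputable def Piece.R (σ : Equiv.Perm (Fin n)) : (ι → Z) →ₗ[Z] (ι → Z) :=
  (P.s σ : Z) • (P.D ∘ₗ LinearMap.funLeft Z Z ⇑σ⁻¹ ∘ₗ P.emb)

omit [Fintype ι] [DecidableEq ι] in
lemma Piece.R_apply (σ : Equiv.Perm (Fin n)) (v : ι → Z) :
    P.R σ v = (P.s σ : Z) • P.D fun i => P.emb v (σ⁻¹ i) := rfl

/-- The permutations as isometries. -/
noncomputable def Piece.hom : Equiv.Perm (Fin n) →* Cfsg.isometryGroup Z Q :=
  repHom Q P.R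
    (fun σ τ v => by
      rw [P.R_apply, P.R_apply σ, P.R_apply τ, map_mul, Units.val_mul, mul_smul, map_smul]
      rw [show (fun i => ((P.s τ : Z) • P.emb (P.D fun i => P.emb v (τ⁻¹ i))) (σ⁻¹ i)) =
          (P.s τ : Z) • fun i => P.emb (P.D fun i => P.emb v (τ⁻¹ i)) (σ⁻¹ i) from rfl, map_smul,
        P.compat (fun i => P.emb v (τ⁻¹ i)) ((Equiv.sum_comp τ⁻¹ (P.emb v)).trans (P.sum v)) σ⁻¹]
      simp [mul_inv_rev, Equiv.Perm.mul_apply])
    (fun v => by
      rw [P.R_apply]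
      simp [P.left])
    (fun σ v => by
      rw [P.R_apply, P.hs, P.val _ (P.sum v), P.left])

lemma Piece.hom_injective (h : ∀ σ, (∀ v, P.R σ v = v) → σ = 1) : Function.Injective P.hom :=
  (injective_iff_map_eq_one P.hom).2 fun σ hσ => h σ (mem_ker_repHom.1 (MonoidHom.mem_ker.2 hσ))

/-- Fixing all pairs means fixing all points. -/
lemma eq_one_of_pairs {σ : Equiv.Perm (Fin n)} (hn : 3 ≤ n)
    (h : ∀ a b : Fin n, a ≠ b → σ a = a ∨ σ a = b) : σ = 1 := by
  refine Equiv.ext fun a => ?_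
  obtain ⟨b, hb, c, hc, hbc⟩ := Finset.one_lt_card.1 (show 1 < (Finset.univ.erase a).card by
    rw [Finset.card_erase_of_mem (Finset.mem_univ a), Finset.card_univ, Fintype.card_fin]; omega)
  rcases h a b (Finset.ne_of_mem_erase hb).symm with h1 | h1
  · exact h1
  rcases h a c (Finset.ne_of_mem_erase hc).symm with h2 | h2
  · exact h2
  exact absurd (h1.symm.trans h2) hbc

end Cfsg.Agent.Lib.Classical.SmallPerm
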