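import Cfsg.Agent.Lib.Classical.Symplectic
import Cfsg.Agent.Lib.Classical.SympOrder
import Mathlib.GroupTheory.FiniteAbelian.Duality
import Mathlib.RingTheory.RootsOfUnity.AlgebraicallyClosed

/-!
Elementary abelian 2-subgroups of projective symplectic groups in odd characteristic.
-/

set_option autoImplicit false

namespace Cfsg.Agent.Lib.Classical

open Module Matrix

variable {F : Type*} [Field F]

/-- Commuting involutive isometries of a nondegenerate alternating form: at most `2^(n/2)`. -/
theorem card_involutive_isometries_le (h2 : (2 : F) ≠ 0) (n : ℕ) :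
    ∀ (W : Type*) [AddCommGroup W] [Module F W] [FiniteDimensional F W], finrank F W = n →
      ∀ B : LinearMap.BilinForm F W, B.IsAlt → B.Nondegenerate → ∀ E : Finset (W →ₗ[F] W),
        (∀ e ∈ E, ∀ v, e (e v) = v) → (∀ e ∈ E, ∀ e' ∈ E, ∀ v, e (e' v) = e' (e v)) →
        (∀ e ∈ E, ∀ u v, B (e u) (e v) = B u v) → E.card ≤ 2 ^ (n / 2) := by
  induction n using Nat.strong_induction_on with
  | _ n ih =>
    intro W _ _ _ hn B hA hB E hinv hcomm hiso
    classical
    rcases Nat.eq_zero_or_pos n with rfl | hpos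
    · have : Subsingleton W := Module.finrank_zero_iff.1 hn
      refine (Finset.card_le_one.2 fun a _ b _ => ?_).trans (by simp)
      exact LinearMap.ext fun v => Subsingleton.elim _ _
    have hn2 : 2 ≤ n := by
      by_contra h
      have hn1 : finrank F W = 1 := by omega
      obtain ⟨v, hv, hspan⟩ := finrank_eq_one_iff'.1 hn1
      refine hv (hB.1 v fun w => ?_)
      obtain ⟨c, rfl⟩ := hspan w
      simp [hA v]
    by_cases hall : ∀ e ∈ E, e = LinearMap.id ∨ e = -LinearMap.id
    · have hsub : E ⊆ {LinearMap.id, -LinearMap.id} := fun e he => by simpa using hall e he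
      refine (Finset.card_le_card hsub).trans ((Finset.card_le_two).trans ?_)
      calc 2 = 2 ^ 1 := rfl
        _ ≤ 2 ^ (n / 2) := Nat.pow_le_pow_right two_pos (by omega)
    push Not at hall
    obtain ⟨g, hg, hg1, hg2⟩ := hall
    set P := LinearMap.ker (g - LinearMap.id) with hP
    set M := LinearMap.ker (g + LinearMap.id) with hM
    have memP : ∀ v, v ∈ P ↔ g v = v := fun v => by simp [hP, sub_eq_zero]
    have memM : ∀ v, v ∈ M ↔ g v = -v := fun v => by simp [hM, add_eq_zero_iff_eq_neg]
    have hdec : ∀ v, (2 : F)⁻¹ • (v + g v) ∈ P ∧ (2 : F)⁻¹ • (v - g v) ∈ M ∧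
        v = (2 : F)⁻¹ • (v + g v) + (2 : F)⁻¹ • (v - g v) := by
      intro v
      refine ⟨(memP _).2 ?_, (memM _).2 ?_, ?_⟩
      · rw [map_smul, map_add, hinv g hg, add_comm]
      · rw [map_smul, map_sub, hinv g hg, ← smul_neg, neg_sub]
      · rw [← smul_add, add_add_sub_cancel, ← two_smul F, smul_smul, inv_mul_cancel₀ h2, one_smul]
    have hcompl : IsCompl P M := by
      refine ⟨Submodule.disjoint_def.2 fun v h1 h3 => ?_, codisjoint_iff.2 (Submodule.eq_top_iff'.2 fun v => ?_)⟩
      · have h4 : (2 : F) • v = 0 := by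
          rw [two_smul]; nth_rw 1 [← (memP v).1 h1]; rw [(memM v).1 h3, neg_add_cancel]
        exact (smul_eq_zero.1 h4).resolve_left h2
      · obtain ⟨a, b, c⟩ := hdec v
        exact c ▸ Submodule.add_mem_sup a b
    have horth : ∀ u ∈ P, ∀ v ∈ M, B u v = 0 := by
      intro u hu v hv
      have h := hiso g hg u v
      rw [(memP u).1 hu, (memM v).1 hv, map_neg] at h
      have h5 : (2 : F) * B u v = 0 := by linear_combination -h
      exact (mul_eq_zero.1 h5).resolve_left h2
    have horth' : ∀ u ∈ M, ∀ v ∈ P, B u v = 0 := fun u hu v hv => by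
      rw [← hA.neg_eq v u, horth v hv u hu, neg_zero]
    have hndP : (B.restrict P).Nondegenerate := by
      have key : ∀ x : P, (∀ y : P, B x y = 0) → x = 0 := fun x hx => Subtype.ext (hB.1 x fun w => by
        obtain ⟨a, b, c⟩ := hdec w
        rw [c, map_add, horth x x.2 _ b, add_zero]
        exact hx ⟨_, a⟩)
      exact ⟨key, fun y hy => key y fun x => by rw [← hA.neg_eq (x : W) (y : W)]; simpa using hy x⟩
    have hndM : (B.restrict M).Nondegenerate := by
      have key : ∀ x : M, (∀ y : M, B x y = 0) → x = 0 := fun x hx => Subtype.ext (hB.1 x fun w => by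
        obtain ⟨a, b, c⟩ := hdec w
        rw [c, map_add, horth' x x.2 _ a, zero_add]
        exact hx ⟨_, b⟩)
      exact ⟨key, fun y hy => key y fun x => by rw [← hA.neg_eq (x : W) (y : W)]; simpa using hy x⟩
    have hPpos : 0 < finrank F P := by
      rw [Nat.pos_iff_ne_zero, ne_eq, Submodule.finrank_eq_zero]
      intro h
      refine hg2 (LinearMap.ext fun v => ?_)
      obtain ⟨a, b, c⟩ := hdec v
      rw [h, Submodule.mem_bot] at a
      rw [a, zero_add] at c
      simpa using (memM v).1 (c ▸ b)
    have hMpos : 0 < finrank F M := by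
      rw [Nat.pos_iff_ne_zero, ne_eq, Submodule.finrank_eq_zero]
      intro h
      refine hg1 (LinearMap.ext fun v => ?_)
      obtain ⟨a, b, c⟩ := hdec v
      rw [h, Submodule.mem_bot] at b
      rw [b, add_zero] at c
      simpa using (memP v).1 (c ▸ a)
    have hsum : finrank F P + finrank F M = n := by
      rw [Submodule.finrank_add_eq_of_isCompl hcompl, hn]
    have hEP : ∀ e ∈ E, ∀ v ∈ P, e v ∈ P := fun e he v hv => (memP _).2 (by rw [hcomm g hg e he, (memP v).1 hv])
    have hEM : ∀ e ∈ E, ∀ v ∈ M, e v ∈ M := fun e he v hv => (memM _).2 (by rw [hcomm g hg e he, (memM v).1 hv, map_neg])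
    let rP : (W →ₗ[F] W) → (P →ₗ[F] P) := fun e => if h : ∀ v ∈ P, e v ∈ P then e.restrict h else 0
    let rM : (W →ₗ[F] W) → (M →ₗ[F] M) := fun e => if h : ∀ v ∈ M, e v ∈ M then e.restrict h else 0
    have hrP : ∀ e ∈ E, ∀ v : P, ((rP e v : P) : W) = e v := fun e he v => by
      simp only [rP, dif_pos (hEP e he)]; rfl
    have hrM : ∀ e ∈ E, ∀ v : M, ((rM e v : M) : W) = e v := fun e he v => by
      simp only [rM, dif_pos (hEM e he)]; rfl
    have hinjE : Set.InjOn (fun e => (rP e, rM e)) E := by
      intro a ha b hb h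
      simp only [Prod.mk.injEq] at h
      refine LinearMap.ext fun v => ?_
      obtain ⟨p, q, c⟩ := hdec v
      have e1 := congrArg (fun f => ((f ⟨_, p⟩ : P) : W)) h.1
      have e2 := congrArg (fun f => ((f ⟨_, q⟩ : M) : W)) h.2
      simp only [hrP a ha, hrP b hb] at e1
      simp only [hrM a ha, hrM b hb] at e2
      rw [c, map_add, map_add, e1, e2]
    have hP' : (E.image rP).card ≤ 2 ^ (finrank F P / 2) := by
      refine ih _ (by omega) P rfl (B.restrict P) (fun x => hA x) hndP _ ?_ ?_ ?_ <;>
        simp only [Finset.forall_mem_image]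
      · exact fun e he v => Subtype.ext (by rw [hrP e he, hrP e he, hinv e he])
      · exact fun e he e' he' v => Subtype.ext (by rw [hrP e he, hrP e' he', hrP e' he', hrP e he, hcomm e he e' he'])
      · intro e he u v
        change B (rP e u : W) (rP e v : W) = B (u : W) (v : W)
        rw [hrP e he, hrP e he, hiso e he]
    have hM' : (E.image rM).card ≤ 2 ^ (finrank F M / 2) := by
      refine ih _ (by omega) M rfl (B.restrict M) (fun x => hA x) hndM _ ?_ ?_ ?_ <;>
        simp only [Finset.forall_mem_image]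
      · exact fun e he v => Subtype.ext (by rw [hrM e he, hrM e he, hinv e he])
      · exact fun e he e' he' v => Subtype.ext (by rw [hrM e he, hrM e' he', hrM e' he', hrM e he, hcomm e he e' he'])
      · intro e he u v
        change B (rM e u : W) (rM e v : W) = B (u : W) (v : W)
        rw [hrM e he, hrM e he, hiso e he]
    calc E.card ≤ ((E.image rP) ×ˢ (E.image rM)).card :=
          Finset.card_le_card_of_injOn _ (fun e he => Finset.mem_product.2
            ⟨Finset.mem_image_of_mem _ he, Finset.mem_image_of_mem _ he⟩) hinjE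
      _ = (E.image rP).card * (E.image rM).card := Finset.card_product _ _
      _ ≤ 2 ^ (finrank F P / 2) * 2 ^ (finrank F M / 2) := Nat.mul_le_mul hP' hM'
      _ ≤ 2 ^ (n / 2) := by
          rw [← pow_add]; exact Nat.pow_le_pow_right two_pos (by omega)

/-- With an isometry negating one of the involutions the bound halves. -/
theorem card_involutive_isometries_le_of_swap (h2 : (2 : F) ≠ 0) (m : ℕ)
    (W : Type*) [AddCommGroup W] [Module F W] [FiniteDimensional F W] (hW : finrank F W = 2 * m)
    (B : LinearMap.BilinForm F W) (hA : B.IsAlt) (hB : B.Nondegenerate) (E : Finset (W →ₗ[F] W))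
    (hinv : ∀ e ∈ E, ∀ v, e (e v) = v) (hcomm : ∀ e ∈ E, ∀ e' ∈ E, ∀ v, e (e' v) = e' (e v))
    (hiso : ∀ e ∈ E, ∀ u v, B (e u) (e v) = B u v) (hmul : ∀ e ∈ E, ∀ e' ∈ E, e ∘ₗ e' ∈ E)
    (a : W ≃ₗ[F] W) (hsign : ∀ e ∈ E, (∀ v, a (e v) = e (a v)) ∨ ∀ v, a (e v) = -e (a v))
    (z : W →ₗ[F] W) (hz : z ∈ E) (hza : ∀ v, a (z v) = -z (a v)) :
    E.card ≤ 2 * 2 ^ (m / 2) := by
  classical
  set H := E.filter fun e => ∀ v, a (e v) = e (a v) with hH
  set P := LinearMap.ker (z - LinearMap.id) with hP
  set M := LinearMap.ker (z + LinearMap.id) with hM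
  have memP : ∀ v, v ∈ P ↔ z v = v := fun v => by simp [hP, sub_eq_zero]
  have memM : ∀ v, v ∈ M ↔ z v = -v := fun v => by simp [hM, add_eq_zero_iff_eq_neg]
  have hcompl : IsCompl P M := by
    refine ⟨Submodule.disjoint_def.2 fun v h1 h3 => ?_, codisjoint_iff.2 (Submodule.eq_top_iff'.2 fun v => ?_)⟩
    · have h4 : (2 : F) • v = 0 := by
        rw [two_smul]; nth_rw 1 [← (memP v).1 h1]; rw [(memM v).1 h3, neg_add_cancel]
      exact (smul_eq_zero.1 h4).resolve_left h2
    · have a1 : (2 : F)⁻¹ • (v + z v) ∈ P := (memP _).2 (by rw [map_smul, map_add, hinv z hz, add_comm])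
      have b1 : (2 : F)⁻¹ • (v - z v) ∈ M := (memM _).2 (by rw [map_smul, map_sub, hinv z hz, ← smul_neg, neg_sub])
      have c : v = (2 : F)⁻¹ • (v + z v) + (2 : F)⁻¹ • (v - z v) := by
        rw [← smul_add, add_add_sub_cancel, ← two_smul F, smul_smul, inv_mul_cancel₀ h2, one_smul]
      exact c ▸ Submodule.add_mem_sup a1 b1
  have hzs : ∀ v, z (a v) = -a (z v) := fun v => by rw [hza, neg_neg]
  have haPM : ∀ v ∈ P, a v ∈ M := fun v hv => (memM _).2 (by rw [hzs, (memP v).1 hv])
  have haMP : ∀ v ∈ M, a v ∈ P := fun v hv => (memP _).2 (by rw [hzs, (memM v).1 hv, map_neg, neg_neg])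
  have hdim : finrank F P = m := by
    have h1 : finrank F P ≤ finrank F M := LinearMap.finrank_le_finrank_of_injective
      (f := ((a : W →ₗ[F] W).restrict haPM)) (fun x y h => Subtype.ext (a.injective (congrArg Subtype.val h)))
    have h2' : finrank F M ≤ finrank F P := LinearMap.finrank_le_finrank_of_injective
      (f := ((a : W →ₗ[F] W).restrict haMP)) (fun x y h => Subtype.ext (a.injective (congrArg Subtype.val h)))
    have := Submodule.finrank_add_eq_of_isCompl hcompl
    omega
  have horth : ∀ u ∈ P, ∀ v ∈ M, B u v = 0 := by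
    intro u hu v hv
    have h := hiso z hz u v
    rw [(memP u).1 hu, (memM v).1 hv, map_neg] at h
    have h5 : (2 : F) * B u v = 0 := by linear_combination -h
    exact (mul_eq_zero.1 h5).resolve_left h2
  have hndP : (B.restrict P).Nondegenerate := by
    have key : ∀ x : P, (∀ y : P, B x y = 0) → x = 0 := fun x hx => Subtype.ext (hB.1 x fun w => by
      obtain ⟨p, q, hpq, -⟩ := Submodule.existsUnique_add_of_isCompl hcompl w
      rw [← hpq, map_add, horth x x.2 q q.2, add_zero]
      exact hx p)
    exact ⟨key, fun y hy => key y fun x => by rw [← hA.neg_eq (x : W) (y : W)]; simpa using hy x⟩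
  have hEP : ∀ e ∈ E, ∀ v ∈ P, e v ∈ P := fun e he v hv => (memP _).2 (by rw [hcomm z hz e he, (memP v).1 hv])
  let rP : (W →ₗ[F] W) → (P →ₗ[F] P) := fun e => if h : ∀ v ∈ P, e v ∈ P then e.restrict h else 0
  have hrP : ∀ e ∈ E, ∀ v : P, ((rP e v : P) : W) = e v := fun e he v => by
    simp only [rP, dif_pos (hEP e he)]; rfl
  have hHE : ∀ e ∈ H, e ∈ E := fun e he => (Finset.mem_filter.1 he).1
  have hHc : H.card ≤ 2 ^ (m / 2) := by
    have hinj : Set.InjOn rP H := by
      intro e he e' he' h
      refine LinearMap.ext fun v => ?_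
      obtain ⟨p, q, hpq, -⟩ := Submodule.existsUnique_add_of_isCompl hcompl v
      have onP : ∀ w ∈ P, e w = e' w := fun w hw => by
        have h1 := congrArg (fun f => ((f ⟨w, hw⟩ : P) : W)) h
        simpa only [hrP e (hHE e he), hrP e' (hHE e' he')] using h1
      have onM : ∀ w ∈ M, e w = e' w := fun w hw => a.injective (by
        rw [(Finset.mem_filter.1 he).2, (Finset.mem_filter.1 he').2, onP _ (haMP w hw)])
      rw [← hpq, map_add, map_add, onP p p.2, onM q q.2]
    rw [← Finset.card_image_of_injOn hinj]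
    refine card_involutive_isometries_le h2 m P hdim (B.restrict P) (fun x => hA x) hndP _ ?_ ?_ ?_ <;>
      simp only [Finset.forall_mem_image]
    · exact fun e he v => Subtype.ext (by rw [hrP e (hHE e he), hrP e (hHE e he), hinv e (hHE e he)])
    · exact fun e he e' he' v => Subtype.ext (by
        rw [hrP e (hHE e he), hrP e' (hHE e' he'), hrP e' (hHE e' he'), hrP e (hHE e he),
          hcomm e (hHE e he) e' (hHE e' he')])
    · intro e he u v
      change B (rP e u : W) (rP e v : W) = B (u : W) (v : W)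
      rw [hrP e (hHE e he), hrP e (hHE e he), hiso e (hHE e he)]
  have hrest : (E \ H).card ≤ H.card := by
    refine Finset.card_le_card_of_injOn (fun e => z ∘ₗ e) ?_ ?_
    · intro e he
      obtain ⟨heE, heH⟩ := Finset.mem_sdiff.1 (Finset.mem_coe.1 he)
      have hneg : ∀ v, a (e v) = -e (a v) :=
        (hsign e heE).resolve_left fun h => heH (Finset.mem_filter.2 ⟨heE, h⟩)
      refine Finset.mem_coe.2 (Finset.mem_filter.2 ⟨hmul z hz e heE, fun v => ?_⟩)
      rw [LinearMap.comp_apply, LinearMap.comp_apply, hza, hneg, map_neg, neg_neg]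
    · intro e he e' he' h
      refine LinearMap.ext fun v => ?_
      have h1 := congrArg z (LinearMap.congr_fun h v)
      simpa only [LinearMap.comp_apply, hinv z hz] using h1
  have : E.card = H.card + (E \ H).card := by
    rw [add_comm, Finset.card_sdiff_add_card_eq_card (Finset.filter_subset _ _)]
  omega

set_option maxHeartbeats 800000 in
/-- A 2-group of symplectic transformations in which squares and commutators are scalar is small. -/
theorem card_lt_of_scalar_squares [Fintype F] (h2 : (2 : F) ≠ 0) {m : ℕ} (hm : 3 ≤ m)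
    (A : Subgroup (Matrix.symplecticGroup (Fin m) F))
    (hcen : ∀ g ∈ A, g * g ∈ Subgroup.center (Matrix.symplecticGroup (Fin m) F))
    (hcom : ∀ g ∈ A, ∀ h ∈ A, g * h * g⁻¹ * h⁻¹ ∈ Subgroup.center (Matrix.symplecticGroup (Fin m) F))
    (hle : Subgroup.center (Matrix.symplecticGroup (Fin m) F) ≤ A) : Nat.card A < 2 ^ (2 * m) := by
  classical
  set S := Matrix.symplecticGroup (Fin m) F
  let L : S → ((Fin m ⊕ Fin m → F) →ₗ[F] (Fin m ⊕ Fin m → F)) := fun g =>
    Matrix.mulVecLin (g : Matrix (Fin m ⊕ Fin m) (Fin m ⊕ Fin m) F)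
  have hL : ∀ g h v, L (g * h) v = L g (L h v) := fun g h v => by
    simp only [L, Matrix.mulVecLin_apply, Matrix.mulVec_mulVec]; rfl
  have hL1 : ∀ v, L 1 v = v := fun v => Matrix.one_mulVec v
  have hLinj : Function.Injective L := fun g h e => sp_ext fun x => LinearMap.congr_fun e x
  have hZ : ∀ c ∈ Subgroup.center S, (∀ v, L c v = v) ∨ (∀ v, L c v = -v) := by
    intro c hc
    obtain ⟨a, haa, ha⟩ := exists_scalar_of_mem_center m (by omega) hc
    rcases mul_self_eq_one_iff.1 haa with rfl | rfl
    · exact Or.inl fun v => (ha v).trans (one_smul F v)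
    · exact Or.inr fun v => (ha v).trans (neg_one_smul F v)
  -- maximal abelian subgroup
  obtain ⟨K, hK, hmax⟩ := Finset.exists_max_image
    (Finset.univ.filter fun K : Subgroup S => Subgroup.center S ≤ K ∧ K ≤ A ∧ ∀ x ∈ K, ∀ y ∈ K, x * y = y * x)
    (fun K => Nat.card K)
    ⟨Subgroup.center S, Finset.mem_filter.2 ⟨Finset.mem_univ _, le_rfl, hle,
      fun x _ y hy => Subgroup.mem_center_iff.1 hy x⟩⟩
  obtain ⟨hcK, hKA, hKab⟩ := (Finset.mem_filter.1 hK).2
  have hself : ∀ a ∈ A, (∀ x ∈ K, a * x = x * a) → a ∈ K := by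
    intro a ha hax
    set K' := Subgroup.closure ((K : Set S) ∪ {a}) with hK'
    have hKK' : K ≤ K' := fun x hx => Subgroup.subset_closure (Or.inl hx)
    have hab : ∀ x ∈ K', ∀ y ∈ K', x * y = y * x := by
      intro x hx y hy
      have h1 : K' ≤ Subgroup.centralizer ((K : Set S) ∪ {a}) := by
        rw [hK', Subgroup.closure_le]
        rintro u (hu | rfl) <;> rw [SetLike.mem_coe, Subgroup.mem_centralizer_iff] <;> rintro w (hw | rfl)
        · exact hKab w hw u hu
        · exact hax u hu
        · exact (hax w hw).symm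
        · rfl
      have h3 : K' ≤ Subgroup.centralizer (K' : Set S) := by
        rw [hK', Subgroup.centralizer_closure]
        exact h1
      exact Subgroup.mem_centralizer_iff.1 (h3 hy) x hx
    have hA' : K' ≤ A := by
      rw [hK', Subgroup.closure_le]
      rintro u (hu | rfl)
      · exact hKA hu
      · exact ha
    have := hmax K' (Finset.mem_filter.2 ⟨Finset.mem_univ _, hcK.trans hKK', hA', hab⟩)
    rw [Subgroup.eq_of_le_of_card_ge hKK' this]
    exact Subgroup.subset_closure (Or.inr rfl)
  -- the involutions of K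
  let E₀ : Finset S := Finset.univ.filter fun x => x ∈ K ∧ x * x = 1
  let E := E₀.image L
  have hEc : E.card = E₀.card := Finset.card_image_of_injective _ hLinj
  have hK2 : Nat.card K ≤ 2 * E₀.card := by
    rw [Nat.card_eq_fintype_card, Fintype.card_subtype]
    have hsplit : (Finset.univ.filter fun x => x ∈ K) = E₀ ∪ (Finset.univ.filter fun x => x ∈ K ∧ x * x ≠ 1) := by
      ext x; simp [E₀]; tauto
    rw [hsplit]
    refine (Finset.card_union_le _ _).trans (by
      rcases (Finset.univ.filter fun x => x ∈ K ∧ x * x ≠ 1).eq_empty_or_nonempty with h | ⟨w, hw⟩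
      · rw [h, Finset.card_empty]; omega
      · simp only [Finset.mem_filter, Finset.mem_univ, true_and] at hw
        have : (Finset.univ.filter fun x => x ∈ K ∧ x * x ≠ 1).card ≤ E₀.card := by
          refine Finset.card_le_card_of_injOn (fun x => w * x) ?_ (fun x _ y _ h => mul_left_cancel h)
          intro x hx
          simp only [Finset.coe_filter, Finset.mem_univ, true_and, Set.mem_ofPred_eq] at hx
          simp only [E₀, Finset.coe_filter, Finset.mem_univ, true_and, Set.mem_ofPred_eq]
          refine ⟨K.mul_mem hw.1 hx.1, ?_⟩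
          refine hLinj (LinearMap.ext fun v => ?_)
          have hneg : ∀ u ∈ K, u * u ≠ 1 → ∀ t, L (u * u) t = -t := fun u hu hu1 =>
            (hZ _ (hcen u (hKA hu))).resolve_left fun h => hu1 (hLinj (LinearMap.ext fun t => by rw [h, hL1]))
          rw [show w * x * (w * x) = w * w * (x * x) by
            rw [mul_assoc, ← mul_assoc x w x, hKab x hx.1 w hw.1]; simp only [mul_assoc], hL, hL1,
            hneg w hw.1 hw.2, hneg x hx.1 hx.2, neg_neg]
        omega)
  have hinv : ∀ e ∈ E, ∀ v, e (e v) = v := by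
    simp only [E, Finset.forall_mem_image, E₀, Finset.mem_filter]
    rintro x ⟨-, -, hx⟩ v
    rw [← hL, hx, hL1]
  have hcomm : ∀ e ∈ E, ∀ e' ∈ E, ∀ v, e (e' v) = e' (e v) := by
    simp only [E, Finset.forall_mem_image, E₀, Finset.mem_filter]
    rintro x ⟨-, hx, -⟩ y ⟨-, hy, -⟩ v
    rw [← hL, ← hL, hKab x hx y hy]
  have hiso : ∀ e ∈ E, ∀ u v, Forms.stdB m F (e u) (e v) = Forms.stdB m F u v := by
    simp only [E, Finset.forall_mem_image]
    exact fun x _ u v => sp_iso m x u v
  have hmulE : ∀ e ∈ E, ∀ e' ∈ E, e ∘ₗ e' ∈ E := by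
    simp only [E, Finset.forall_mem_image, E₀, Finset.mem_filter]
    rintro x ⟨-, hx, hxx⟩ y ⟨-, hy, hyy⟩
    refine Finset.mem_image.2 ⟨x * y, Finset.mem_filter.2 ⟨Finset.mem_univ _, K.mul_mem hx hy, ?_⟩,
      LinearMap.ext fun v => hL x y v⟩
    rw [mul_assoc, ← mul_assoc y x y, hKab y hy x hx, mul_assoc x y y, hyy, mul_one, hxx]
  have hdimW : finrank F (Fin m ⊕ Fin m → F) = 2 * m := by simp; ring
  -- index of K
  have hsgn : ∀ a ∈ A, ∀ x ∈ A, a * x = x * a ∨ ∀ v, L (a * x) v = -L (x * a) v := by
    intro a ha x hx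
    have hc := hcom a ha x hx
    rcases hZ _ hc with h | h
    · left
      refine hLinj (LinearMap.ext fun v => ?_)
      rw [show a * x = a * x * a⁻¹ * x⁻¹ * (x * a) by group, hL, h]
    · right
      intro v
      rw [show a * x = a * x * a⁻¹ * x⁻¹ * (x * a) by group, hL, h]
  have hcard : Nat.card A = Nat.card K * (K.subgroupOf A).index := by
    rw [← (K.subgroupOf A).card_mul_index, Nat.card_congr (Subgroup.subgroupOfEquivOfLe hKA).toEquiv]
  -- conjugation pattern on a set
  have hpat : ∀ (a b : A), (∀ x ∈ K, (↑a * x = x * ↑a ↔ ↑b * x = x * ↑b)) →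
      (QuotientGroup.mk a : A ⧸ K.subgroupOf A) = QuotientGroup.mk b := by
    intro a b h
    rw [QuotientGroup.eq, Subgroup.mem_subgroupOf]
    refine hself _ ((a⁻¹ * b : A)).2 fun x hx => ?_
    change (a : S)⁻¹ * (b : S) * x = x * ((a : S)⁻¹ * (b : S))
    rcases hsgn a a.2 x (hKA hx) with ha' | ha'
    · have hb' := (h x hx).1 ha'
      rw [mul_assoc, hb', ← mul_assoc, show (a : S)⁻¹ * x = x * (a : S)⁻¹ by
        rw [eq_mul_inv_iff_mul_eq, mul_assoc, ← ha', inv_mul_cancel_left], mul_assoc]
    · rcases hsgn b b.2 x (hKA hx) with hb' | hb'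
      · have ha'' := (h x hx).2 hb'
        rw [mul_assoc, hb', ← mul_assoc, show (a : S)⁻¹ * x = x * (a : S)⁻¹ by
          rw [eq_mul_inv_iff_mul_eq, mul_assoc, ← ha'', inv_mul_cancel_left], mul_assoc]
      · refine hLinj (LinearMap.ext fun v => ?_)
        have ha3 : ∀ u, L ((a : S)⁻¹ * x) u = -L (x * (a : S)⁻¹) u := fun u => by
          have h4 := congrArg (fun w => L (a : S)⁻¹ w) (ha' (L (a : S)⁻¹ u))
          simp only [map_neg, ← hL] at h4
          rw [show (a : S)⁻¹ * (↑a * x * (↑a)⁻¹) = x * (a : S)⁻¹ by group,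
            show (a : S)⁻¹ * (x * ↑a * (↑a)⁻¹) = (a : S)⁻¹ * x by group] at h4
          rw [h4, neg_neg]
        rw [mul_assoc, hL _ ((b : S) * x), hb', map_neg, ← hL,
          show (a : S)⁻¹ * (x * (b : S)) = (a : S)⁻¹ * x * (b : S) by rw [mul_assoc], hL, ha3, neg_neg, ← hL,
          mul_assoc]
  by_cases hcase : ∀ a ∈ A, ∀ x ∈ E₀, a * x = x * a
  · -- all of A commutes with the involutions
    have hidx : (K.subgroupOf A).index ≤ 2 := by
      rw [Subgroup.index_eq_card]
      by_cases hw : ∃ w, w ∈ K ∧ w * w ≠ 1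
      · obtain ⟨w, hwK, hw⟩ := hw
        let f : A ⧸ K.subgroupOf A → Bool := fun q => decide ((q.out : S) * w = w * (q.out : S))
        have hf : Function.Injective f := by
          intro p q h
          rw [← QuotientGroup.out_eq' p, ← QuotientGroup.out_eq' q]
          refine hpat _ _ fun x hx => ?_
          by_cases hxx : x * x = 1
          · exact iff_of_true (hcase _ p.out.2 x (Finset.mem_filter.2 ⟨Finset.mem_univ _, hx, hxx⟩))
              (hcase _ q.out.2 x (Finset.mem_filter.2 ⟨Finset.mem_univ _, hx, hxx⟩))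
          · -- x = w * (involution)
            obtain ⟨y, hyK, hyy, rfl⟩ : ∃ y, y ∈ K ∧ y * y = 1 ∧ x = w * y := by
              refine ⟨w⁻¹ * x, K.mul_mem (K.inv_mem hwK) hx, hLinj (LinearMap.ext fun v => ?_), (mul_inv_cancel_left w x).symm⟩
              have hneg : ∀ u ∈ K, u * u ≠ 1 → ∀ t, L (u * u) t = -t := fun u hu hu1 =>
                (hZ _ (hcen u (hKA hu))).resolve_left fun h => hu1 (hLinj (LinearMap.ext fun t => by rw [h, hL1]))
              have hsq : w⁻¹ * x * (w⁻¹ * x) = (w * w)⁻¹ * (x * x) := by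
                have h5 : x * w⁻¹ = w⁻¹ * x := hKab x hx _ (K.inv_mem hwK)
                rw [mul_assoc, ← mul_assoc x w⁻¹ x, h5]
                simp only [mul_assoc, _root_.mul_inv_rev]
              have heq : w * w = x * x := hLinj (LinearMap.ext fun t => by rw [hneg w hwK hw, hneg x hx hxx])
              rw [hsq, heq, inv_mul_cancel, hL1]
            have key : ∀ (c : A), ((c : S) * (w * y) = w * y * (c : S)) ↔ ((c : S) * w = w * (c : S)) := by
              intro c
              have hcy := hcase _ c.2 y (Finset.mem_filter.2 ⟨Finset.mem_univ _, hyK, hyy⟩)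
              constructor
              · intro h
                have h' : (c : S) * w * y = w * (c : S) * y := by rw [mul_assoc, h, mul_assoc, mul_assoc, hcy]
                exact mul_right_cancel h'
              · intro h; rw [← mul_assoc, h, mul_assoc, hcy, mul_assoc]
            rw [key, key]
            simpa [f] using h
        exact (Nat.card_le_card_of_injective f hf).trans (by simp)
      · push Not at hw
        have : Subsingleton (A ⧸ K.subgroupOf A) := ⟨fun p q => by
          rw [← QuotientGroup.out_eq' p, ← QuotientGroup.out_eq' q]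
          exact hpat _ _ fun x hx => iff_of_true
            (hcase _ p.out.2 x (Finset.mem_filter.2 ⟨Finset.mem_univ _, hx, hw x hx⟩))
            (hcase _ q.out.2 x (Finset.mem_filter.2 ⟨Finset.mem_univ _, hx, hw x hx⟩))⟩
        exact (Finite.card_le_one_iff_subsingleton.2 this).trans one_le_two
    have hb := card_involutive_isometries_le h2 (2 * m) _ hdimW (Forms.stdB m F) (Forms.stdB_isAlt m)
      (Forms.stdB_nondegenerate m) E hinv hcomm hiso
    rw [hcard]
    calc Nat.card K * (K.subgroupOf A).index ≤ (2 * 2 ^ m) * 2 :=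
          Nat.mul_le_mul (hK2.trans (by rw [← hEc]; simpa using hb)) hidx
      _ = 2 ^ (m + 2) := by ring
      _ < 2 ^ (2 * m) := Nat.pow_lt_pow_right one_lt_two (by omega)
  · push Not at hcase
    obtain ⟨a, haA, z, hz, haz⟩ := hcase
    have hzK : z ∈ K := (Finset.mem_filter.1 hz).2.1
    let aE : (Fin m ⊕ Fin m → F) ≃ₗ[F] (Fin m ⊕ Fin m → F) := LinearEquiv.ofLinearMap (L a) (L a⁻¹)
      (LinearMap.ext fun v => by rw [LinearMap.comp_apply, ← hL, mul_inv_cancel, hL1]; rfl)
      (LinearMap.ext fun v => by rw [LinearMap.comp_apply, ← hL, inv_mul_cancel, hL1]; rfl)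
    have hb : E.card ≤ 2 * 2 ^ (m / 2) := by
      refine card_involutive_isometries_le_of_swap h2 m _ hdimW (Forms.stdB m F) (Forms.stdB_isAlt m)
        (Forms.stdB_nondegenerate m) E hinv hcomm hiso hmulE aE ?_ (L z) (Finset.mem_image_of_mem _ hz) ?_
      · simp only [E, Finset.forall_mem_image, E₀, Finset.mem_filter]
        rintro x ⟨-, hx, -⟩
        rcases hsgn a haA x (hKA hx) with h | h
        · left; intro v; change L a (L x v) = L x (L a v); rw [← hL, ← hL, h]
        · right; intro v; change L a (L x v) = -L x (L a v); rw [← hL, ← hL, h]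
      · intro v
        change L a (L z v) = -L z (L a v)
        rw [← hL, ← hL]
        exact ((hsgn a haA z (hKA hzK)).resolve_left haz) v
    -- characters of K trivial on the centre
    letI : CommGroup K := { (inferInstance : Group K) with mul_comm := fun x y => Subtype.ext (hKab x x.2 y y.2) }
    have hchar : ∀ q : A ⧸ K.subgroupOf A, ∃ l : K →* ℂˣ, ∀ x : K,
        l x = if (q.out : S) * x = x * (q.out : S) then 1 else -1 := by
      intro q
      refine ⟨{ toFun := fun x => if (q.out : S) * x = x * (q.out : S) then 1 else -1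
                map_one' := by simp
                map_mul' := ?_ }, fun x => rfl⟩
      intro x y
      have hx : (q.out : S) * x = x * (q.out : S) ∨ ∀ v, L ((q.out : S) * x) v = -L (x * (q.out : S)) v :=
        hsgn _ q.out.2 x (hKA x.2)
      have hy : (q.out : S) * y = y * (q.out : S) ∨ ∀ v, L ((q.out : S) * y) v = -L (y * (q.out : S)) v :=
        hsgn _ q.out.2 y (hKA y.2)
      have hne : ∀ u w : S, (∀ v, L u v = -L w v) → u ≠ w := by
        intro u w h e
        subst e
        have h0 : ∀ v, L u v = 0 := fun v => by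
          have h6 : (2 : F) • L u v = 0 := by rw [two_smul]; nth_rw 1 [h v]; rw [neg_add_cancel]
          exact (smul_eq_zero.1 h6).resolve_left h2
        have h7 : ∀ v, L (u⁻¹ * u) v = 0 := fun v => by rw [hL, h0, map_zero]
        rw [inv_mul_cancel] at h7
        have := h7 (fun _ => 1)
        rw [hL1] at this
        exact one_ne_zero (congrFun this (Sum.inl ⟨0, by omega⟩))
      have hxy : (((x * y : K)) : S) = (x : S) * (y : S) := rfl
      rw [hxy]
      rcases hx with hx | hx <;> rcases hy with hy | hy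
      · rw [if_pos (by rw [← mul_assoc, hx, mul_assoc, hy, mul_assoc]), if_pos hx, if_pos hy, one_mul]
      · rw [if_neg (fun e => hne _ _ hy (mul_left_cancel (a := (x : S)) (by
          rw [← mul_assoc, ← hx, mul_assoc, e, mul_assoc]))), if_pos hx, if_neg (hne _ _ hy), one_mul]
      · rw [if_neg (fun e => hne _ _ hx (mul_right_cancel (b := (y : S)) (by
          rw [mul_assoc, e, mul_assoc, mul_assoc, hy]))), if_neg (hne _ _ hx), if_pos hy, mul_one]
      · rw [if_pos ?_, if_neg (hne _ _ hx), if_neg (hne _ _ hy), neg_mul_neg, one_mul]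
        refine hLinj (LinearMap.ext fun v => ?_)
        rw [← mul_assoc, hL, hx, ← hL, mul_assoc, hL, hy, map_neg, neg_neg, ← hL, mul_assoc]
    choose l hl using hchar
    have hlinj : Function.Injective l := by
      intro p q h
      rw [← QuotientGroup.out_eq' p, ← QuotientGroup.out_eq' q]
      refine hpat _ _ fun x hx => ?_
      have h8 := congrArg (fun f : K →* ℂˣ => f ⟨x, hx⟩) h
      simp only [hl] at h8
      have h11 : (1 : ℂˣ) ≠ -1 := fun e => by
        have := congrArg Units.val e
        norm_num at this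
      constructor
      · intro hp
        by_contra hq
        rw [if_pos hp, if_neg hq] at h8
        exact h11 h8
      · intro hq
        by_contra hp
        rw [if_neg hp, if_pos hq] at h8
        exact h11 h8.symm
    -- the centre contains -1
    obtain ⟨c, hc, hc1⟩ : ∃ c ∈ Subgroup.center S, c ≠ 1 := by
      exact ⟨a * z * a⁻¹ * z⁻¹, hcom a haA z (hKA hzK), fun e => haz (by
        rw [show a * z = a * z * a⁻¹ * z⁻¹ * (z * a) by
          simp only [mul_assoc, inv_mul_cancel_left, inv_mul_cancel, mul_one], e, one_mul])⟩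
    have : Finite (K →* ℂˣ) := Nat.finite_of_card_ne_zero (by
      rw [CommGroup.card_monoidHom_of_hasEnoughRootsOfUnity]; exact Nat.card_pos.ne')
    let ev : (K →* ℂˣ) →* ℂˣ := MonoidHom.eval ⟨c, hcK hc⟩
    have hrange : ∀ q, l q ∈ ev.ker := fun q => by
      change l q ⟨c, hcK hc⟩ = 1
      rw [hl, if_pos (Subgroup.mem_center_iff.1 hc _)]
    have hev : ev.ker ≠ ⊤ := by
      intro h
      obtain ⟨φ, hφ⟩ := CommGroup.exists_apply_ne_one_of_hasEnoughRootsOfUnity K ℂ
        (a := (⟨c, hcK hc⟩ : K)) (fun e => hc1 (congrArg Subtype.val e))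
      exact hφ (h ▸ Subgroup.mem_top φ : φ ∈ ev.ker)
    have hidx : 2 * (K.subgroupOf A).index ≤ Nat.card K := by
      have h9 : (K.subgroupOf A).index ≤ Nat.card ev.ker := by
        rw [Subgroup.index_eq_card]
        exact Nat.card_le_card_of_injective (fun q => (⟨l q, hrange q⟩ : ev.ker))
          (fun p q h => hlinj (congrArg Subtype.val h))
      have h10 := ev.ker.card_mul_index
      rw [CommGroup.card_monoidHom_of_hasEnoughRootsOfUnity] at h10
      have : 2 ≤ ev.ker.index := by
        have := Subgroup.index_ne_zero_of_finite (H := ev.ker)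
        have : ev.ker.index ≠ 1 := fun e => hev (Subgroup.index_eq_one.1 e)
        omega
      nlinarith
    have hK4 : Nat.card K ≤ 4 * 2 ^ (m / 2) := by omega
    have h16 : Nat.card A * 2 ≤ 4 * 2 ^ (m / 2) * (4 * 2 ^ (m / 2)) := by
      rw [hcard, mul_assoc, mul_comm _ 2]
      exact Nat.mul_le_mul hK4 (hidx.trans hK4)
    have hpow : 4 * 2 ^ (m / 2) * (4 * 2 ^ (m / 2)) = 2 ^ (4 + 2 * (m / 2)) := by
      rw [pow_add, pow_mul']; ring
    have hlt : 2 ^ (4 + 2 * (m / 2)) < 2 ^ (2 * m) * 2 := by
      rw [← pow_succ]; exact Nat.pow_lt_pow_right one_lt_two (by omega)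
    omega

end Cfsg.Agent.Lib.Classical
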