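import Cfsg.Agent.Lib.Classical.QuadOmega.Normal
import Cfsg.Prelude.Def_LieClassical

/-!
Unitary groups over the subfield: flat coordinates.
-/

set_option autoImplicit false

namespace Cfsg.Agent.Lib.Classical.UnitaryFlat

open QuadraticMap Cfsg.Agent.Lib.Classical.Quad Cfsg.Agent.Lib.Classical.QuadOmega
open Polynomial
open scoped Matrix

/-- A quadratic extension with a chosen generator. -/
structure Data (F K : Type*) [Field F] [Field K] (q : ℕ) (a b : F) where
  f : F →+* K
  θ : K
  hfix : ∀ x : F, f x ^ q = f x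
  hadd : ∀ x y : K, (x + y) ^ q = x ^ q + y ^ q
  hne : θ ^ q ≠ θ
  htr : θ + θ ^ q = f a
  hnm : θ * θ ^ q = f b
  surj : ∀ z : K, ∃ x y : F, f x + θ * f y = z

variable {F K : Type*} [Field F] [Field K]

lemma exists_aniso (F : Type*) [Field F] [Fintype F] : ∃ ζ : F, Aniso 1 ζ := by
  have hns : ¬ Function.Surjective fun t : F => t ^ 2 + t := by
    rw [← Finite.injective_iff_surjective]
    intro h
    have h' : (0 : F) = -1 := h (show (0 : F) ^ 2 + 0 = (-1) ^ 2 + (-1) by ring)
    exact one_ne_zero (by linear_combination h')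
  simp only [Function.Surjective, not_forall, not_exists] at hns
  obtain ⟨ζ, hζ⟩ := hns
  refine ⟨-ζ, fun z₁ z₂ h => ?_⟩
  have h2 : z₂ = 0 := by
    by_contra h2
    refine hζ (z₁ / z₂) ?_
    field_simp
    linear_combination h
  subst h2
  exact ⟨(pow_eq_zero_iff two_ne_zero).1 (by linear_combination h), rfl⟩

theorem exists_data [Fintype F] [Fintype K] {q : ℕ} (hF : Fintype.card F = q) (hK : Fintype.card K = q ^ 2) {a b : F}
    (hab : Aniso a b) : Nonempty (Data F K q a b) := by
  classical
  set g : F[X] := X ^ 2 + Polynomial.C a * X + Polynomial.C b with hg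
  have hmon : g.Monic := by rw [hg]; monicity!
  have hdeg : g.natDegree = 2 := by rw [hg]; compute_degree!
  have hirr : Irreducible g := by
    rw [hmon.irreducible_iff_roots_eq_zero_of_degree_le_three (by omega) (by omega)]
    refine Multiset.eq_zero_of_forall_notMem fun t ht => ?_
    rw [mem_roots hmon.ne_zero] at ht
    exact one_ne_zero (hab t 1 (by simp [hg] at ht; linear_combination ht)).2
  have : Fact (Irreducible g) := ⟨hirr⟩
  have : Module.Finite F (AdjoinRoot g) := (AdjoinRoot.powerBasis hirr.ne_zero).finite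
  have : Finite (AdjoinRoot g) := Module.finite_of_finite F
  let : Fintype (AdjoinRoot g) := Fintype.ofFinite _
  have hcard : Fintype.card (AdjoinRoot g) = Fintype.card K := by
    rw [Module.card_eq_pow_finrank (K := F), hF, hK,
      show Module.finrank F (AdjoinRoot g) = g.natDegree from
        finrank_quotient_span_eq_natDegree (f := g), hdeg]
  set ψ := FiniteField.ringEquivOfCardEq (K := AdjoinRoot g) (K' := K) hcard
  let f : F →+* K := (ψ : AdjoinRoot g →+* K).comp (AdjoinRoot.of g)
  set t : K := ψ (AdjoinRoot.root g)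
  have ht : t ^ 2 + f a * t + f b = 0 := by
    have h := AdjoinRoot.eval₂_root g
    simp only [hg, eval₂_add, eval₂_mul, eval₂_X_pow, eval₂_C, eval₂_X] at h
    simpa [f, t] using congrArg ψ h
  have htF : ∀ x : F, f x ≠ t := fun x hx => one_ne_zero (hab x 1 (f.injective (by
    rw [← hx] at ht
    simp only [map_add, map_mul, map_pow, map_zero, map_one]
    linear_combination ht))).2
  obtain ⟨p, hp⟩ := CharP.exists F
  obtain ⟨k, hpp, hk⟩ := FiniteField.card F p
  have : Fact p.Prime := ⟨hpp⟩
  have : CharP K p := charP_of_injective_ringHom f.injective p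
  have hadd : ∀ x y : K, (x + y) ^ q = x ^ q + y ^ q := fun x y => by
    rw [← hF, hk, add_pow_char_pow]
  have hfix : ∀ x : F, f x ^ q = f x := fun x => by rw [← map_pow, ← hF, FiniteField.pow_card]
  have hq : 1 < q := hF ▸ Fintype.one_lt_card
  have himg : Finset.univ.image f = ((X ^ q - X : K[X]).roots.toFinset) := by
    refine Finset.eq_of_subset_of_card_le (fun x hx => ?_) ?_
    · obtain ⟨y, -, rfl⟩ := Finset.mem_image.1 hx
      rw [Multiset.mem_toFinset, mem_roots (FiniteField.X_pow_card_sub_X_ne_zero K hq)]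
      simp [hfix]
    · rw [Finset.card_image_of_injective _ f.injective, Finset.card_univ, hF]
      exact (Multiset.toFinset_card_le _).trans ((card_roots' _).trans
        (FiniteField.X_pow_card_sub_X_natDegree_eq K hq).le)
  have htq : t ^ q ≠ t := fun h => by
    have hmem : t ∈ Finset.univ.image f := by
      rw [himg, Multiset.mem_toFinset, mem_roots (FiniteField.X_pow_card_sub_X_ne_zero K hq)]
      simp [h]
    obtain ⟨x, -, hx⟩ := Finset.mem_image.1 hmem
    exact htF x hx
  have hsq : (t ^ q) ^ 2 + f a * t ^ q + f b = 0 := by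
    have h := congrArg (· ^ q) ht
    simp only [hadd, mul_pow, hfix, zero_pow (by omega : q ≠ 0)] at h
    rw [← pow_mul, mul_comm, pow_mul] at h
    exact h
  have hsum : t + t ^ q = -f a := by
    have : (t ^ q - t) * (t + t ^ q + f a) = 0 := by linear_combination hsq - ht
    linear_combination (mul_eq_zero.1 this).resolve_left (sub_ne_zero.2 htq)
  have hneg : (-t) ^ q = -t ^ q := by
    have h := hadd t (-t)
    rw [add_neg_cancel, zero_pow (by omega : q ≠ 0)] at h
    linear_combination -h
  refine ⟨⟨f, -t, hfix, hadd, by rw [hneg]; exact fun h => htq (neg_injective h),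
    by rw [hneg]; linear_combination -hsum, by rw [hneg]; linear_combination t * hsum - ht, ?_⟩⟩
  intro z
  have hinj : Function.Injective fun p : F × F => f p.1 + -t * f p.2 := by
    rintro ⟨x, y⟩ ⟨x', y'⟩ h
    simp only at h
    by_cases hy : y = y'
    · subst hy
      exact Prod.ext (f.injective (by linear_combination h)) rfl
    · have hy' : f (y - y') ≠ 0 := by
        rw [_root_.map_ne_zero]; exact sub_ne_zero.2 hy
      refine absurd ?_ (htF ((x - x') / (y - y')))
      rw [map_div₀, div_eq_iff hy', map_sub, map_sub]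
      linear_combination h
  obtain ⟨⟨x, y⟩, hxy⟩ := ((Fintype.bijective_iff_injective_and_card
    fun p : F × F => f p.1 + -t * f p.2).2 ⟨hinj, by rw [Fintype.card_prod, hF, hK, pow_two]⟩).2 z
  exact ⟨x, y, hxy⟩

variable {q : ℕ} {a b : F} {m : ℕ}

/-- Flat coordinates. -/
def iota (D : Data F K q a b) (z : Fin m ⊕ Fin m → F) : Fin m → K :=
  fun i => D.f (z (.inl i)) + D.θ * D.f (z (.inr i))

variable (D : Data F K q a b)

lemma iota_add (z z' : Fin m ⊕ Fin m → F) : iota D (z + z') = iota D z + iota D z' := by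
  ext i; simp [iota]; ring

lemma iota_smul (c : F) (z : Fin m ⊕ Fin m → F) : iota D (c • z) = D.f c • iota D z := by
  ext i; simp [iota]; ring

lemma iota_bijective : Function.Bijective (iota D : (Fin m ⊕ Fin m → F) → _) := by
  have hsurj : Function.Surjective (iota D : (Fin m ⊕ Fin m → F) → _) := fun v => by
    choose x y h using D.surj
    exact ⟨Sum.elim (fun i => x (v i)) (fun i => y (v i)), funext fun i => h (v i)⟩
  refine ⟨fun z z' e => funext fun s => ?_, hsurj⟩
  have key : ∀ x y : F, D.f x + D.θ * D.f y = 0 → x = 0 ∧ y = 0 := fun x y h => by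
    have hy : y = 0 := by
      by_contra hy
      have hy' : D.f y ≠ 0 := by rwa [_root_.map_ne_zero]
      refine D.hne ?_
      have hθ : D.θ = D.f (-x / y) := by
        rw [map_div₀, map_neg, eq_div_iff hy']
        linear_combination h
      rw [hθ, D.hfix]
    exact ⟨D.f.injective (by rw [hy, map_zero, mul_zero, add_zero] at h; rw [h, map_zero]), hy⟩
  rcases s with i | i
  all_goals
    have h := key (z (.inl i) - z' (.inl i)) (z (.inr i) - z' (.inr i)) (by
      have := congrFun e i
      simp only [iota] at this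
      rw [map_sub, map_sub]
      linear_combination this)
  exacts [sub_eq_zero.1 h.1, sub_eq_zero.1 h.2]

/-- The inverse coordinates. -/
noncomputable def iotaInv : (Fin m → K) → (Fin m ⊕ Fin m → F) :=
  (Equiv.ofBijective _ (iota_bijective (m := m) D)).symm

lemma iota_iotaInv (v : Fin m → K) : iota D (iotaInv D v) = v :=
  Equiv.ofBijective_apply_symm_apply (iota D) (iota_bijective D) v

/-- The action of a matrix in flat coordinates. -/
noncomputable def flatLin (M : Matrix (Fin m) (Fin m) K) :
    (Fin m ⊕ Fin m → F) →ₗ[F] (Fin m ⊕ Fin m → F) where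
  toFun z := iotaInv D (M *ᵥ iota D z)
  map_add' z z' := (iota_bijective D).1 (by
    rw [iota_iotaInv, iota_add, iota_add, iota_iotaInv, iota_iotaInv, Matrix.mulVec_add])
  map_smul' c z := (iota_bijective D).1 (by
    rw [RingHom.id_apply, iota_iotaInv, iota_smul, iota_smul, iota_iotaInv, Matrix.mulVec_smul])

/-- Restriction of scalars on matrices. -/
noncomputable def flatMat : Matrix (Fin m) (Fin m) K →* Matrix (Fin m ⊕ Fin m) (Fin m ⊕ Fin m) F where
  toFun M := LinearMap.toMatrix' (flatLin D M)
  map_one' := by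
    rw [show flatLin D (1 : Matrix (Fin m) (Fin m) K) = LinearMap.id from
      LinearMap.ext fun z => (iota_bijective D).1 (by simp [flatLin, iota_iotaInv]),
      LinearMap.toMatrix'_id]
  map_mul' M N := by
    rw [← LinearMap.toMatrix'_comp]
    congr 1
    refine LinearMap.ext fun z => (iota_bijective D).1 ?_
    simp [flatLin, iota_iotaInv, Matrix.mulVec_mulVec]

lemma iota_flatMat (M : Matrix (Fin m) (Fin m) K) (z : Fin m ⊕ Fin m → F) :
    iota D (flatMat D M *ᵥ z) = M *ᵥ iota D z := by
  change iota D (LinearMap.toMatrix' (flatLin D M) *ᵥ z) = _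
  rw [LinearMap.toMatrix'_mulVec]
  exact iota_iotaInv D _

/-- Restriction of scalars. -/
noncomputable def flatGL : Matrix.GeneralLinearGroup (Fin m) K →*
    Matrix.GeneralLinearGroup (Fin m ⊕ Fin m) F :=
  Units.map (flatMat D)

lemma flatGL_injective : Function.Injective (flatGL (m := m) D) := by
  intro g g' h
  refine Units.ext (Matrix.ext_of_mulVec_single fun i => ?_)
  obtain ⟨z, hz⟩ := (iota_bijective (m := m) D).2 (Pi.single i 1)
  rw [← hz, ← iota_flatMat, ← iota_flatMat]
  rw [show flatMat D (g : Matrix (Fin m) (Fin m) K) = flatMat D (g' : Matrix (Fin m) (Fin m) K)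
    from congrArg Units.val h]

/-- The form `Σ (xᵢ² + a xᵢ yᵢ + b yᵢ²)`. -/
def flatForm (a b : F) (z : Fin m ⊕ Fin m → F) : F :=
  ∑ i, (z (.inl i) ^ 2 + a * z (.inl i) * z (.inr i) + b * z (.inr i) ^ 2)

/-- The alternating form `Σ (uᵢ' vᵢ - uᵢ vᵢ')`. -/
def flatAlt (u v : Fin m ⊕ Fin m → F) : F :=
  ∑ i, (u (.inr i) * v (.inl i) - u (.inl i) * v (.inr i))

lemma herm_iota (u v : Fin m ⊕ Fin m → F) :
    Cfsg.hermForm m K q (iota D u) (iota D v) =
      ∑ i, (D.f (u (.inl i)) + D.θ * D.f (u (.inr i))) *
        (D.f (v (.inl i)) + D.θ ^ q * D.f (v (.inr i))) := by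
  simp [Cfsg.hermForm, iota, D.hadd, mul_pow, D.hfix]

lemma herm_self (z : Fin m ⊕ Fin m → F) :
    Cfsg.hermForm m K q (iota D z) (iota D z) = D.f (flatForm a b z) := by
  rw [herm_iota, flatForm, map_sum]
  refine Finset.sum_congr rfl fun i _ => ?_
  simp only [map_add, map_mul, map_pow, ← D.htr, ← D.hnm]
  ring

lemma herm_sub (u v : Fin m ⊕ Fin m → F) :
    Cfsg.hermForm m K q (iota D u) (iota D v) - Cfsg.hermForm m K q (iota D v) (iota D u) =
      (D.θ - D.θ ^ q) * D.f (flatAlt u v) := by
  rw [herm_iota, herm_iota, flatAlt, map_sum, ← Finset.sum_sub_distrib, Finset.mul_sum]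
  refine Finset.sum_congr rfl fun i _ => ?_
  simp only [map_sub, map_mul]
  ring

lemma flatAlt_eq (u v : Fin m ⊕ Fin m → F) : flatAlt u v = u ⬝ᵥ (Matrix.J (Fin m) F *ᵥ v) := by
  simp [flatAlt, Matrix.J, Matrix.fromBlocks_mulVec, dotProduct, Fintype.sum_sum_type,
    Matrix.one_mulVec, Matrix.neg_mulVec, sub_eq_add_neg, Finset.sum_add_distrib, add_comm]

lemma flatMat_alt (g : Cfsg.GU m K q) :
    flatMat D ((g : Matrix.GeneralLinearGroup (Fin m) K) : Matrix (Fin m) (Fin m) K) ∈
      Matrix.symplecticGroup (Fin m) F := by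
  rw [SymplecticGroup.mem_iff']
  refine Matrix.ext fun i j => ?_
  set A := flatMat D ((g : Matrix.GeneralLinearGroup (Fin m) K) : Matrix (Fin m) (Fin m) K)
  have h : ∀ u v, flatAlt (A *ᵥ u) (A *ᵥ v) = flatAlt u v := fun u v => by
    refine D.f.injective (mul_left_cancel₀ (sub_ne_zero.2 (Ne.symm D.hne)) ?_)
    rw [← herm_sub, ← herm_sub, iota_flatMat, iota_flatMat]
    exact congrArg₂ (· - ·) (g.2 _ _) (g.2 _ _)
  have h' := h (Pi.single i 1) (Pi.single j 1)
  rw [flatAlt_eq, flatAlt_eq, Matrix.mulVec_mulVec] at h'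
  rw [Matrix.mul_assoc, Matrix.mul_apply]
  simpa [dotProduct, Matrix.mulVec, Pi.single_apply] using h'

/-- `GU_m(q)` as isometries of the flat form. -/
noncomputable def guHom : Cfsg.GU m K q →* Cfsg.isometryGroup F (flatForm (m := m) a b) :=
  ((flatGL D).comp (Cfsg.GU m K q).subtype).codRestrict _ fun g =>
    show ∀ u v : Fin m ⊕ Fin m → F, flatForm a b (flatMat D _ *ᵥ u) = flatForm a b u by
    intro u _
    refine D.f.injective ?_
    rw [← herm_self, ← herm_self, iota_flatMat]
    exact g.2 _ _

lemma guHom_injective : Function.Injective (guHom (m := m) D) := fun _ _ h =>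
  Subtype.ext (flatGL_injective D (congrArg Subtype.val h))

end Cfsg.Agent.Lib.Classical.UnitaryFlat
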