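import Cfsg.Agent.Lib.Classical.UnitarySemisimpleConj
import Cfsg.Agent.Lib.GLn.SemisimpleClasses

/-! Semisimple classes of special unitary groups. -/

set_option autoImplicit false

namespace Cfsg.Agent.Lib.Classical.UnitarySemisimpleClasses

open Polynomial Cfsg.Agent.Lib.UnitaryConj Cfsg.Agent.Lib.GLn
open scoped Matrix

universe u

variable {K : Type u} [Field K] [Fintype K] {q n : ℕ} (hK : Fintype.card K = q ^ 2)

/-- The conjugate reciprocal polynomial. -/
noncomputable def dual (P : K[X]) : K[X] := C (qHom hK (P.coeff 0))⁻¹ * (P.map (qHom hK)).reverse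

theorem dual_mul (P Q : K[X]) : dual hK (P * Q) = dual hK P * dual hK Q := by
  rw [dual, dual, dual, Polynomial.map_mul, reverse_mul_of_domain, mul_coeff_zero, map_mul, mul_inv, C_mul]
  ring

theorem coeff_dual (P : K[X]) {i : ℕ} (hi : i ≤ P.natDegree) :
    (dual hK P).coeff i = (qHom hK (P.coeff 0))⁻¹ * qHom hK (P.coeff (P.natDegree - i)) := by
  rw [dual, coeff_C_mul, coeff_reverse, natDegree_map, revAt_le hi, coeff_map]

theorem natDegree_dual {P : K[X]} (h0 : P.coeff 0 ≠ 0) : (dual hK P).natDegree = P.natDegree := by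
  rw [dual, natDegree_C_mul (inv_ne_zero (fun h => h0 ((qHom hK).injective (h.trans (map_zero _).symm)))),
    reverse_natDegree, natDegree_map,
    natTrailingDegree_eq_zero.2 (Or.inr (by rw [coeff_map]; exact fun h => h0 ((qHom hK).injective (h.trans (map_zero _).symm)))),
    Nat.sub_zero]

theorem monic_dual {P : K[X]} (h0 : P.coeff 0 ≠ 0) : (dual hK P).Monic := by
  rw [Monic, leadingCoeff, natDegree_dual hK h0, coeff_dual hK P le_rfl, Nat.sub_self,
    inv_mul_cancel₀ (fun h => h0 ((qHom hK).injective (h.trans (map_zero _).symm)))]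

theorem coeff_zero_dual {P : K[X]} (hP : P.Monic) :
    (dual hK P).coeff 0 = (qHom hK (P.coeff 0))⁻¹ := by
  rw [coeff_dual hK P (Nat.zero_le _), Nat.sub_zero, hP.coeff_natDegree, map_one, mul_one]

theorem dual_dual {P : K[X]} (hP : P.Monic) (h0 : P.coeff 0 ≠ 0) : dual hK (dual hK P) = P := by
  have hd := natDegree_dual hK h0
  have h0' : (dual hK P).coeff 0 ≠ 0 := by
    rw [coeff_zero_dual hK hP]
    exact inv_ne_zero fun h => h0 ((qHom hK).injective (h.trans (map_zero _).symm))
  ext i
  by_cases hi : i ≤ P.natDegree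
  · rw [coeff_dual hK _ (hd.symm ▸ hi), coeff_zero_dual hK hP, coeff_dual hK P (by omega), hd,
      show P.natDegree - (P.natDegree - i) = i by omega, map_mul, map_inv₀, qHom_qHom, qHom_qHom, inv_inv, ← mul_assoc,
      mul_inv_cancel₀ h0, one_mul]
  · rw [coeff_eq_zero_of_natDegree_lt (by rw [natDegree_dual hK h0', hd]; omega),
      coeff_eq_zero_of_natDegree_lt (by omega)]

theorem irreducible_dual {f : K[X]} (hfm : f.Monic) (hf : Irreducible f) (h0 : f.coeff 0 ≠ 0) :
    Irreducible (dual hK f) := by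
  refine (monic_dual hK h0).irreducible_iff_natDegree.2 ⟨fun h => ?_, fun a b ha hb hab => ?_⟩
  · have := hf.natDegree_pos
    rw [← natDegree_dual hK h0, h, natDegree_one] at this
    omega
  · have hne : a.coeff 0 ≠ 0 ∧ b.coeff 0 ≠ 0 := by
      have h1 := congrArg (fun P : K[X] => P.coeff 0) hab
      rw [mul_coeff_zero, coeff_zero_dual hK hfm] at h1
      exact mul_ne_zero_iff.1 (by rw [h1]; exact inv_ne_zero fun h => h0 ((qHom hK).injective (h.trans (map_zero _).symm)))
    have h2 := congrArg (dual hK) hab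
    rw [dual_mul, dual_dual hK hfm h0] at h2
    rcases (hfm.irreducible_iff_natDegree.1 hf).2 _ _ (monic_dual hK hne.1) (monic_dual hK hne.2) h2 with h | h
    · exact Or.inl (by rwa [natDegree_dual hK hne.1] at h)
    · exact Or.inr (by rwa [natDegree_dual hK hne.2] at h)

/-- The characteristic polynomial of the inverse adjoint. -/
theorem charpoly_inv_tstar (A B : Matrix (Fin n) (Fin n) K) (h : B * tstar hK A = 1) :
    B.charpoly = dual hK A.charpoly := by
  have hu : IsUnit (tstar hK A) := ⟨⟨_, B, mul_eq_one_comm.1 h, h⟩, rfl⟩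
  have hB : (tstar hK A)⁻¹ = B := Matrix.inv_eq_left_inv h
  have hc : (tstar hK A).charpoly = A.charpoly.map (qHom hK) := by
    rw [tstar, Matrix.charpoly_transpose, Matrix.charpoly_map]
  rw [← hB, Matrix.charpoly_inv _ hu, ← Matrix.reverse_charpoly, hc, dual]
  congr 1
  have h1 : qHom hK (A.charpoly.coeff 0) = (tstar hK A).charpoly.coeff 0 := by rw [hc, coeff_map]
  rw [h1, Matrix.det_eq_sign_charpoly_coeff (tstar hK A), Ring.inverse_eq_inv, mul_inv, ← inv_pow, inv_neg, inv_one,
    C_mul, C_pow, C_neg, C_1, ← mul_assoc, ← mul_pow, neg_one_mul, neg_neg, one_pow, one_mul]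

/-- Unitary matrices of order prime to `p` with given characteristic polynomial. -/
def Realizes (p : ℕ) (P : K[X]) : Prop :=
  ∃ (M : Matrix (Fin P.natDegree) (Fin P.natDegree) K) (m : ℕ), m.Coprime p ∧ M ^ m = 1 ∧
    tstar hK M * M = 1 ∧ M.charpoly = P

variable (p : ℕ) [Fact p.Prime] [CharP K p]

include p in
/-- The squarefree case. -/
theorem realizes_squarefree (r : K[X]) (hr : r.Monic) (hsq : Squarefree r) (h0 : r.coeff 0 ≠ 0)
    (hdual : dual hK r = r) : Realizes hK p r := by
  classical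
  rcases Nat.eq_zero_or_pos r.natDegree with hd | hd
  · refine ⟨1, 1, Nat.coprime_one_left p, one_pow 1, by rw [tstar_one, mul_one], ?_⟩
    haveI : IsEmpty (Fin r.natDegree) := by rw [hd]; infer_instance
    rw [Matrix.charpoly_isEmpty, eq_one_of_monic_natDegree_zero hr hd]
  let pb := AdjoinRoot.powerBasis hr.ne_zero
  haveI : Module.Finite K (AdjoinRoot r) := pb.finite
  haveI : Finite (AdjoinRoot r) := Module.finite_of_finite K
  haveI : Nontrivial (AdjoinRoot r) := AdjoinRoot.nontrivial _ (by rw [degree_eq_natDegree hr.ne_zero]; exact_mod_cast hd.ne')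
  -- the root is a unit of order prime to `p`
  obtain ⟨w, hw⟩ : IsUnit (AdjoinRoot.root r) := by
    obtain ⟨s, hs⟩ : X ∣ r - C (r.coeff 0) := by rw [X_dvd_iff]; simp
    have h1 := congrArg (AdjoinRoot.mk r) hs
    rw [map_sub, AdjoinRoot.mk_self, map_mul, AdjoinRoot.mk_X, AdjoinRoot.mk_C, zero_sub] at h1
    refine isUnit_of_mul_isUnit_left (y := AdjoinRoot.mk r s) ?_
    rw [← h1]
    exact ((IsUnit.mk0 _ h0).map _).neg
  haveI : CharP (AdjoinRoot r) p := charP_of_injective_algebraMap (algebraMap K (AdjoinRoot r)).injective p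
  have hcop : (orderOf w).Coprime p := by
    refine ((Fact.out : p.Prime).coprime_iff_not_dvd.2 fun hdvd => ?_).symm
    set z := w ^ (orderOf w / p) with hz
    have hzp : z ^ p = 1 := by rw [hz, ← pow_mul, Nat.div_mul_cancel hdvd, pow_orderOf_eq_one]
    have hz1 : z ≠ 1 := fun h => by
      have h1 := Nat.le_of_dvd (Nat.div_pos (Nat.le_of_dvd (orderOf_pos w) hdvd) (Fact.out : p.Prime).pos)
        (orderOf_dvd_of_pow_eq_one h)
      have h2 := Nat.div_lt_self (orderOf_pos w) (Fact.out : p.Prime).one_lt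
      omega
    have h1 : ((z : AdjoinRoot r) - 1) ^ p = 0 := by
      rw [sub_pow_char, one_pow, ← Units.val_pow_eq_pow_val, hzp, Units.val_one, sub_self]
    refine hz1 (Units.ext (sub_eq_zero.1 ?_))
    obtain ⟨a, ha⟩ := AdjoinRoot.mk_surjective (g := r) ((z : AdjoinRoot r) - 1)
    rw [← ha, ← map_pow, AdjoinRoot.mk_eq_zero] at h1
    rw [Units.val_one, ← ha, AdjoinRoot.mk_eq_zero]
    exact hsq.isRadical p a h1
  let ρ : Matrix (Fin pb.dim) (Fin pb.dim) K ≃ₐ[K] Matrix (Fin r.natDegree) (Fin r.natDegree) K :=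
    Matrix.reindexAlgEquiv K K (finCongr (AdjoinRoot.powerBasis_dim hr.ne_zero))
  set M : Matrix (Fin r.natDegree) (Fin r.natDegree) K := ρ (Algebra.leftMulMatrix pb.basis (AdjoinRoot.root r)) with hM
  have hMm : M ^ orderOf w = 1 := by
    rw [hM, ← map_pow, ← map_pow, ← hw, ← Units.val_pow_eq_pow_val, pow_orderOf_eq_one, Units.val_one, map_one, map_one]
  have hMc : M.charpoly = r := by
    rw [hM, Matrix.coe_reindexAlgEquiv, Matrix.charpoly_reindex, ← AdjoinRoot.powerBasis_gen hr.ne_zero,
      charpoly_leftMulMatrix, AdjoinRoot.powerBasis_gen,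
      AdjoinRoot.minpoly_root hr.ne_zero, hr.leadingCoeff, inv_one, C_1, mul_one]
  -- the commutant is commutative
  have hcm : ∀ A, Commute A M → ∃ a : AdjoinRoot r, A = ρ (Algebra.leftMulMatrix pb.basis a) := by
    intro A hA
    set L : Module.End K (AdjoinRoot r) := (LinearMap.toMatrixAlgEquiv pb.basis).symm (ρ.symm A) with hL
    have hLA : ρ.symm A = LinearMap.toMatrixAlgEquiv pb.basis L := by rw [hL, AlgEquiv.apply_symm_apply]
    have hR : (LinearMap.toMatrixAlgEquiv pb.basis).symm (Algebra.leftMulMatrix pb.basis (AdjoinRoot.root r)) =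
        Algebra.lmul K (AdjoinRoot r) (AdjoinRoot.root r) := by
      rw [AlgEquiv.symm_apply_eq]; rfl
    have hc : Commute L (Algebra.lmul K (AdjoinRoot r) (AdjoinRoot.root r)) := by
      rw [← hR]
      have := (hA.map ρ.symm).map (LinearMap.toMatrixAlgEquiv pb.basis).symm
      rwa [hM, AlgEquiv.symm_apply_apply] at this
    have hstep : ∀ x, L (AdjoinRoot.root r * x) = AdjoinRoot.root r * L x := fun x => LinearMap.congr_fun hc.eq x
    have hLeq : L = Algebra.lmul K (AdjoinRoot r) (L 1) := by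
      refine LinearMap.ext fun x => ?_
      obtain ⟨a, rfl⟩ := AdjoinRoot.mk_surjective x
      show L (AdjoinRoot.mk r a) = L 1 * AdjoinRoot.mk r a
      induction a using Polynomial.induction_on' with
      | add s t hs ht => rw [map_add, map_add, hs, ht, mul_add]
      | monomial k c =>
        induction k with
        | zero =>
          rw [monomial_zero_left, AdjoinRoot.mk_C, ← AdjoinRoot.algebraMap_eq, Algebra.algebraMap_eq_smul_one,
            map_smul, mul_smul_comm, mul_one]
        | succ k ih =>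
          rw [← monomial_mul_X, map_mul, AdjoinRoot.mk_X, mul_comm (AdjoinRoot.mk r _) (AdjoinRoot.root r), hstep, ih]
          ring
    refine ⟨L 1, ?_⟩
    rw [← ρ.apply_symm_apply A, hLA]
    congr 1
    conv_lhs => rw [hLeq]
    rfl
  have hMu : IsUnit M := IsUnit.of_pow_eq_one hMm (orderOf_pos w).ne'
  set g : GL (Fin r.natDegree) K := hMu.unit with hg
  have hgM : (g : Matrix (Fin r.natDegree) (Fin r.natDegree) K) = M := rfl
  have hgm : g ^ orderOf w = 1 := Units.ext (by rw [Units.val_pow_eq_pow_val, hgM, hMm, Units.val_one])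
  -- the inverse adjoint
  set N : GL (Fin r.natDegree) K := ⟨tstar hK ((g⁻¹ : GL (Fin r.natDegree) K) : Matrix (Fin r.natDegree) (Fin r.natDegree) K),
    tstar hK M, by rw [← tstar_mul, ← hgM, Units.mul_inv, tstar_one],
    by rw [← tstar_mul, ← hgM, Units.inv_mul, tstar_one]⟩ with hN
  have hNm : N ^ orderOf w = 1 := by
    apply inv_injective
    rw [inv_one, ← inv_pow]
    apply Units.ext
    rw [Units.val_pow_eq_pow_val]
    show tstar hK M ^ orderOf w = 1
    have key : ∀ j, tstar hK M ^ j = tstar hK (M ^ j) := fun j => by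
      induction j with
      | zero => rw [pow_zero, pow_zero, tstar_one]
      | succ j ih => rw [pow_succ, ih, pow_succ' M, tstar_mul]
    rw [key, hMm, tstar_one]
  have hNc : (g : Matrix (Fin r.natDegree) (Fin r.natDegree) K).charpoly =
      (N : Matrix (Fin r.natDegree) (Fin r.natDegree) K).charpoly := by
    rw [hgM, charpoly_inv_tstar hK M _ (N.mul_inv), hMc, hdual]
  obtain ⟨x, hx⟩ := isConj_iff.1 (SemisimpleCharpoly.isConj_gl p g N
    (Nat.Coprime.of_dvd_left (orderOf_dvd_of_pow_eq_one hgm) hcop)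
    (Nat.Coprime.of_dvd_left (orderOf_dvd_of_pow_eq_one hNm) hcop) hNc)
  set Y : Matrix (Fin r.natDegree) (Fin r.natDegree) K := ((x⁻¹ : GL (Fin r.natDegree) K) : Matrix (Fin r.natDegree) (Fin r.natDegree) K) with hY
  set Z : Matrix (Fin r.natDegree) (Fin r.natDegree) K := (x : Matrix (Fin r.natDegree) (Fin r.natDegree) K) with hZ
  have hYZ : Y * Z = 1 := x.inv_mul
  have hZY : Z * Y = 1 := x.mul_inv
  have hZYs : tstar hK Y * tstar hK Z = 1 := by rw [← tstar_mul, hZY, tstar_one]
  have hYZs : tstar hK Z * tstar hK Y = 1 := by rw [← tstar_mul, hYZ, tstar_one]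
  have e1 : Z * M = (N : Matrix (Fin r.natDegree) (Fin r.natDegree) K) * Z :=
    congrArg Units.val (mul_inv_eq_iff_eq_mul.1 hx)
  have hform : tstar hK M * Z * M = Z := by
    rw [mul_assoc, e1, ← mul_assoc, show tstar hK M * (N : Matrix (Fin r.natDegree) (Fin r.natDegree) K) = 1 from N.inv_mul,
      one_mul]
  have e2 : Z * M * Y = (N : Matrix (Fin r.natDegree) (Fin r.natDegree) K) := by rw [e1, mul_assoc, hZY, mul_one]
  set S : Subalgebra K (Matrix (Fin r.natDegree) (Fin r.natDegree) K) := Subalgebra.centralizer K {M} with hS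
  have memS : ∀ a, a ∈ S ↔ Commute a M := fun a => by
    rw [hS, Subalgebra.mem_centralizer_iff]
    exact ⟨fun h => (h M rfl).symm, fun h g hg => by rw [Set.mem_singleton_iff.1 hg]; exact h.eq.symm⟩
  have hScomm : ∀ a ∈ S, ∀ b ∈ S, a * b = b * a := fun a ha b hb => by
    obtain ⟨u, rfl⟩ := hcm a ((memS _).1 ha)
    obtain ⟨v, rfl⟩ := hcm b ((memS _).1 hb)
    rw [← map_mul, ← map_mul, ← map_mul, ← map_mul, mul_comm]
  set y := Y * tstar hK Z with hy
  have hyS : y ∈ S := by
    refine (memS _).2 ?_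
    have h1 := congrArg (tstar hK) hform
    rw [tstar_mul, tstar_mul, tstar_tstar] at h1
    show Y * tstar hK Z * M = M * (Y * tstar hK Z)
    have h2 : tstar hK Z * M = (N : Matrix (Fin r.natDegree) (Fin r.natDegree) K) * tstar hK Z := by
      calc tstar hK Z * M = ((N : Matrix (Fin r.natDegree) (Fin r.natDegree) K) * tstar hK M) * (tstar hK Z * M) := by
            rw [show (N : Matrix (Fin r.natDegree) (Fin r.natDegree) K) * tstar hK M = 1 from N.mul_inv, one_mul]
        _ = _ := by rw [mul_assoc, h1]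
    rw [mul_assoc, h2, ← e2]
    calc Y * (Z * M * Y * tstar hK Z) = (Y * Z) * M * Y * tstar hK Z := by simp only [mul_assoc]
      _ = _ := by rw [hYZ, one_mul, mul_assoc]
  let j : Matrix (Fin r.natDegree) (Fin r.natDegree) K → Matrix (Fin r.natDegree) (Fin r.natDegree) K :=
    fun a => Y * tstar hK a * Z
  have hjS : ∀ a ∈ S, j a ∈ S := fun a ha => by
    refine (memS _).2 ?_
    have h1 : tstar hK M * tstar hK a = tstar hK a * tstar hK M := by rw [← tstar_mul, ← tstar_mul, ((memS a).1 ha).eq]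
    have h2 : tstar hK a * (N : Matrix (Fin r.natDegree) (Fin r.natDegree) K) = N * tstar hK a := by
      calc tstar hK a * (N : Matrix (Fin r.natDegree) (Fin r.natDegree) K)
          = (N : Matrix (Fin r.natDegree) (Fin r.natDegree) K) * tstar hK M * (tstar hK a * N) := by
            rw [show (N : Matrix (Fin r.natDegree) (Fin r.natDegree) K) * tstar hK M = 1 from N.mul_inv, one_mul]
        _ = (N : Matrix (Fin r.natDegree) (Fin r.natDegree) K) * tstar hK a * (tstar hK M * N) := by
            calc _ = (N : Matrix (Fin r.natDegree) (Fin r.natDegree) K) * (tstar hK M * tstar hK a) * N := by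
                  simp only [mul_assoc]
              _ = _ := by rw [h1]; simp only [mul_assoc]
        _ = _ := by rw [show tstar hK M * (N : Matrix (Fin r.natDegree) (Fin r.natDegree) K) = 1 from N.inv_mul, mul_one]
    show Y * tstar hK a * Z * M = M * (Y * tstar hK a * Z)
    rw [mul_assoc (Y * tstar hK a), e1, ← mul_assoc, mul_assoc Y, h2, ← e2]
    calc Y * (Z * M * Y * tstar hK a) * Z = (Y * Z) * M * Y * tstar hK a * Z := by simp only [mul_assoc]
      _ = _ := by rw [hYZ, one_mul]; simp only [mul_assoc]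
  have hyu : y * (tstar hK Y * Z) = 1 := by
    rw [hy, mul_assoc, ← mul_assoc (tstar hK Z), hYZs, one_mul, hYZ]
  have hjj : ∀ a ∈ S, j (j a) = a := fun a ha => by
    show Y * tstar hK (Y * tstar hK a * Z) * Z = a
    rw [tstar_mul, tstar_mul, tstar_tstar]
    calc Y * (tstar hK Z * (a * tstar hK Y)) * Z = (y * a) * (tstar hK Y * Z) := by rw [hy]; simp only [mul_assoc]
      _ = (a * y) * (tstar hK Y * Z) := by rw [hScomm y hyS a ha]
      _ = a := by rw [mul_assoc, hyu, mul_one]
  have hjy : y * j y = 1 := by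
    show y * (Y * tstar hK (Y * tstar hK Z) * Z) = 1
    rw [tstar_mul, tstar_tstar]
    calc y * (Y * (Z * tstar hK Y) * Z) = y * ((Y * Z) * (tstar hK Y * Z)) := by simp only [mul_assoc]
      _ = 1 := by rw [hYZ, one_mul, hyu]
  obtain ⟨z, hzS, hzu, hz⟩ := (subalgebra_facts hK S hScomm j
    (fun a b => by
      show Y * tstar hK (a * b) * Z = Y * tstar hK b * Z * (Y * tstar hK a * Z)
      rw [tstar_mul]
      calc _ = Y * tstar hK b * (Z * Y) * tstar hK a * Z := by rw [hZY, mul_one]; simp only [mul_assoc]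
        _ = _ := by simp only [mul_assoc])
    (fun a b => by show Y * tstar hK (a + b) * Z = _; rw [tstar_add, mul_add, add_mul])
    (fun c a => by show Y * tstar hK (c • a) * Z = qHom hK c • (Y * tstar hK a * Z); rw [tstar_smul, mul_smul_comm, smul_mul_assoc])
    (by show Y * tstar hK 1 * Z = 1; rw [tstar_one, mul_one, hYZ]) hjj hjS).2 y hyS hjy
  -- the hermitian form
  set H : GL (Fin r.natDegree) K := x * hzu.unit with hH
  have hHh : tstar hK (H : Matrix (Fin r.natDegree) (Fin r.natDegree) K) = H := by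
    show tstar hK (Z * z) = Z * z
    calc tstar hK (Z * z) = (Z * Y) * tstar hK z * (Z * Y) * tstar hK Z := by
          rw [hZY, tstar_mul, one_mul, mul_one]
      _ = Z * (j z * y) := by
          show _ = Z * (Y * tstar hK z * Z * (Y * tstar hK Z))
          simp only [mul_assoc]
      _ = Z * z := by rw [hScomm _ (hjS z hzS) y hyS, ← hz]
  obtain ⟨c, hc, -⟩ := exists_sqrt hK H hHh
  set C1 : Matrix (Fin r.natDegree) (Fin r.natDegree) K := (c : Matrix (Fin r.natDegree) (Fin r.natDegree) K)
  set C2 : Matrix (Fin r.natDegree) (Fin r.natDegree) K := ((c⁻¹ : GL (Fin r.natDegree) K) : Matrix (Fin r.natDegree) (Fin r.natDegree) K)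
  refine ⟨C1 * M * C2, orderOf w, hcop, ?_, ?_, ?_⟩
  · have : ∀ k, (C1 * M * C2) ^ k = C1 * M ^ k * C2 := fun k => by
      induction k with
      | zero => rw [pow_zero, pow_zero, mul_one]; exact c.mul_inv.symm
      | succ k ih =>
        rw [pow_succ, ih, pow_succ]
        calc C1 * M ^ k * C2 * (C1 * M * C2) = C1 * M ^ k * (C2 * C1) * M * C2 := by simp only [mul_assoc]
          _ = _ := by rw [show C2 * C1 = 1 from c.inv_mul, mul_one]; simp only [mul_assoc]
    rw [this, hMm, mul_one]; exact c.mul_inv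
  · rw [tstar_mul, tstar_mul]
    calc tstar hK C2 * (tstar hK M * tstar hK C1) * (C1 * M * C2)
        = tstar hK C2 * (tstar hK M * (tstar hK C1 * C1) * M) * C2 := by simp only [mul_assoc]
      _ = tstar hK C2 * (Z * z) * C2 := by
          congr 2
          rw [hc]
          show tstar hK M * (Z * z) * M = Z * z
          rw [mul_assoc, mul_assoc Z, ((memS z).1 hzS).eq, ← mul_assoc Z, ← mul_assoc, ← mul_assoc, hform]
      _ = (tstar hK C2 * tstar hK C1) * (C1 * C2) := by
          rw [show Z * z = (H : Matrix (Fin r.natDegree) (Fin r.natDegree) K) from rfl, ← hc]; simp only [C1, mul_assoc]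
      _ = 1 := by rw [← tstar_mul, show C1 * C2 = 1 from c.mul_inv, tstar_one, one_mul]
  · show ((c : Matrix (Fin r.natDegree) (Fin r.natDegree) K) * M * ((c⁻¹ : GL (Fin r.natDegree) K) : Matrix (Fin r.natDegree) (Fin r.natDegree) K)).charpoly = r
    rw [Matrix.coe_units_inv, Matrix.charpoly_units_conj, hMc]

include p in
theorem exists_unitary : ∀ (n : ℕ) (P : K[X]), P.Monic → P.natDegree = n → P.coeff 0 ≠ 0 → dual hK P = P →
    ∃ (M : Matrix (Fin n) (Fin n) K) (m : ℕ), m.Coprime p ∧ M ^ m = 1 ∧ tstar hK M * M = 1 ∧ M.charpoly = P := by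
  classical
  intro n
  induction n using Nat.strong_induction_on with
  | _ n ih =>
    intro P hP hn h0 hdual
    rcases Nat.eq_zero_or_pos n with e | e
    · subst e
      refine ⟨1, 1, Nat.coprime_one_left p, one_pow 1, by rw [tstar_one, mul_one], ?_⟩
      rw [Matrix.charpoly_isEmpty, eq_one_of_monic_natDegree_zero hP hn]
    obtain ⟨f, hfm, hf, t, ht⟩ := exists_monic_irreducible_factor P (fun h => by
      have := natDegree_eq_zero_of_isUnit h; omega)
    have hf0 : f.coeff 0 ≠ 0 := fun h => h0 (by rw [ht, mul_coeff_zero, h, zero_mul])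
    have hfd : dual hK f ∣ P := ⟨dual hK t, by rw [← dual_mul, ← ht, hdual]⟩
    -- a squarefree self-dual factor
    obtain ⟨r, hrm, hrsq, hrpos, hrd, s, hs⟩ : ∃ r : K[X], r.Monic ∧ Squarefree r ∧ 0 < r.natDegree ∧
        dual hK r = r ∧ r ∣ P := by
      by_cases hff : dual hK f = f
      · exact ⟨f, hfm, hf.squarefree, hf.natDegree_pos, hff, ⟨t, ht⟩⟩
      · have hcp : IsRelPrime f (dual hK f) := hf.isRelPrime_iff_not_dvd.2 fun h => hff
          (eq_of_monic_of_associated hfm (monic_dual hK hf0)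
            (hf.associated_of_dvd (irreducible_dual hK hfm hf hf0) h)).symm
        refine ⟨f * dual hK f, hfm.mul (monic_dual hK hf0),
          (squarefree_mul_iff).2 ⟨hcp, hf.squarefree, (irreducible_dual hK hfm hf hf0).squarefree⟩, ?_, ?_,
          hcp.mul_dvd ⟨t, ht⟩ hfd⟩
        · rw [hfm.natDegree_mul (monic_dual hK hf0)]; have := hf.natDegree_pos; omega
        · rw [dual_mul, dual_dual hK hfm hf0, mul_comm]
    have hsm : s.Monic := hrm.of_mul_monic_left (hs ▸ hP)
    have hd : n = r.natDegree + s.natDegree := by rw [← hn, hs, hrm.natDegree_mul hsm]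
    have hc : r.coeff 0 ≠ 0 ∧ s.coeff 0 ≠ 0 := by
      rw [hs, mul_coeff_zero] at h0
      exact mul_ne_zero_iff.1 h0
    have hsd : dual hK s = s := mul_left_cancel₀ hrm.ne_zero (by
      conv_lhs => rw [← hrd]
      rw [← dual_mul, ← hs, hdual])
    obtain ⟨A, a, ha, hA, hAu, hAc⟩ := realizes_squarefree hK p r hrm hrsq hc.1 hrd
    obtain ⟨B, b, hb, hB, hBu, hBc⟩ := ih s.natDegree (by omega) s hsm rfl hc.2 hsd
    let e' : Fin r.natDegree ⊕ Fin s.natDegree ≃ Fin n := finSumFinEquiv.trans (finCongr hd.symm)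
    refine ⟨Matrix.reindexAlgEquiv K K e' (Matrix.fromBlocks A 0 0 B), a * b, Nat.Coprime.mul_left ha hb, ?_, ?_, ?_⟩
    · rw [← map_pow, Matrix.fromBlocks_diagonal_pow, pow_mul, hA, one_pow, mul_comm a b, pow_mul, hB, one_pow,
        Matrix.fromBlocks_one, map_one]
    · have h1 : tstar hK (Matrix.reindexAlgEquiv K K e' (Matrix.fromBlocks A 0 0 B)) =
          Matrix.reindexAlgEquiv K K e' (Matrix.fromBlocks (tstar hK A) 0 0 (tstar hK B)) := by
        simp only [Matrix.coe_reindexAlgEquiv, tstar, Matrix.reindex_apply]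
        ext i k
        simp only [Matrix.transpose_apply, Matrix.map_apply, Matrix.submatrix_apply]
        rcases e'.symm i with i' | i' <;> rcases e'.symm k with k' | k' <;> simp
      rw [h1, ← map_mul, Matrix.fromBlocks_multiply, hAu, hBu]
      simp
    · rw [Matrix.coe_reindexAlgEquiv, Matrix.charpoly_reindex, Matrix.charpoly_fromBlocks_zero₁₂, hAc, hBc, ← hs]

/-- Semilinear involutions have `q ^ k` fixed vectors on `K ^ k`. -/
theorem card_fixed {k : ℕ} (τ : (Fin k → K) → (Fin k → K)) (hadd : ∀ a b, τ (a + b) = τ a + τ b)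
    (hsmul : ∀ (c : K) a, τ (c • a) = qHom hK c • τ a) (hττ : ∀ a, τ (τ a) = a) :
    Nat.card {v : Fin k → K // τ v = v} = q ^ k := by
  classical
  obtain ⟨θ, hθ⟩ := exists_moved hK
  have hθ' : θ - qHom hK θ ≠ 0 := sub_ne_zero.2 (Ne.symm hθ)
  set W := {v : Fin k → K // τ v = v}
  have hsub : ∀ a b, τ (a - b) = τ a - τ b := fun a b => by
    rw [eq_sub_iff_add_eq, ← hadd, sub_add_cancel]
  let Φ : W × W → (Fin k → K) := fun w => w.1.1 + θ • w.2.1
  have hτΦ : ∀ w : W × W, τ (Φ w) = w.1.1 + qHom hK θ • w.2.1 := fun w => by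
    rw [hadd, hsmul, w.1.2, w.2.2]
  have hinj : Function.Injective Φ := fun w w' h => by
    have h1 := congrArg τ h
    rw [hτΦ, hτΦ] at h1
    have h2 : w.1.1 + θ • w.2.1 = w'.1.1 + θ • w'.2.1 := h
    have h3 : (θ - qHom hK θ) • (w.2.1 - w'.2.1) = 0 := by
      have := sub_eq_zero.2 (show (w.1.1 + θ • w.2.1) - (w.1.1 + qHom hK θ • w.2.1) =
        (w'.1.1 + θ • w'.2.1) - (w'.1.1 + qHom hK θ • w'.2.1) by rw [h1, h2])
      rw [← this]; module
    have h4 : w.2 = w'.2 := Subtype.ext (sub_eq_zero.1 ((smul_eq_zero.1 h3).resolve_left hθ'))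
    rw [h4] at h2
    exact Prod.ext (Subtype.ext (add_right_cancel h2)) h4
  have hsurj : Function.Surjective Φ := fun v => by
    set b := (θ - qHom hK θ)⁻¹ • (v - τ v) with hb
    have hbW : τ b = b := by
      rw [hb, hsmul, hsub, hττ, map_inv₀, map_sub, qHom_qHom, ← neg_sub θ (qHom hK θ), inv_neg, neg_smul, ← smul_neg, neg_sub]
    have haW : τ (v - θ • b) = v - θ • b := by
      rw [hsub, hsmul, hbW]
      have : v - τ v = (θ - qHom hK θ) • b := by rw [hb, smul_smul, mul_inv_cancel₀ hθ', one_smul]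
      rw [sub_smul] at this
      have h5 : τ v = v - (θ • b - qHom hK θ • b) := by rw [← this, sub_sub_cancel]
      rw [h5]; abel
    exact ⟨(⟨_, haW⟩, ⟨_, hbW⟩), sub_add_cancel v _⟩
  have h := Nat.card_congr (Equiv.ofBijective Φ ⟨hinj, hsurj⟩)
  rw [Nat.card_prod, Nat.card_fun, Nat.card_eq_fintype_card (α := K), Nat.card_fin, hK, ← pow_mul, mul_comm 2 k, pow_mul,
    ← sq] at h
  exact Nat.pow_left_injective two_ne_zero h

include hK p in
/-- Semisimple classes of `SU`. -/
theorem card_su {n : ℕ} (hn : 1 ≤ n) :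
    Nat.card {c : ConjClasses ↥(Cfsg.SU n K q) //
      ∃ g : ↥(Cfsg.SU n K q), ConjClasses.mk g = c ∧ (orderOf g).Coprime p} = q ^ (n - 1) := by
  classical
  obtain ⟨k, rfl⟩ : ∃ k, n = k + 1 := ⟨n - 1, by omega⟩
  rw [show k + 1 - 1 = k from rfl]
  let e0 : K := (-1) ^ (k + 1)
  have he : e0 * e0 = 1 := by rw [← mul_pow]; simp
  have he0 : qHom hK e0 = e0 := by simp only [e0, map_pow, map_neg, map_one]
  have hinv : e0⁻¹ = e0 := inv_eq_of_mul_eq_one_right he
  let τ : (Fin k → K) → (Fin k → K) := fun v i => e0 * qHom hK (v i.rev)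
  have hcard : Nat.card {v : Fin k → K // τ v = v} = q ^ k :=
    card_fixed hK τ (fun a b => funext fun i => by simp only [τ, Pi.add_apply, map_add, mul_add])
      (fun c a => funext fun i => by simp only [τ, Pi.smul_apply, smul_eq_mul, map_mul]; ring)
      (fun a => funext fun i => by
        simp only [τ, map_mul, qHom_qHom, he0, Fin.rev_rev, ← mul_assoc, he, one_mul])
  rw [← hcard]
  symm
  let P : (Fin k → K) → K[X] := fun v => (SemisimpleClasses.monicEquiv K (k + 1) (Fin.cons e0 v)).1
  have hPm : ∀ v, (P v).Monic ∧ (P v).natDegree = k + 1 := fun v =>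
    (SemisimpleClasses.monicEquiv K (k + 1) (Fin.cons e0 v)).2
  have hPc : ∀ v (i : Fin (k + 1)), (P v).coeff (i : ℕ) = (Fin.cons e0 v : Fin (k + 1) → K) i := fun v i =>
    congrFun ((SemisimpleClasses.monicEquiv K (k + 1)).symm_apply_apply (Fin.cons e0 v)) i
  have hPself : ∀ v, τ v = v → dual hK (P v) = P v := fun v hv => by
    have h0 : (P v).coeff 0 = e0 := by simpa using hPc v 0
    have h00 : (P v).coeff 0 ≠ 0 := by rw [h0]; exact fun e => one_ne_zero (he.symm.trans (by rw [e, zero_mul]))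
    ext i
    by_cases hi : i ≤ k + 1
    · rw [coeff_dual hK _ (by rw [(hPm v).2]; exact hi), h0, he0, hinv, (hPm v).2]
      rcases Nat.eq_zero_or_pos i with rfl | hi0
      · rw [Nat.sub_zero, h0]
        have := (hPm v).1.coeff_natDegree
        rw [(hPm v).2] at this
        rw [this, map_one, mul_one]
      rcases eq_or_lt_of_le hi with rfl | hlt
      · rw [Nat.sub_self, h0, he0, he]
        have := (hPm v).1.coeff_natDegree
        rw [(hPm v).2] at this
        exact this.symm
      let j : Fin k := ⟨i - 1, by omega⟩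
      have h1 : (P v).coeff i = v j := by
        have := hPc v j.succ
        rwa [Fin.cons_succ, Fin.val_succ, show (j : ℕ) + 1 = i by simp only [j]; omega] at this
      have h2 : (P v).coeff (k + 1 - i) = v j.rev := by
        have := hPc v j.rev.succ
        rwa [Fin.cons_succ, Fin.val_succ, Fin.val_rev, show k - ((j : ℕ) + 1) + 1 = k + 1 - i by simp only [j]; omega] at this
      rw [h1, h2]
      exact congrFun hv j
    · rw [coeff_eq_zero_of_natDegree_lt (by rw [natDegree_dual hK h00, (hPm v).2]; omega),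
        coeff_eq_zero_of_natDegree_lt (by rw [(hPm v).2]; omega)]
  have hex : ∀ v : {v : Fin k → K // τ v = v}, ∃ g : ↥(Cfsg.SU (k + 1) K q), (orderOf g).Coprime p ∧
      ((g : Matrix.SpecialLinearGroup (Fin (k + 1)) K) : Matrix (Fin (k + 1)) (Fin (k + 1)) K).charpoly = P v.1 := by
    intro v
    have h0 : (P v.1).coeff 0 = e0 := by simpa using hPc v.1 0
    obtain ⟨M, m, hm, hMm, hMu, hMc⟩ := exists_unitary hK p (k + 1) (P v.1) (hPm _).1 (hPm _).2
      (by rw [h0]; exact fun e => one_ne_zero (he.symm.trans (by rw [e, zero_mul]))) (hPself v.1 v.2)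
    have hdet : M.det = 1 := by
      rw [Matrix.det_eq_sign_charpoly_coeff, hMc, h0, Fintype.card_fin]
      exact he
    let g0 : Matrix.SpecialLinearGroup (Fin (k + 1)) K := ⟨M, hdet⟩
    have hU := (mem_GU_iff hK (Matrix.SpecialLinearGroup.toGL g0)).2 hMu
    let g : ↥(Cfsg.SU (k + 1) K q) := ⟨g0, fun a b => hU a b⟩
    have hgm : g ^ m = 1 := by
      apply Subtype.ext
      apply Subtype.ext
      rw [SubmonoidClass.coe_pow, Matrix.SpecialLinearGroup.coe_pow]
      exact hMm
    exact ⟨g, Nat.Coprime.of_dvd_left (orderOf_dvd_of_pow_eq_one hgm) hm, hMc⟩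
  choose g hg hgc using hex
  refine Nat.card_congr (Equiv.ofBijective (fun c => ⟨ConjClasses.mk (g c), g c, rfl, hg c⟩) ⟨fun c c' e => ?_, ?_⟩)
  · have hh := (((Matrix.SpecialLinearGroup.toGL).comp (Cfsg.SU (k + 1) K q).subtype).map_isConj
      (ConjClasses.mk_eq_mk_iff_isConj.1 (congrArg Subtype.val e)))
    obtain ⟨x, hx⟩ := isConj_iff.1 hh
    have h1 := congrArg (fun a : GL (Fin (k + 1)) K => (a : Matrix (Fin (k + 1)) (Fin (k + 1)) K).charpoly) hx
    simp only [Units.val_mul, Matrix.coe_units_inv, Matrix.charpoly_units_conj] at h1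
    change ((g c : Matrix.SpecialLinearGroup (Fin (k + 1)) K) : Matrix (Fin (k + 1)) (Fin (k + 1)) K).charpoly =
      ((g c' : Matrix.SpecialLinearGroup (Fin (k + 1)) K) : Matrix (Fin (k + 1)) (Fin (k + 1)) K).charpoly at h1
    rw [hgc, hgc] at h1
    have h2 := (SemisimpleClasses.monicEquiv K (k + 1)).injective (Subtype.ext h1)
    exact Subtype.ext (Fin.cons_right_injective (α := fun _ : Fin (k + 1) => K) e0 h2)
  · rintro ⟨_, h, rfl, hh⟩
    set H : Matrix (Fin (k + 1)) (Fin (k + 1)) K :=
      ((h : Matrix.SpecialLinearGroup (Fin (k + 1)) K) : Matrix (Fin (k + 1)) (Fin (k + 1)) K) with hH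
    have hmon : H.charpoly.Monic := Matrix.charpoly_monic _
    have hdeg : H.charpoly.natDegree = k + 1 := by rw [Matrix.charpoly_natDegree_eq_dim, Fintype.card_fin]
    have hHu : tstar hK H * H = 1 :=
      (mem_GU_iff hK (Matrix.SpecialLinearGroup.toGL (h : Matrix.SpecialLinearGroup (Fin (k + 1)) K))).1 h.2
    have hdual : dual hK H.charpoly = H.charpoly :=
      (charpoly_inv_tstar hK H H (mul_eq_one_comm.1 hHu)).symm
    have hc0 : H.charpoly.coeff 0 = e0 := by
      have h1 := Matrix.det_eq_sign_charpoly_coeff H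
      rw [show H.det = 1 from (h : Matrix.SpecialLinearGroup (Fin (k + 1)) K).2, Fintype.card_fin] at h1
      calc H.charpoly.coeff 0 = e0 * (e0 * H.charpoly.coeff 0) := by rw [← mul_assoc, he, one_mul]
        _ = e0 := by rw [show e0 * H.charpoly.coeff 0 = 1 from h1.symm, mul_one]
    let v : Fin k → K := fun i => H.charpoly.coeff ((i : ℕ) + 1)
    have hv : τ v = v := funext fun i => by
      have h1 := congrArg (fun Q : K[X] => Q.coeff ((i : ℕ) + 1)) hdual
      rw [coeff_dual hK _ (by rw [hdeg]; omega), hc0, he0, hinv, hdeg] at h1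
      show e0 * qHom hK (H.charpoly.coeff ((i.rev : ℕ) + 1)) = _
      rw [Fin.val_rev, show k - ((i : ℕ) + 1) + 1 = k + 1 - ((i : ℕ) + 1) by omega]
      exact h1
    have hPv : P v = H.charpoly := by
      have h1 : (Fin.cons e0 v : Fin (k + 1) → K) = (SemisimpleClasses.monicEquiv K (k + 1)).symm ⟨_, hmon, hdeg⟩ := by
        funext i
        refine Fin.cases ?_ (fun j => ?_) i
        · exact hc0.symm
        · rw [Fin.cons_succ]; rfl
      show (SemisimpleClasses.monicEquiv K (k + 1) (Fin.cons e0 v)).1 = _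
      rw [h1, Equiv.apply_symm_apply]
    refine ⟨⟨v, hv⟩, Subtype.ext (ConjClasses.mk_eq_mk_iff_isConj.2
      (UnitarySemisimpleConj.isConj_SU hK p _ _ (hg _) hh ?_))⟩
    rw [hgc]
    exact hPv

end Cfsg.Agent.Lib.Classical.UnitarySemisimpleClasses
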