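import Cfsg.Agent.Lib.UnitaryConj
import Cfsg.Agent.Lib.GLn.SemisimpleCharpoly

/-! Conjugacy of semisimple elements in unitary groups is decided by the characteristic polynomial. -/

set_option autoImplicit false

namespace Cfsg.Agent.Lib.Classical.UnitarySemisimpleConj

open Polynomial Cfsg.Agent.Lib.UnitaryConj Cfsg.Agent.Lib.GLn.SemisimpleCharpoly
open scoped Matrix

universe u v

variable {K : Type u} [Field K] [Fintype K]

/-- On an irreducible module, polynomials in `T` have every determinant. -/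
theorem exists_det_aeval {V : Type v} [AddCommGroup V] [Module K V] [FiniteDimensional K V] [Nontrivial V]
    (T : Module.End K V) (hss : T.IsSemisimple)
    (hirr : ∀ U ∈ T.invtSubmodule, U = ⊥ ∨ U = ⊤) (lam : K) :
    ∃ a : K[X], LinearMap.det (aeval T a) = lam := by
  classical
  obtain ⟨f, v, hfm, hf, hv0, hv⟩ := exists_vec_of_minpoly T
  obtain ⟨U, hU, Φ, hΦ, -, -, hdim⟩ := split_cyclic T hss f hfm hf v hv0 hv
  haveI : Fact (Irreducible f) := ⟨hf⟩
  haveI : Module.Finite K (AdjoinRoot f) := (AdjoinRoot.powerBasis hf.ne_zero).finite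
  have hUbot : U = ⊥ := (hirr U hU).resolve_right fun h => by
    rw [h, finrank_top] at hdim
    have := hf.natDegree_pos
    omega
  haveI : Subsingleton U := by rw [hUbot]; infer_instance
  haveI : Finite (AdjoinRoot f) := Module.finite_of_finite K
  obtain ⟨e, he⟩ := FiniteField.norm_surjective (K := K) (K' := AdjoinRoot f) lam
  obtain ⟨a, rfl⟩ := AdjoinRoot.mk_surjective (g := f) e
  refine ⟨a, ?_⟩
  have key : ∀ b : K[X], ∀ x : AdjoinRoot f × U, aeval T b (Φ x) = Φ (AdjoinRoot.mk f b * x.1, 0) := by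
    intro b
    induction b using Polynomial.induction_on' with
    | add p p' hp hp' =>
      intro x
      rw [map_add, LinearMap.add_apply, hp, hp', ← map_add, map_add (AdjoinRoot.mk f), add_mul]
      simp
    | monomial k c =>
      intro x
      induction k generalizing x with
      | zero =>
        rw [monomial_zero_left, aeval_C, Module.algebraMap_end_apply, AdjoinRoot.mk_C, ← map_smul]
        congr 1
        exact Prod.ext (by simp [Algebra.smul_def, AdjoinRoot.algebraMap_eq]) (Subsingleton.elim _ _)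
      | succ k ih =>
        rw [← monomial_mul_X, map_mul, aeval_X, Module.End.mul_apply, hΦ, ih]
        congr 1
        refine Prod.ext ?_ rfl
        show AdjoinRoot.mk f (monomial k c) * (AdjoinRoot.root f * x.1) = _
        rw [map_mul, AdjoinRoot.mk_X, mul_assoc]
  have hconj : aeval T a = Φ.conj ((Algebra.lmul K (AdjoinRoot f) (AdjoinRoot.mk f a)).prodMap LinearMap.id) := by
    refine LinearMap.ext fun y => ?_
    obtain ⟨x, rfl⟩ := Φ.surjective y
    rw [key, LinearEquiv.conj_apply_apply, Φ.symm_apply_apply]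
    exact congrArg Φ (Prod.ext rfl (Subsingleton.elim _ _))
  rw [hconj, LinearEquiv.conj_apply, LinearMap.comp_assoc, LinearMap.det_conj, LinearMap.det_prodMap,
    LinearMap.det_id, mul_one]
  exact (Algebra.norm_apply K _).symm.trans he

variable {q n : ℕ}

/-- The hermitian form, linear in the second argument. -/
def B (hK : Fintype.card K = q ^ 2) (u v : Fin n → K) : K := (fun i => qHom hK (u i)) ⬝ᵥ v

variable (hK : Fintype.card K = q ^ 2)

theorem B_symm (u v : Fin n → K) : B hK v u = qHom hK (B hK u v) := by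
  simp only [B, dotProduct, map_sum, map_mul, qHom_qHom, mul_comm]

theorem B_adj (A : Matrix (Fin n) (Fin n) K) (u v : Fin n → K) :
    B hK (A *ᵥ u) v = B hK u (tstar hK A *ᵥ v) := by
  have h : (fun i => qHom hK ((A *ᵥ u) i)) = A.map (qHom hK) *ᵥ (fun i => qHom hK (u i)) :=
    funext fun i => RingHom.map_mulVec (qHom hK) _ _ i
  rw [B, B, h, tstar, Matrix.dotProduct_mulVec, Matrix.vecMul_transpose]

theorem B_single (i : Fin n) (v : Fin n → K) : B hK (Pi.single i 1) v = v i := by
  have h : (fun k => qHom hK ((Pi.single i 1 : Fin n → K) k)) = Pi.single i 1 := by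
    funext k; by_cases h : k = i <;> simp [Pi.single_apply, h]
  rw [B, h, single_dotProduct, one_mul]

/-- The orthogonal of a submodule. -/
def orth (R : Submodule K (Fin n → K)) : Submodule K (Fin n → K) where
  carrier := {v | ∀ u ∈ R, B hK u v = 0}
  add_mem' := fun {a b} ha hb u hu => by rw [B, dotProduct_add]; exact (congrArg₂ (· + ·) (ha u hu) (hb u hu)).trans (add_zero _)
  zero_mem' := fun u _ => by rw [B, dotProduct_zero]
  smul_mem' := fun c a ha u hu => by rw [B, dotProduct_smul, smul_eq_mul]; exact mul_eq_zero_of_right _ (ha u hu)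

theorem mem_orth {R : Submodule K (Fin n → K)} {v : Fin n → K} : v ∈ orth hK R ↔ ∀ u ∈ R, B hK u v = 0 := Iff.rfl

theorem finrank_orth (R : Submodule K (Fin n → K)) :
    Module.finrank K R + Module.finrank K (orth hK R) = n := by
  classical
  let R' : Submodule K (Fin n → K) :=
    { carrier := {w | (fun i => qHom hK (w i)) ∈ R}
      add_mem' := fun {a b} ha hb => by
        show (fun i => qHom hK (a i + b i)) ∈ R
        simp only [map_add]; exact R.add_mem ha hb
      zero_mem' := by
        show (fun i => qHom hK (0 : K)) ∈ R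
        simp only [map_zero]; exact R.zero_mem
      smul_mem' := fun c a ha => by
        show (fun i => qHom hK (c * a i)) ∈ R
        simp only [map_mul]; exact R.smul_mem (qHom hK c) ha }
  have hR : Module.finrank K R' = Module.finrank K R := by
    let e : R' ≃ R :=
      ⟨fun w => ⟨_, w.2⟩, fun u => ⟨fun i => qHom hK (u.1 i), by
          show (fun i => qHom hK (qHom hK (u.1 i))) ∈ R
          simp only [qHom_qHom]; exact u.2⟩,
        fun w => Subtype.ext (funext fun i => qHom_qHom hK _), fun u => Subtype.ext (funext fun i => qHom_qHom hK _)⟩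
    have h : Nat.card R' = Nat.card R := Nat.card_congr e
    rw [Module.natCard_eq_pow_finrank (K := K) (V := R'), Module.natCard_eq_pow_finrank (K := K) (V := R)] at h
    exact Nat.pow_right_injective (a := Nat.card K) Finite.one_lt_card h
  let β : LinearMap.BilinForm K (Fin n → K) := Matrix.toBilin' (1 : Matrix (Fin n) (Fin n) K)
  have hβ : ∀ u v, β u v = u ⬝ᵥ v := fun u v => by
    rw [Matrix.toBilin'_apply', Matrix.one_mulVec]
  have ho : orth hK R = β.orthogonal R' := by
    ext v
    rw [mem_orth, LinearMap.BilinForm.mem_orthogonal_iff]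
    refine ⟨fun h w hw => ?_, fun h u hu => ?_⟩
    · show β w v = 0
      rw [hβ]
      have := h _ hw
      simpa only [B, qHom_qHom] using this
    · have h1 := h (fun i => qHom hK (u i)) (show (fun i => qHom hK (qHom hK (u i))) ∈ R by
        simp only [qHom_qHom]; exact hu)
      change β _ v = 0 at h1
      rwa [hβ] at h1
  have hnd : β.Nondegenerate := Matrix.Nondegenerate.toBilin' (Matrix.nondegenerate_of_det_ne_zero (by simp))
  rw [ho, LinearMap.BilinForm.finrank_orthogonal hnd, hR, Module.finrank_fin_fun]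
  have := Submodule.finrank_le R
  rw [Module.finrank_fin_fun] at this
  omega

theorem orth_invt (G : Matrix (Fin n) (Fin n) K) (hG : tstar hK G * G = 1) (R : Submodule K (Fin n → K))
    (hR : R ∈ Module.End.invtSubmodule (Matrix.toLin' G)) : orth hK R ∈ Module.End.invtSubmodule (Matrix.toLin' G) := by
  intro v hv
  show Matrix.toLin' G v ∈ orth hK R
  rw [Matrix.toLin'_apply, mem_orth]
  intro u hu
  -- `G` is bijective on `R`
  have hinj : Function.Injective (fun x : R => (⟨G *ᵥ x.1, by have := hR x.2; simpa [Matrix.toLin'_apply] using this⟩ : R)) := by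
    intro x y h
    have h1 := congrArg (fun z : R => tstar hK G *ᵥ z.1) h
    simp only [Matrix.mulVec_mulVec, hG, Matrix.one_mulVec] at h1
    exact Subtype.ext h1
  obtain ⟨⟨w, hw⟩, hwu⟩ := Finite.surjective_of_injective hinj ⟨u, hu⟩
  have hwu' : G *ᵥ w = u := congrArg Subtype.val hwu
  rw [← hwu', B_adj, Matrix.mulVec_mulVec, hG, Matrix.one_mulVec]
  exact hv w hw

/-- The invariant submodules `R`, `C` needed for the determinant. -/
theorem exists_pair (hn : 1 ≤ n) (G : Matrix (Fin n) (Fin n) K) (hG : tstar hK G * G = 1)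
    (hss : Module.End.IsSemisimple (Matrix.toLin' G)) :
    ∃ R C : Submodule K (Fin n → K), R ∈ Module.End.invtSubmodule (Matrix.toLin' G) ∧ C ∈ Module.End.invtSubmodule (Matrix.toLin' G) ∧
      IsCompl R C ∧ R ≠ ⊥ ∧ (∀ U ∈ Module.End.invtSubmodule (Matrix.toLin' G), U ≤ R → U = ⊥ ∨ U = R) ∧
      (C = orth hK R ∨ (R ≤ orth hK R ∧ orth hK C ≤ C)) := by
  classical
  haveI : Nonempty (Fin n) := ⟨⟨0, hn⟩⟩
  -- an irreducible invariant submodule
  set P : ℕ → Prop := fun d => ∃ U ∈ Module.End.invtSubmodule (Matrix.toLin' G), U ≠ ⊥ ∧ Module.finrank K U = d with hP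
  have hex : ∃ d, P d := ⟨_, ⊤, fun x _ => trivial, top_ne_bot, rfl⟩
  obtain ⟨R0, hR0i, hR0, hR0d⟩ := Nat.find_spec hex
  have hirr0 : ∀ U ∈ Module.End.invtSubmodule (Matrix.toLin' G), U ≤ R0 → U = ⊥ ∨ U = R0 := by
    intro U hU hUR
    by_cases hUb : U = ⊥
    · exact Or.inl hUb
    · refine Or.inr (Submodule.eq_of_le_of_finrank_le hUR ?_)
      rw [hR0d]
      exact Nat.find_le ⟨U, hU, hUb, rfl⟩
  have hnd : ∀ R : Submodule K (Fin n → K), R ⊓ orth hK R = ⊥ → IsCompl R (orth hK R) := fun R h => by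
    refine ⟨disjoint_iff.2 h, codisjoint_iff.2 (Submodule.eq_top_of_finrank_eq ?_)⟩
    have h1 := Submodule.finrank_sup_add_finrank_inf_eq R (orth hK R)
    rw [h, finrank_bot, finrank_orth hK R] at h1
    rw [Module.finrank_fin_fun]; omega
  have hinv : ∀ U U' : Submodule K (Fin n → K), U ∈ Module.End.invtSubmodule (Matrix.toLin' G) →
      U' ∈ Module.End.invtSubmodule (Matrix.toLin' G) → U ⊓ U' ∈ Module.End.invtSubmodule (Matrix.toLin' G) :=
    fun U U' h h' x hx => ⟨h hx.1, h' hx.2⟩
  rcases hirr0 _ (hinv _ _ hR0i (orth_invt hK G hG R0 hR0i)) inf_le_left with h | h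
  · exact ⟨R0, orth hK R0, hR0i, orth_invt hK G hG R0 hR0i, hnd R0 h, hR0, hirr0, Or.inl rfl⟩
  -- totally isotropic case
  have hiso : R0 ≤ orth hK R0 := inf_eq_left.1 h
  obtain ⟨W, hWi, hW⟩ := Module.End.isSemisimple_iff.1 hss _ (orth_invt hK G hG R0 hR0i)
  have hWd : Module.finrank K W = Module.finrank K R0 := by
    have h1 := Submodule.finrank_add_eq_of_isCompl hW
    have h2 := finrank_orth hK R0
    rw [Module.finrank_fin_fun] at h1; omega
  have hRW : ∀ U ∈ Module.End.invtSubmodule (Matrix.toLin' G), U ≤ W → U ≠ ⊥ → R0 ⊓ orth hK U = ⊥ := by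
    intro U hU hUW hUb
    refine (hirr0 _ (hinv _ _ hR0i (orth_invt hK G hG U hU)) inf_le_left).resolve_right fun hh => hUb ?_
    rw [eq_bot_iff]
    intro u hu
    have h1 : u ∈ orth hK R0 := fun x hx => by
      rw [B_symm hK u x, (inf_eq_left.1 hh) hx u hu, map_zero]
    exact hW.disjoint.le_bot ⟨h1, hUW hu⟩
  have hWirr : ∀ U ∈ Module.End.invtSubmodule (Matrix.toLin' G), U ≤ W → U = ⊥ ∨ U = W := by
    intro U hU hUW
    by_cases hUb : U = ⊥
    · exact Or.inl hUb
    · refine Or.inr (Submodule.eq_of_le_of_finrank_le hUW ?_)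
      have h1 := Submodule.finrank_sup_add_finrank_inf_eq R0 (orth hK U)
      rw [hRW U hU hUW hUb, finrank_bot] at h1
      have h2 := finrank_orth hK U
      have h3 := Submodule.finrank_le (R0 ⊔ orth hK U)
      rw [Module.finrank_fin_fun] at h3
      omega
  have hWb : W ≠ ⊥ := fun hh => hR0 (Submodule.finrank_eq_zero.1 (by rw [← hWd, hh, finrank_bot]))
  rcases hWirr _ (hinv _ _ hWi (orth_invt hK G hG W hWi)) inf_le_left with h' | h'
  · exact ⟨W, orth hK W, hWi, orth_invt hK G hG W hWi, hnd W h', hWb, hWirr, Or.inl rfl⟩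
  have hcompl : IsCompl R0 (orth hK W) := by
    have h0 := hRW W hWi le_rfl hWb
    refine ⟨disjoint_iff.2 h0, codisjoint_iff.2 (Submodule.eq_top_of_finrank_eq ?_)⟩
    have h1 := Submodule.finrank_sup_add_finrank_inf_eq R0 (orth hK W)
    rw [h0, finrank_bot, ← hWd, finrank_orth hK W] at h1
    rw [Module.finrank_fin_fun]; omega
  refine ⟨R0, orth hK W, hR0i, orth_invt hK G hG W hWi, hcompl, hR0, hirr0, Or.inr ⟨hiso, ?_⟩⟩
  have hoo : orth hK (orth hK W) = W := by
    refine (Submodule.eq_of_le_of_finrank_le (fun w hw => ?_) ?_).symm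
    · intro x hx
      rw [B_symm hK w x, hx w hw, map_zero]
    · have h1 := finrank_orth hK W
      have h2 := finrank_orth hK (orth hK W)
      omega
  rw [hoo]
  exact inf_eq_left.1 h'

theorem det_tstar (A : Matrix (Fin n) (Fin n) K) : (tstar hK A).det = qHom hK A.det := by
  rw [tstar, Matrix.det_transpose, RingHom.map_det]
  rfl

include hK in
theorem exists_eq_pow (e : K) (he : e ^ (q + 1) = 1) : ∃ d : K, d ≠ 0 ∧ e * d ^ q = d := by
  classical
  have he0 : e ≠ 0 := fun h => by rw [h, zero_pow (by omega)] at he; exact zero_ne_one he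
  obtain ⟨ζ, hζ⟩ := IsCyclic.exists_generator (α := Kˣ)
  obtain ⟨i, -, hi⟩ := (isOfFinOrder_of_finite ζ).mem_zpowers_iff_mem_range_orderOf.1 (hζ (Units.mk0 e he0)) |>
    fun h => by simpa [Finset.mem_range] using h
  have ho : orderOf ζ = q ^ 2 - 1 := by
    rw [orderOf_eq_card_of_forall_mem_zpowers hζ, Nat.card_eq_fintype_card, Fintype.card_units, hK]
  have hq : 2 ≤ q := by
    have := Fintype.one_lt_card (α := K)
    rw [hK] at this
    rcases q with _ | _ | q <;> simp_all
  have hdvd : q ^ 2 - 1 ∣ i * (q + 1) := by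
    rw [← ho, orderOf_dvd_iff_pow_eq_one, pow_mul, hi]
    exact Units.ext (by simp [he])
  obtain ⟨j, hj⟩ : q - 1 ∣ i := by
    rw [show q ^ 2 - 1 = (q - 1) * (q + 1) by rw [Nat.mul_comm, ← Nat.sq_sub_sq, one_pow]] at hdvd
    exact (Nat.mul_dvd_mul_iff_right (by omega)).1 hdvd
  refine ⟨((ζ ^ j)⁻¹ : Kˣ), Units.ne_zero _, ?_⟩
  have : (Units.mk0 e he0) * ((ζ ^ j)⁻¹) ^ q = (ζ ^ j)⁻¹ := by
    rw [← hi, inv_pow, mul_inv_eq_iff_eq_mul, eq_inv_mul_iff_mul_eq, ← pow_mul, ← pow_add, hj]
    congr 1
    obtain ⟨q', rfl⟩ : ∃ q', q = q' + 1 := ⟨q - 1, by omega⟩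
    rw [Nat.add_sub_cancel]; ring
  simpa using congrArg Units.val this

include hK in
/-- The centralizer of a semisimple unitary matrix has every norm-one determinant. -/
theorem exists_commute_det (hn : 1 ≤ n) (g : GL (Fin n) K) (hg : g ∈ Cfsg.GU n K q)
    (hss : Module.End.IsSemisimple (Matrix.toLin' (g : Matrix (Fin n) (Fin n) K)))
    (e : K) (he : e ^ (q + 1) = 1) :
    ∃ k : GL (Fin n) K, k ∈ Cfsg.GU n K q ∧ Commute k g ∧ (k : Matrix (Fin n) (Fin n) K).det = e := by
  classical
  set G : Matrix (Fin n) (Fin n) K := (g : Matrix (Fin n) (Fin n) K) with hGdef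
  have hG : tstar hK G * G = 1 := (mem_GU_iff hK g).1 hg
  have hG' : G * tstar hK G = 1 := mul_eq_one_comm.1 hG
  obtain ⟨d, hd0, hd⟩ := exists_eq_pow hK e he
  obtain ⟨R, C, hRi, hCi, hRC, hRb, hirr, hcase⟩ := exists_pair hK hn G hG hss
  -- determinant on `R`
  haveI : Nontrivial R := Submodule.nontrivial_iff_ne_bot.2 hRb
  obtain ⟨a, ha⟩ := exists_det_aeval ((Matrix.toLin' G).restrict hRi)
    (hss.restrict hRi) (fun U hU => by
      rcases hirr (U.map R.subtype) (fun x hx => by
          obtain ⟨u, hu, rfl⟩ := hx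
          exact ⟨_, hU hu, rfl⟩) (Submodule.map_subtype_le _ _) with h | h
      · exact Or.inl ((Submodule.map_injective_of_injective R.injective_subtype) (by rw [h, Submodule.map_bot]))
      · exact Or.inr ((Submodule.map_injective_of_injective R.injective_subtype) (by rw [h, Submodule.map_subtype_top]))) d
  -- the projection
  set P : Matrix (Fin n) (Fin n) K := LinearMap.toMatrix' (Submodule.projection R C hRC) with hPdef
  have hP : ∀ v, P *ᵥ v = (Submodule.projection R C hRC) v := fun v => LinearMap.toMatrix'_mulVec _ v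
  have hPR : ∀ v, v ∈ R → P *ᵥ v = v := fun v hv => by rw [hP]; exact Submodule.projection_apply_of_mem_left hRC hv
  have hPC : ∀ v, v ∈ C → P *ᵥ v = 0 := fun v hv => by rw [hP]; exact (Submodule.projection_apply_eq_zero_iff hRC).2 hv
  have hdec : ∀ v, ∃ r ∈ R, ∃ c ∈ C, r + c = v := fun v =>
    Submodule.mem_sup.1 (hRC.sup_eq_top ▸ Submodule.mem_top)
  have hPmem : ∀ v, P *ᵥ v ∈ R := fun v => by
    obtain ⟨r, hr, c, hc, rfl⟩ := hdec v
    rw [Matrix.mulVec_add, hPR r hr, hPC c hc, add_zero]; exact hr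
  have hGR : ∀ r ∈ R, G *ᵥ r ∈ R := fun r hr => by simpa [Matrix.toLin'_apply] using hRi hr
  have hGC : ∀ r ∈ C, G *ᵥ r ∈ C := fun r hr => by simpa [Matrix.toLin'_apply] using hCi hr
  have hPG : Commute P G := Matrix.ext_iff_mulVec.2 fun v => by
    obtain ⟨r, hr, c, hc, rfl⟩ := hdec v
    simp only [← Matrix.mulVec_mulVec, Matrix.mulVec_add, hPR r hr, hPC c hc, hPR _ (hGR r hr), hPC _ (hGC c hc),
      Matrix.mulVec_zero, add_zero]
  have hB0 : ∀ w : Fin n → K, (∀ u, B hK u w = 0) → w = 0 := fun w h => funext fun i => (B_single hK i w).symm.trans (h _)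
  have hPP : Commute P (tstar hK P) := by
    rcases hcase with hC | ⟨hR, hC⟩
    · have : tstar hK P = P := by
        refine Matrix.ext_iff_mulVec.2 fun v => ?_
        refine sub_eq_zero.1 (hB0 _ fun u => ?_)
        rw [B, dotProduct_sub, sub_eq_zero]
        show B hK u (tstar hK P *ᵥ v) = B hK u (P *ᵥ v)
        rw [← B_adj]
        obtain ⟨r, hr, c, hc, rfl⟩ := hdec u
        obtain ⟨r', hr', c', hc', rfl⟩ := hdec v
        rw [Matrix.mulVec_add, Matrix.mulVec_add, hPR r hr, hPC c hc, hPR r' hr', hPC c' hc', add_zero, add_zero]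
        have h1 : B hK r c' = 0 := (hC ▸ hc' : c' ∈ orth hK R) r hr
        have h2 : B hK c r' = 0 := by rw [B_symm hK r' c, (hC ▸ hc : c ∈ orth hK R) r' hr', map_zero]
        simp only [B, dotProduct, Pi.add_apply, map_add, mul_add, add_mul, Finset.sum_add_distrib] at h1 h2 ⊢
        rw [h1, h2]
      rw [this]
    · have h1 : tstar hK P * P = 0 := Matrix.ext_iff_mulVec.2 fun v => by
        rw [Matrix.zero_mulVec, ← Matrix.mulVec_mulVec]
        refine hB0 _ fun u => ?_
        rw [← B_adj]
        exact hR (hPmem v) _ (hPmem u)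
      have h2 : P * tstar hK P = 0 := Matrix.ext_iff_mulVec.2 fun v => by
        rw [Matrix.zero_mulVec, ← Matrix.mulVec_mulVec]
        refine hPC _ (hC ?_)
        intro u hu
        rw [← B_adj, hPC u hu, B]
        simp [dotProduct]
      exact h2.trans h1.symm
  have hPstarG : Commute (tstar hK P) (tstar hK G) := by
    show _ * _ = _ * _
    rw [← tstar_mul, ← tstar_mul, hPG.eq]
  have hGstar : ∀ M : Matrix (Fin n) (Fin n) K, Commute M G → Commute M (tstar hK G) := fun M hM => by
    show _ * _ = _ * _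
    calc M * tstar hK G = tstar hK G * G * (M * tstar hK G) := by rw [hG, one_mul]
      _ = tstar hK G * (M * G) * tstar hK G := by rw [hM.eq]; simp only [mul_assoc]
      _ = tstar hK G * M := by simp only [mul_assoc, hG', mul_one]
  have hPsG : Commute (tstar hK P) G := by
    show _ * _ = _ * _
    calc tstar hK P * G = G * tstar hK G * (tstar hK P * G) := by rw [hG', one_mul]
      _ = G * (tstar hK P * tstar hK G) * G := by rw [hPstarG.eq]; simp only [mul_assoc]
      _ = G * tstar hK P := by simp only [mul_assoc, hG, mul_one]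
  -- the element
  set A : Matrix (Fin n) (Fin n) K := aeval G a with hA
  set x : Matrix (Fin n) (Fin n) K := 1 - P + A * P with hx
  have hAc : ∀ M : Matrix (Fin n) (Fin n) K, Commute M G → Commute M A := fun M hM =>
    Algebra.commute_of_mem_adjoin_singleton_of_commute (Polynomial.aeval_mem_adjoin_singleton K G) hM
  have hxG : Commute x G :=
    ((Commute.one_left G).sub_left hPG).add_left (((hAc G (Commute.refl _)).symm).mul_left hPG)
  have hxsG : Commute (tstar hK x) G := by
    have h1 : Commute (tstar hK x) (tstar hK G) := by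
      show _ * _ = _ * _
      rw [← tstar_mul, ← tstar_mul, hxG.eq]
    show _ * _ = _ * _
    calc tstar hK x * G = G * tstar hK G * (tstar hK x * G) := by rw [hG', one_mul]
      _ = G * (tstar hK x * tstar hK G) * G := by rw [h1.eq]; simp only [mul_assoc]
      _ = G * tstar hK x := by simp only [mul_assoc, hG, mul_one]
  have hxx : Commute x (tstar hK x) := by
    -- everything lives in a commutative family
    have hs : tstar hK x + tstar hK P = 1 + tstar hK P * tstar hK A := by
      have h : x + P = 1 + A * P := by rw [hx]; abel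
      rw [← tstar_mul, ← tstar_add, h, tstar_add, tstar_one]
    have cP : Commute P (tstar hK x) := by
      have h1 : Commute P (tstar hK A) := by
        have := hAc (tstar hK P) hPsG
        show _ * _ = _ * _
        have h2 := congrArg (tstar hK) this.eq
        rw [tstar_mul, tstar_mul, tstar_tstar] at h2
        exact h2.symm
      rw [eq_sub_of_add_eq hs]
      exact ((Commute.one_right P).add_right (hPP.mul_right h1)).sub_right hPP
    have cA : Commute A (tstar hK x) := (hAc _ hxsG).symm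
    exact ((Commute.one_left _).sub_left cP).add_left (cA.mul_left cP)
  -- determinant of `x`
  have hdetx : x.det = d := by
    have hxR : ∀ r ∈ R, x *ᵥ r = A *ᵥ r := fun r hr => by
      rw [hx, Matrix.add_mulVec, Matrix.sub_mulVec, Matrix.one_mulVec, hPR r hr, sub_self, zero_add,
        ← Matrix.mulVec_mulVec, hPR r hr]
    have hxC : ∀ r ∈ C, x *ᵥ r = r := fun r hr => by
      rw [hx, Matrix.add_mulVec, Matrix.sub_mulVec, Matrix.one_mulVec, ← Matrix.mulVec_mulVec, hPC r hr,
        Matrix.mulVec_zero, add_zero, sub_zero]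
    have hAR : ∀ r : R, A *ᵥ (r : Fin n → K) = ((aeval ((Matrix.toLin' G).restrict hRi) a r : R) : Fin n → K) := by
      intro r
      rw [hA]
      clear ha hx hxR hxG hxsG hxx hxC hAc hA
      induction a using Polynomial.induction_on' generalizing r with
      | add p p' hp hp' =>
        rw [map_add, map_add, Matrix.add_mulVec, LinearMap.add_apply, Submodule.coe_add, hp, hp']
      | monomial k c =>
        induction k generalizing r with
        | zero => simp [Algebra.algebraMap_eq_smul_one, Matrix.smul_mulVec, Matrix.one_mulVec]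
        | succ k ih =>
          rw [← monomial_mul_X, map_mul, map_mul, aeval_X, aeval_X, ← Matrix.mulVec_mulVec, Module.End.mul_apply,
            ← ih]
          rfl
    let Φ : (R × C) ≃ₗ[K] (Fin n → K) := Submodule.prodEquivOfIsCompl R C hRC
    have hconj : Matrix.toLin' x = Φ.conj ((aeval ((Matrix.toLin' G).restrict hRi) a).prodMap LinearMap.id) := by
      refine LinearMap.ext fun v => ?_
      obtain ⟨⟨r, c⟩, rfl⟩ := Φ.surjective v
      rw [LinearEquiv.conj_apply_apply, Φ.symm_apply_apply, Matrix.toLin'_apply]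
      show x *ᵥ Φ (r, c) = Φ (aeval ((Matrix.toLin' G).restrict hRi) a r, c)
      simp only [Φ, Submodule.coe_prodEquivOfIsCompl']
      rw [Matrix.mulVec_add, hxR r r.2, hxC c c.2, hAR]
    rw [← LinearMap.det_toLin', hconj, LinearEquiv.conj_apply, LinearMap.comp_assoc, LinearMap.det_conj,
      LinearMap.det_prodMap, LinearMap.det_id, mul_one, ha]
  have hxu : IsUnit x := (Matrix.isUnit_iff_isUnit_det x).2 (by rw [hdetx]; exact hd0.isUnit)
  have hxsu : IsUnit (tstar hK x) := (Matrix.isUnit_iff_isUnit_det _).2 (by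
    rw [det_tstar, hdetx]; exact (hd0.isUnit).map _)
  refine ⟨hxu.unit * hxsu.unit⁻¹, ?_, ?_, ?_⟩
  · rw [mem_GU_iff hK]
    show tstar hK (x * ((hxsu.unit⁻¹ : GL (Fin n) K) : Matrix (Fin n) (Fin n) K)) * (x * _) = 1
    set y := ((hxsu.unit⁻¹ : GL (Fin n) K) : Matrix (Fin n) (Fin n) K)
    have h1 : tstar hK x * y = 1 := hxsu.unit.mul_inv
    have h2 : tstar hK y * x = 1 := by
      have := congrArg (tstar hK) h1
      rwa [tstar_mul, tstar_tstar, tstar_one] at this
    rw [tstar_mul]
    calc tstar hK y * tstar hK x * (x * y) = tstar hK y * (tstar hK x * x) * y := by simp only [mul_assoc]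
      _ = (tstar hK y * x) * (tstar hK x * y) := by rw [← hxx.eq]; simp only [mul_assoc]
      _ = 1 := by rw [h1, h2, one_mul]
  · have c1 : Commute hxu.unit g := Units.ext hxG.eq
    have c2 : Commute hxsu.unit g := Units.ext hxsG.eq
    exact c1.mul_left c2.inv_left
  · rw [Units.val_mul, Matrix.det_mul, IsUnit.unit_spec, hdetx]
    have h1 : (tstar hK x).det * ((hxsu.unit⁻¹ : GL (Fin n) K) : Matrix (Fin n) (Fin n) K).det = 1 := by
      rw [← Matrix.det_mul, show tstar hK x * _ = 1 from hxsu.unit.mul_inv, Matrix.det_one]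
    rw [det_tstar, hdetx] at h1
    have h2 : d ^ q * ((hxsu.unit⁻¹ : GL (Fin n) K) : Matrix (Fin n) (Fin n) K).det = 1 := h1
    calc d * ((hxsu.unit⁻¹ : GL (Fin n) K) : Matrix (Fin n) (Fin n) K).det
        = e * (d ^ q * ((hxsu.unit⁻¹ : GL (Fin n) K) : Matrix (Fin n) (Fin n) K).det) := by rw [← mul_assoc, hd]
      _ = e := by rw [h2, mul_one]

include hK in
theorem isConj_SU (p : ℕ) [Fact p.Prime] [CharP K p] (g h : ↥(Cfsg.SU n K q)) (hg : (orderOf g).Coprime p)
    (hh : (orderOf h).Coprime p)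
    (hc : ((g : Matrix.SpecialLinearGroup (Fin n) K) : Matrix (Fin n) (Fin n) K).charpoly =
      ((h : Matrix.SpecialLinearGroup (Fin n) K) : Matrix (Fin n) (Fin n) K).charpoly) : IsConj g h := by
  classical
  rcases Nat.eq_zero_or_pos n with rfl | hn
  · rw [show g = h from Subtype.ext (Subsingleton.elim _ _)]
  set φ : ↥(Cfsg.SU n K q) →* GL (Fin n) K :=
    (Matrix.SpecialLinearGroup.toGL).comp (Cfsg.SU n K q).subtype with hφ
  have hφi : Function.Injective φ := Matrix.SpecialLinearGroup.toGL_injective.comp Subtype.val_injective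
  have hord : ∀ a, orderOf (φ a) = orderOf a := fun a => orderOf_injective φ hφi a
  have hmem : ∀ a : ↥(Cfsg.SU n K q), φ a ∈ Cfsg.GU n K q := fun a => a.2
  obtain ⟨x, hx⟩ := isConj_iff.1 (isConj_gl p (φ g) (φ h) (by rwa [hord]) (by rwa [hord]) hc)
  set X : Matrix (Fin n) (Fin n) K := (x : Matrix (Fin n) (Fin n) K) with hX
  set G : Matrix (Fin n) (Fin n) K := (φ g : Matrix (Fin n) (Fin n) K) with hG
  set H : Matrix (Fin n) (Fin n) K := (φ h : Matrix (Fin n) (Fin n) K) with hH
  have hxg : X * G = H * X := congrArg Units.val (mul_inv_eq_iff_eq_mul.1 hx)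
  have hGs := (mem_GU_iff hK _).1 (hmem g)
  have hHs := (mem_GU_iff hK _).1 (hmem h)
  set y : GL (Fin n) K := ⟨tstar hK X * X,
    ((x⁻¹ : GL (Fin n) K) : Matrix (Fin n) (Fin n) K) * tstar hK ((x⁻¹ : GL (Fin n) K) : Matrix (Fin n) (Fin n) K),
    by rw [← mul_assoc, mul_assoc (tstar hK X) X, hX, Units.mul_inv, mul_one, ← tstar_mul, Units.inv_mul, tstar_one],
    by rw [mul_assoc, ← mul_assoc (tstar hK ((x⁻¹ : GL (Fin n) K) : Matrix (Fin n) (Fin n) K)), ← tstar_mul, hX,
      Units.mul_inv, tstar_one, one_mul, Units.inv_mul]⟩ with hy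
  obtain ⟨c, hc1, hc2⟩ := exists_sqrt hK y (by
    show tstar hK (tstar hK X * X) = _
    rw [tstar_mul, tstar_tstar])
  have hyG : Commute G (y : Matrix (Fin n) (Fin n) K) := by
    have h1 : tstar hK G * (tstar hK X * X) * G = tstar hK X * X := by
      calc tstar hK G * (tstar hK X * X) * G = tstar hK (X * G) * (X * G) := by rw [tstar_mul]; simp only [mul_assoc]
        _ = tstar hK X * (tstar hK H * H) * X := by rw [hxg, tstar_mul]; simp only [mul_assoc]
        _ = _ := by rw [hHs, mul_one]
    show G * (tstar hK X * X) = (tstar hK X * X) * G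
    conv_lhs => rw [← h1]
    rw [← mul_assoc, ← mul_assoc, mul_eq_one_comm.1 hGs, one_mul]
  have hcg : Commute c (φ g) := Units.ext (hc2 G hyG).eq.symm
  set u : GL (Fin n) K := x * c⁻¹ with hu
  have huU : u ∈ Cfsg.GU n K q := by
    rw [mem_GU_iff hK, hu, Units.val_mul, tstar_mul]
    calc tstar hK ((c⁻¹ : GL (Fin n) K) : Matrix (Fin n) (Fin n) K) * tstar hK X * (X * _)
        = tstar hK ((c⁻¹ : GL (Fin n) K) : Matrix (Fin n) (Fin n) K) * (tstar hK (c : Matrix (Fin n) (Fin n) K) * c) *
          ((c⁻¹ : GL (Fin n) K) : Matrix (Fin n) (Fin n) K) := by rw [hc1]; simp only [hy, mul_assoc]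
      _ = 1 := by
        rw [← mul_assoc, ← tstar_mul, Units.mul_inv, tstar_one, one_mul, Units.mul_inv]
  have hug : u * φ g * u⁻¹ = φ h := by
    rw [← hx, hu, mul_inv_rev, inv_inv, mul_assoc x c⁻¹, (hcg.inv_left).eq]
    group
  have hss : Module.End.IsSemisimple (Matrix.toLin' G) :=
    isSemisimple_of_pow p _ hg (by
      show (Matrix.toLinAlgEquiv' G) ^ orderOf g = 1
      rw [← map_pow, hG, ← Units.val_pow_eq_pow_val, ← map_pow, pow_orderOf_eq_one, map_one, Units.val_one, map_one])
  have hdet : ((u : Matrix (Fin n) (Fin n) K).det⁻¹) ^ (q + 1) = 1 := by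
    have h1 := congrArg Matrix.det ((mem_GU_iff hK u).1 huU)
    rw [Matrix.det_mul, det_tstar, Matrix.det_one] at h1
    rw [inv_pow, pow_succ]
    exact inv_eq_one.2 h1
  obtain ⟨k, hkU, hkg, hkd⟩ := exists_commute_det hK hn (φ g) (hmem g) hss _ hdet
  set w : GL (Fin n) K := u * k with hw
  have hwd : (w : Matrix (Fin n) (Fin n) K).det = 1 := by
    rw [hw, Units.val_mul, Matrix.det_mul, hkd, mul_inv_cancel₀]
    exact (Matrix.isUnit_iff_isUnit_det _).1 u.isUnit |>.ne_zero
  have hwU : w ∈ Cfsg.GU n K q := mul_mem huU hkU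
  let w' : ↥(Cfsg.SU n K q) := ⟨⟨(w : Matrix (Fin n) (Fin n) K), hwd⟩, fun a b => hwU a b⟩
  have hw' : φ w' = w := Units.ext rfl
  refine isConj_iff.2 ⟨w', hφi ?_⟩
  rw [map_mul, map_mul, map_inv, hw', hw, ← hug, mul_inv_rev]
  rw [show u * k * φ g * (k⁻¹ * u⁻¹) = u * (k * φ g * k⁻¹) * u⁻¹ by group, hkg.eq]
  group

end Cfsg.Agent.Lib.Classical.UnitarySemisimpleConj
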